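import Cfsg.Agent.Lib.ConjFunctor.Reduce

/-!
# The reduction theorems for quotient-of-subgroup sections, and factorizations
-/

set_option autoImplicit false
set_option linter.unusedSectionVars false

open Cfsg
open Cfsg.Agent.Lib.Fusion.Alperin
open Cfsg.Agent.Lib.ConjFunctor.Basic
open Cfsg.Agent.Lib.ConjFunctor.Reach
open Cfsg.Agent.Lib.ConjFunctor.Local
open Cfsg.Agent.Lib.ConjFunctor.Section

namespace Cfsg.Agent.Lib.ConjFunctor.Main

universe u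

variable {p : ℕ} [hp : Fact p.Prime] {𝓦 : Set (∀ (Q : Type u) [Group Q], Subgroup Q)}
variable {G : Type u} [Group G] [Finite G]

theorem sf_of_loc (h𝓦 : ∀ W ∈ 𝓦, IsCharPFunctor.{u} p W)
    (hloc : ∀ (K R : Subgroup G) [(R.subgroupOf K).Normal],
      Constrained p (↥K ⧸ R.subgroupOf K) → SF 𝓦 p (↥K ⧸ R.subgroupOf K))
    (X : Type u) [Group X] [Finite X] (hX : IsSection X G) : SF 𝓦 p X :=
  Reduce.sf_main h𝓦 (fun Y _ _ hY hc => by
    obtain ⟨K, R, hn, ⟨e⟩⟩ := hY.exists_iso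
    exact sf_congr h𝓦 e (hloc K R (constrained_congr e.symm hc))) X hX

theorem tr_of_loc (h𝓦 : ∀ W ∈ 𝓦, IsCharPFunctor.{u} p W)
    (hloc : ∀ (K R : Subgroup G) [(R.subgroupOf K).Normal],
      Constrained p (↥K ⧸ R.subgroupOf K) → Tr 𝓦 p (↥K ⧸ R.subgroupOf K))
    (X : Type u) [Group X] [Finite X] (hX : IsSection X G) : Tr 𝓦 p X :=
  Reduce.tr_main h𝓦 (fun Y _ _ hY hc => by
    obtain ⟨K, R, hn, ⟨e⟩⟩ := hY.exists_iso
    exact tr_congr h𝓦 e (hloc K R (constrained_congr e.symm hc))) X hX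

/-- A product of two control subgroups containing `S` controls strong fusion. -/
theorem sfAt_of_mul (S : Sylow p G) {Φ : Set (Subgroup G → Subgroup G)} {N₁ N₂ : Subgroup G}
    (h₁ : (S : Subgroup G) ≤ N₁) (h₂ : (S : Subgroup G) ≤ N₂)
    (hΦ₁ : (N₁ : Set G) ⊆ stepSet Φ ⊤ (S : Subgroup G))
    (hΦ₂ : (N₂ : Set G) ⊆ stepSet Φ ⊤ (S : Subgroup G))
    (hmul : ∀ x : G, ∃ a ∈ N₁, ∃ b ∈ N₂, x = a * b) :
    SFAt Φ ⊤ (S : Subgroup G) := by
  intro A h _ hA hhA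
  obtain ⟨a, ha, b, hb, rfl⟩ := hmul h
  have hB : conjS b (Subgroup.closure A) ≤ N₁ ⊓ N₂ := by
    rw [conjS, MonoidHom.map_closure, Subgroup.closure_le]
    rintro _ ⟨x, hx, rfl⟩
    refine Subgroup.mem_inf.2 ⟨?_, mul_mem (mul_mem hb (h₂ (hA hx))) (inv_mem hb)⟩
    have h3 := mul_mem (mul_mem (inv_mem ha) (h₁ (hhA (mem_cimg hx)))) ha
    rwa [show a⁻¹ * (a * b * x * (a * b)⁻¹) * a = b * x * b⁻¹ by group] at h3
  obtain ⟨d, hd, hdB⟩ := ((isSyl_top S).mono (le_inf h₁ h₂) le_top).exists_conj_le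
    ((S.2.to_le ((Subgroup.closure_le _).2 hA)).map _) hB
  have hd' := Subgroup.mem_inf.1 hd
  have hdb : cimg (d * b) A ⊆ (S : Subgroup G) := by
    rintro _ ⟨x, hx, rfl⟩
    have h3 := hdB (conj_mem_conjS (conj_mem_conjS (Subgroup.subset_closure hx)))
    rwa [show d * (b * x * b⁻¹) * d⁻¹ = d * b * x * (d * b)⁻¹ by group] at h3
  have c := (Chain.single (hΦ₂ (mul_mem hd'.2 hb)) hA hdb).comp
    (Chain.single (x := a * d⁻¹) (hΦ₁ (mul_mem ha (inv_mem hd'.1))) hdb (by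
      rw [← cimg_mul, show a * d⁻¹ * (d * b) = a * b by group]; exact hhA))
  rwa [show a * d⁻¹ * (d * b) = a * b by group] at c

end Cfsg.Agent.Lib.ConjFunctor.Main
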