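import Cfsg.Prelude.Def_ConjugacyFunctors
import Cfsg.Agent.Lib.Fusion.Alperin
import Mathlib.GroupTheory.Nilpotent

/-!
# The K-sequence of a finite `p`-group
-/

set_option autoImplicit false
set_option linter.unusedSectionVars false

open Cfsg

open scoped commutatorElement

namespace Cfsg.Agent.Lib.ConjFunctor.KInf

variable {P : Type*} [Group P]

/-! ### Monotonicity -/

theorem up_anti {Q Q' : Subgroup P} (h : Q ≤ Q') : kUpperStarFamily Q' ⊆ kUpperStarFamily Q :=
  fun _ hB => ⟨hB.1, (Subgroup.commutator_mono le_rfl h).trans hB.2⟩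

theorem lo_anti {Q Q' : Subgroup P} (h : Q ≤ Q') : kLowerStarFamily Q' ⊆ kLowerStarFamily Q :=
  fun _ hB => ⟨hB.1, h.trans hB.2.1, fun A hA hAQ => hB.2.2 A hA (hAQ.trans h)⟩

theorem odd_succ (n : ℕ) :
    kSeqOdd P (n + 1) = sSup (kUpperStarFamily (kSeqEven P n)) := rfl

theorem odd_succ_le (n : ℕ) : kSeqOdd P (n + 1) ≤ kSeqOdd P n := by
  induction n with
  | zero => exact le_top
  | succ n ih =>
    exact sSup_le_sSup (up_anti (sSup_le_sSup (lo_anti ih)))

theorem odd_antitone : Antitone (kSeqOdd P) := antitone_nat_of_succ_le odd_succ_le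

theorem even_monotone : Monotone (kSeqEven P) := fun _ _ h => sSup_le_sSup (lo_anti (odd_antitone h))

theorem exists_stable [Finite P] : ∃ n : ℕ, ∀ m : ℕ, n ≤ m →
    kSeqEven P m = kInfLower P ∧ kSeqOdd P m = kInfUpper P := by
  obtain ⟨_, ⟨i, rfl⟩, hi⟩ := (Set.toFinite (Set.range (kSeqEven P))).exists_maximal (Set.range_nonempty _)
  obtain ⟨_, ⟨j, rfl⟩, hj⟩ := (Set.toFinite (Set.range (kSeqOdd P))).exists_minimal (Set.range_nonempty _)
  refine ⟨max i j, fun m hm => ⟨?_, ?_⟩⟩
  · refine le_antisymm (le_iSup (kSeqEven P) m) (iSup_le fun k => ?_)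
    exact ((even_monotone (le_max_left k i)).trans
      (hi ⟨max k i, rfl⟩ (even_monotone (le_max_right k i)))).trans
      (even_monotone ((le_max_left i j).trans hm))
  · refine le_antisymm (le_iInf fun k => ?_) (iInf_le (kSeqOdd P) m)
    exact ((odd_antitone ((le_max_right i j).trans hm)).trans
      (hj ⟨max k j, rfl⟩ (odd_antitone (le_max_right k j)))).trans (odd_antitone (le_max_left k j))

/-! ### Abelian normal subgroups -/

section Abelian

variable {A : Subgroup P} [hA : A.Normal]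

theorem le_centralizer_self (hc : IsMulCommutative A) : A ≤ Subgroup.centralizer (A : Set P) :=
  fun x hx => Subgroup.mem_centralizer_iff.2 fun y hy =>
    congrArg Subtype.val (mul_comm' (⟨y, hy⟩ : A) ⟨x, hx⟩)

theorem classTwo_of_abelian (hc : IsMulCommutative A) : A ∈ classTwoSubgroups P :=
  (Subgroup.commutator_le_self A).trans (le_centralizer_self hc)

theorem mem_up_of_abelian (hc : IsMulCommutative A) (Q : Subgroup P) : A ∈ kUpperStarFamily Q :=
  ⟨classTwo_of_abelian hc, le_inf (Subgroup.commutator_le_left A Q)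
    ((Subgroup.commutator_le_left A Q).trans (le_centralizer_self hc))⟩

theorem mem_lo_of_abelian (hc : IsMulCommutative A) (Q : Subgroup P) : A ∈ kLowerStarFamily Q :=
  ⟨classTwo_of_abelian hc, Subgroup.le_normalizer_of_normal, fun B _ _ _ _ _ =>
    le_inf (Subgroup.commutator_le_left A B)
      ((Subgroup.commutator_le_left A B).trans (le_centralizer_self hc))⟩

theorem le_odd_of_abelian (hc : IsMulCommutative A) : ∀ n, A ≤ kSeqOdd P n
  | 0 => le_top
  | _ + 1 => le_sSup (mem_up_of_abelian hc _)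

theorem le_even_of_abelian (hc : IsMulCommutative A) (n : ℕ) : A ≤ kSeqEven P n :=
  le_sSup (mem_lo_of_abelian hc _)

end Abelian

/-! ### Maximal members contain their centralizers -/

/-- The elements normalizing `Z` whose commutators with `Q` lie in `Z`. -/
def commInto (Z Q : Subgroup P) : Subgroup P where
  carrier := {a | a ∈ Subgroup.normalizer (Z : Set P) ∧ ∀ q ∈ Q, ⁅a, q⁆ ∈ Z}
  mul_mem' := fun {a b} ha hb => ⟨mul_mem ha.1 hb.1, fun q hq => by
    rw [show ⁅a * b, q⁆ = a * ⁅b, q⁆ * a⁻¹ * ⁅a, q⁆ by group]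
    exact mul_mem ((Subgroup.mem_normalizer_iff.1 ha.1 _).1 (hb.2 q hq)) (ha.2 q hq)⟩
  one_mem' := ⟨one_mem _, fun q _ => by rw [commutatorElement_one_left]; exact one_mem Z⟩
  inv_mem' := fun {a} ha => ⟨inv_mem ha.1, fun q hq => by
    rw [show ⁅a⁻¹, q⁆ = a⁻¹ * ⁅a, q⁆⁻¹ * a⁻¹⁻¹ by group]
    exact (Subgroup.mem_normalizer_iff.1 (inv_mem ha.1) _).1 (inv_mem (ha.2 q hq))⟩

theorem mem_normalizer_of_mem_centralizer {B : Subgroup P} {a : P}
    (ha : a ∈ Subgroup.centralizer (B : Set P)) {Z : Subgroup P} (hZ : Z ≤ B) :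
    a ∈ Subgroup.normalizer (Z : Set P) :=
  Subgroup.centralizer_le_normalizer _ (Subgroup.centralizer_le (SetLike.coe_subset_coe.2 hZ) ha)

/-- If `C(B) ≰ B`, a member `B` of one of the families extends by a central element. -/
theorem exists_extension [Group.IsNilpotent P] {B Q : Subgroup P}
    (hQ : Q ≤ Subgroup.normalizer (B : Set P))
    (hB : ¬ Subgroup.centralizer (B : Set P) ≤ B) :
    ∃ x, x ∈ Subgroup.centralizer (B : Set P) ∧ x ∉ B ∧
      x ∈ commInto (B ⊓ Subgroup.centralizer (B : Set P)) Q := by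
  set C := Subgroup.centralizer (B : Set P) with hC
  set Z := B ⊓ C with hZ
  set H := Q ⊔ C with hH
  have hHC : H ≤ Subgroup.normalizer (C : Set P) := by
    refine sup_le (fun q hq => ?_) Subgroup.le_normalizer
    rw [Subgroup.mem_normalizer_iff]
    intro c
    have hb : ∀ b, b ∈ B ↔ q * b * q⁻¹ ∈ B := Subgroup.mem_normalizer_iff.1 (hQ hq)
    constructor
    · intro hc
      refine Subgroup.mem_centralizer_iff.2 fun b hb' => ?_
      have h1 : q⁻¹ * b * q ∈ B :=
        (hb _).2 (by rw [show q * (q⁻¹ * b * q) * q⁻¹ = b by group]; exact hb')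
      have h2 := Subgroup.mem_centralizer_iff.1 hc _ h1
      calc b * (q * c * q⁻¹) = q * ((q⁻¹ * b * q) * c) * q⁻¹ := by group
        _ = q * (c * (q⁻¹ * b * q)) * q⁻¹ := by rw [h2]
        _ = q * c * q⁻¹ * b := by group
    · intro hc
      refine Subgroup.mem_centralizer_iff.2 fun b hb' => ?_
      have h2 := Subgroup.mem_centralizer_iff.1 hc _ ((hb b).1 hb')
      calc b * c = q⁻¹ * ((q * b * q⁻¹) * (q * c * q⁻¹)) * q := by group
        _ = q⁻¹ * ((q * c * q⁻¹) * (q * b * q⁻¹)) * q := by rw [h2]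
        _ = c * b := by group
  let Cn : ℕ → Subgroup P := fun n => Nat.rec C (fun _ X => ⁅X, H⁆) n
  have hCn : ∀ n, Cn n ≤ C := by
    intro n
    induction n with
    | zero => exact le_rfl
    | succ n ih =>
      refine Subgroup.commutator_le.2 fun a ha h hh => ?_
      have h1 := (Subgroup.mem_normalizer_iff.1 (hHC hh) _).1 (inv_mem (ih ha))
      rw [show ⁅a, h⁆ = a * (h * a⁻¹ * h⁻¹) by group]
      exact mul_mem (ih ha) h1
  have hlow : ∀ n, Cn n ≤ (⊤ : Subgroup P).lowerCentralSeries n := by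
    intro n
    induction n with
    | zero => exact le_top
    | succ n ih => exact Subgroup.commutator_mono ih le_top
  obtain ⟨N, hN⟩ := Subgroup.nilpotent_iff_lowerCentralSeries.1 (inferInstance : Group.IsNilpotent P)
  obtain ⟨n, hnot, hle⟩ : ∃ n, ¬ Cn n ≤ Z ∧ Cn (n + 1) ≤ Z := by
    by_contra hcon
    simp only [not_exists, not_and] at hcon
    have hall : ∀ m, ¬ Cn m ≤ Z := by
      intro m
      induction m with
      | zero => exact fun h => hB (le_trans (show C ≤ Z from h) inf_le_left)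
      | succ m ih => exact hcon m ih
    exact hall N (((hlow N).trans hN.le).trans bot_le)
  obtain ⟨x, hx, hxZ⟩ := SetLike.not_le_iff_exists.1 hnot
  refine ⟨x, hCn n hx, fun h => hxZ (Subgroup.mem_inf.2 ⟨h, hCn n hx⟩),
    mem_normalizer_of_mem_centralizer (hCn n hx) inf_le_left, fun q hq => ?_⟩
  exact hle (Subgroup.commutator_mem_commutator hx (le_sup_left (b := C) hq))

section Extend

variable {B : Subgroup P} {x : P}

theorem center_le_extend (hx : x ∈ Subgroup.centralizer (B : Set P)) :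
    B ⊓ Subgroup.centralizer (B : Set P) ≤
      (B ⊔ Subgroup.zpowers x) ⊓ Subgroup.centralizer ((B ⊔ Subgroup.zpowers x : Subgroup P) : Set P) := by
  intro z hz
  refine Subgroup.mem_inf.2 ⟨le_sup_left (b := Subgroup.zpowers x) (Subgroup.mem_inf.1 hz).1, ?_⟩
  have hle : B ⊔ Subgroup.zpowers x ≤ Subgroup.centralizer ({z} : Set P) := by
    refine sup_le (fun b hb => Subgroup.mem_centralizer_singleton_iff.2 ?_)
      (Subgroup.zpowers_le.2 (Subgroup.mem_centralizer_singleton_iff.2 ?_))
    · exact (Subgroup.mem_centralizer_iff.1 (Subgroup.mem_inf.1 hz).2 b hb)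
    · exact (Subgroup.mem_centralizer_iff.1 hx z (Subgroup.mem_inf.1 hz).1).symm
  exact Subgroup.mem_centralizer_iff.2 fun y hy => Subgroup.mem_centralizer_singleton_iff.1 (hle hy)

theorem commutator_extend_le (hx : x ∈ Subgroup.centralizer (B : Set P))
    (h2 : B ∈ classTwoSubgroups P) :
    ⁅B ⊔ Subgroup.zpowers x, B ⊔ Subgroup.zpowers x⁆ ≤ B ⊓ Subgroup.centralizer (B : Set P) := by
  set Z := B ⊓ Subgroup.centralizer (B : Set P) with hZ
  have hBB : ⁅B, B⁆ ≤ Z := le_inf (Subgroup.commutator_le_self B) h2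
  have hBN : B ≤ Subgroup.normalizer (Z : Set P) := by
    intro b hb
    refine Subgroup.centralizer_le_normalizer _ (Subgroup.mem_centralizer_iff.2 fun z hz => ?_)
    exact (Subgroup.mem_centralizer_iff.1 (Subgroup.mem_inf.1 hz).2 b hb).symm
  have hxN : x ∈ Subgroup.normalizer (Z : Set P) := mem_normalizer_of_mem_centralizer hx inf_le_left
  have hinto : ∀ y ∈ B ⊔ Subgroup.zpowers x, y ∈ commInto Z (B ⊔ Subgroup.zpowers x) := by
    have h1 : B ⊔ Subgroup.zpowers x ≤ commInto Z B := by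
      refine sup_le (fun b hb => ⟨hBN hb, fun q hq =>
        hBB (Subgroup.commutator_mem_commutator hb hq)⟩) (Subgroup.zpowers_le.2 ⟨hxN, fun q hq => ?_⟩)
      rw [commutatorElement_eq_one_iff_mul_comm.2 (Subgroup.mem_centralizer_iff.1 hx q hq).symm]
      exact one_mem Z
    have h2' : B ⊔ Subgroup.zpowers x ≤ commInto Z (Subgroup.zpowers x) := by
      refine sup_le (fun b hb => ⟨hBN hb, fun q hq => ?_⟩)
        (Subgroup.zpowers_le.2 ⟨hxN, fun q hq => ?_⟩)
      · obtain ⟨k, rfl⟩ := Subgroup.mem_zpowers_iff.1 hq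
        rw [commutatorElement_eq_one_iff_mul_comm.2
          (Commute.zpow_right (Subgroup.mem_centralizer_iff.1 hx b hb) k)]
        exact one_mem Z
      · obtain ⟨k, rfl⟩ := Subgroup.mem_zpowers_iff.1 hq
        rw [commutatorElement_eq_one_iff_mul_comm.2 (Commute.zpow_right (Commute.refl x) k)]
        exact one_mem Z
    intro y hy
    refine ⟨(h1 hy).1, fun q hq => ?_⟩
    have hle : B ⊔ Subgroup.zpowers x ≤ commInto Z (Subgroup.zpowers y) := by
      refine sup_le (fun b hb => ⟨hBN hb, fun r hr => ?_⟩)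
        (Subgroup.zpowers_le.2 ⟨hxN, fun r hr => ?_⟩)
      · rw [← commutatorElement_inv]
        exact inv_mem ((h1 (Subgroup.zpowers_le.2 hy hr)).2 b hb)
      · rw [← commutatorElement_inv]
        exact inv_mem ((h2' (Subgroup.zpowers_le.2 hy hr)).2 x (Subgroup.mem_zpowers x))
    rw [← commutatorElement_inv]
    exact inv_mem ((hle hq).2 y (Subgroup.mem_zpowers y))
  exact Subgroup.commutator_le.2 fun a ha b hb => (hinto a ha).2 b hb

theorem classTwo_extend (hx : x ∈ Subgroup.centralizer (B : Set P)) (h2 : B ∈ classTwoSubgroups P) :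
    B ⊔ Subgroup.zpowers x ∈ classTwoSubgroups P :=
  (commutator_extend_le hx h2).trans ((center_le_extend hx).trans inf_le_right)

/-- `[B, A] ≤ Z(B)` passes to the extension. -/
theorem commutator_extend_le_center (hx : x ∈ Subgroup.centralizer (B : Set P)) {A : Subgroup P}
    (hA : ⁅B, A⁆ ≤ B ⊓ Subgroup.centralizer (B : Set P))
    (hxA : x ∈ commInto (B ⊓ Subgroup.centralizer (B : Set P)) A) :
    ⁅B ⊔ Subgroup.zpowers x, A⁆ ≤
      (B ⊔ Subgroup.zpowers x) ⊓ Subgroup.centralizer ((B ⊔ Subgroup.zpowers x : Subgroup P) : Set P) := by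
  refine le_trans (Subgroup.commutator_le.2 fun b hb a ha => ?_) (center_le_extend hx)
  have hle : B ⊔ Subgroup.zpowers x ≤ commInto (B ⊓ Subgroup.centralizer (B : Set P)) A := by
    refine sup_le (fun c hc => ⟨?_, fun q hq => hA (Subgroup.commutator_mem_commutator hc hq)⟩)
      (Subgroup.zpowers_le.2 hxA)
    refine Subgroup.centralizer_le_normalizer _ (Subgroup.mem_centralizer_iff.2 fun z hz => ?_)
    exact (Subgroup.mem_centralizer_iff.1 (Subgroup.mem_inf.1 hz).2 c hc).symm
  exact (hle hb).2 a ha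

theorem not_mem_extend (hxB : x ∉ B) : B ⊔ Subgroup.zpowers x ≠ B := fun h =>
  hxB (h ▸ le_sup_right (a := B) (Subgroup.mem_zpowers x))

end Extend

variable [Group.IsNilpotent P] {B : Subgroup P}

theorem centralizer_le_classTwo (hB : B ∈ classTwoSubgroups P)
    (hmax : ∀ C ∈ classTwoSubgroups P, B ≤ C → C = B) : Subgroup.centralizer (B : Set P) ≤ B := by
  by_contra hC
  obtain ⟨x, hx, hxB, -⟩ := exists_extension (Q := ⊥) bot_le hC
  exact not_mem_extend hxB (hmax _ (classTwo_extend hx hB) le_sup_left)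

theorem normalizer_of_up [Finite P] {Q : Subgroup P} (hB : B ∈ kUpperStarFamily Q) :
    Q ≤ Subgroup.normalizer (B : Set P) := by
  intro q hq
  refine Fusion.Alperin.mem_normalizer_of_conjS_eq
    (Subgroup.eq_of_le_of_card_ge ?_ (Fusion.Alperin.card_conjS q B).ge)
  rintro _ ⟨b, hb, rfl⟩
  have h1 : ⁅b, q⁆ ∈ B := (hB.2.trans inf_le_left) (Subgroup.commutator_mem_commutator hb hq)
  have h2 := mul_mem (inv_mem h1) hb
  rwa [show ⁅b, q⁆⁻¹ * b = q * b * q⁻¹ by group] at h2

theorem centralizer_le_up [Finite P] {Q : Subgroup P} (hB : B ∈ kUpperStarFamily Q)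
    (hmax : ∀ C ∈ kUpperStarFamily Q, B ≤ C → C = B) : Subgroup.centralizer (B : Set P) ≤ B := by
  by_contra hC
  obtain ⟨x, hx, hxB, hxQ⟩ := exists_extension (normalizer_of_up hB) hC
  exact not_mem_extend hxB (hmax _
    ⟨classTwo_extend hx hB.1, commutator_extend_le_center hx hB.2 hxQ⟩ le_sup_left)

theorem centralizer_le_lo [Finite P] {Q : Subgroup P} (hB : B ∈ kLowerStarFamily Q)
    (hmax : ∀ C ∈ kLowerStarFamily Q, B ≤ C → C = B) : Subgroup.centralizer (B : Set P) ≤ B := by
  by_contra hC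
  obtain ⟨x, hx, hxB, hxQ⟩ := exists_extension hB.2.1 hC
  refine not_mem_extend hxB (hmax _ ⟨classTwo_extend hx hB.1, ?_, fun A hA hAQ hnorm hcom hquad => ?_⟩
    le_sup_left)
  · intro q hq
    refine Fusion.Alperin.mem_normalizer_of_conjS_eq
      (Subgroup.eq_of_le_of_card_ge ?_ (Fusion.Alperin.card_conjS q _).ge)
    rw [Fusion.Alperin.conjS, Subgroup.map_sup, MonoidHom.map_zpowers]
    refine sup_le ?_ (Subgroup.zpowers_le.2 ?_)
    · refine le_trans ?_ le_sup_left
      exact (Fusion.Alperin.conjS_eq_of_mem_normalizer (hB.2.1 hq)).le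
    · have h1 : ⁅x, q⁆ ∈ B := (Subgroup.mem_inf.1 (hxQ.2 q hq)).1
      have h2 := mul_mem (le_sup_left (b := Subgroup.zpowers x) (inv_mem h1))
        (le_sup_right (a := B) (Subgroup.mem_zpowers x))
      rwa [show ⁅x, q⁆⁻¹ * x = q * x * q⁻¹ by group] at h2
  · refine commutator_extend_le_center hx (hB.2.2 A hA hAQ (le_sup_left.trans hnorm) ?_ ?_)
      ⟨hxQ.1, fun q hq => hxQ.2 q (hAQ hq)⟩
    · exact le_bot_iff.1 ((Subgroup.commutator_mono le_sup_left le_rfl).trans hcom.le)
    · exact le_bot_iff.1 ((Subgroup.commutator_mono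
        (Subgroup.commutator_mono (center_le_extend hx) le_rfl) le_rfl).trans hquad.le)

/-- `C(K) ≤ K` for both K-infinity subgroups. -/
theorem centralizer_kInf [Finite P] :
    Subgroup.centralizer (kInfLower P : Set P) ≤ kInfLower P ∧
      Subgroup.centralizer (kInfUpper P : Set P) ≤ kInfUpper P := by
  obtain ⟨n, hn⟩ := exists_stable (P := P)
  have hbot : IsMulCommutative (Subgroup.center P) := inferInstance
  have key : ∀ F : Set (Subgroup P), F.Nonempty →
      (∀ B ∈ F, (∀ C ∈ F, B ≤ C → C = B) → Subgroup.centralizer (B : Set P) ≤ B) →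
      Subgroup.centralizer ((sSup F : Subgroup P) : Set P) ≤ sSup F := by
    intro F hF h
    obtain ⟨B, hB, hmax⟩ := (Set.toFinite F).exists_maximal hF
    exact (Subgroup.centralizer_le (SetLike.coe_subset_coe.2 (le_sSup hB))).trans
      ((h B hB fun C hC hBC => le_antisymm (hmax hC hBC) hBC).trans (le_sSup hB))
  constructor
  · rw [← (hn n le_rfl).1]
    exact key _ ⟨_, mem_lo_of_abelian hbot _⟩ fun B hB hmax => centralizer_le_lo hB hmax
  · rw [← (hn (n + 1) (Nat.le_succ n)).2, odd_succ]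
    exact key _ ⟨_, mem_up_of_abelian hbot _⟩ fun B hB hmax => centralizer_le_up hB hmax

/-! ### Computing inside a subgroup -/

section Sub

omit [Group.IsNilpotent P]

variable {L : Type*} [Group L] {f : L →* P}

theorem map_inj (hf : Function.Injective f) {A B : Subgroup L} : A.map f ≤ B.map f ↔ A ≤ B :=
  Subgroup.map_le_map_iff_of_injective hf

theorem map_center (hf : Function.Injective f) (B : Subgroup L) :
    (B ⊓ Subgroup.centralizer (B : Set L)).map f =
      B.map f ⊓ Subgroup.centralizer (B.map f : Set P) := by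
  ext x
  constructor
  · rintro ⟨y, hy, rfl⟩
    refine Subgroup.mem_inf.2 ⟨⟨y, (Subgroup.mem_inf.1 hy).1, rfl⟩,
      Subgroup.mem_centralizer_iff.2 ?_⟩
    rintro _ ⟨b, hb, rfl⟩
    rw [← map_mul, ← map_mul, Subgroup.mem_centralizer_iff.1 (Subgroup.mem_inf.1 hy).2 b hb]
  · intro hx
    obtain ⟨hxB, hxC⟩ := Subgroup.mem_inf.1 hx
    obtain ⟨y, hy, rfl⟩ := hxB
    refine ⟨y, Subgroup.mem_inf.2 ⟨hy, Subgroup.mem_centralizer_iff.2 fun b hb => hf ?_⟩, rfl⟩
    rw [map_mul, map_mul]
    exact Subgroup.mem_centralizer_iff.1 hxC _ ⟨b, hb, rfl⟩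

theorem mem_classTwo_iff {H : Type*} [Group H] (C : Subgroup H) :
    C ∈ classTwoSubgroups H ↔ ⁅C, C⁆ ≤ C ⊓ Subgroup.centralizer (C : Set H) :=
  ⟨fun h => le_inf (Subgroup.commutator_le_self C) h, fun h => h.trans inf_le_right⟩

theorem classTwo_map (hf : Function.Injective f) {B : Subgroup L} :
    B.map f ∈ classTwoSubgroups P ↔ B ∈ classTwoSubgroups L := by
  rw [mem_classTwo_iff, mem_classTwo_iff, ← map_center hf, ← Subgroup.map_commutator, map_inj hf]

theorem up_map (hf : Function.Injective f) {B R : Subgroup L} :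
    B.map f ∈ kUpperStarFamily (R.map f) ↔ B ∈ kUpperStarFamily R := by
  refine and_congr (classTwo_map hf) ?_
  rw [← map_center hf, ← Subgroup.map_commutator, map_inj hf]

theorem le_normalizer_map [Finite P] (hf : Function.Injective f) {B R : Subgroup L} :
    R.map f ≤ Subgroup.normalizer (B.map f : Set P) ↔ R ≤ Subgroup.normalizer (B : Set L) := by
  have hmem : ∀ b : L, f b ∈ B.map f ↔ b ∈ B := fun b => Subgroup.mem_map_iff_mem hf
  constructor
  · intro h r hr
    rw [Subgroup.mem_normalizer_iff]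
    intro b
    have h1 := Subgroup.mem_normalizer_iff.1 (h ⟨r, hr, rfl⟩) (f b)
    rwa [← map_inv, ← map_mul, ← map_mul, hmem, hmem] at h1
  · intro h
    rintro _ ⟨r, hr, rfl⟩
    refine Fusion.Alperin.mem_normalizer_of_conjS_eq
      (Subgroup.eq_of_le_of_card_ge ?_ (Fusion.Alperin.card_conjS _ _).ge)
    rintro _ ⟨_, ⟨b, hb, rfl⟩, rfl⟩
    exact ⟨r * b * r⁻¹, (Subgroup.mem_normalizer_iff.1 (h hr) b).1 hb, by simp⟩

theorem lo_map [Finite P] (hf : Function.Injective f) {B R : Subgroup L} :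
    B.map f ∈ kLowerStarFamily (R.map f) ↔ B ∈ kLowerStarFamily R := by
  refine and_congr (classTwo_map hf) (and_congr (le_normalizer_map hf) ⟨fun h A hA hAR hBA h1 h2 => ?_,
    fun h A hA hAR hBA h1 h2 => ?_⟩)
  · have := h (A.map f) ((classTwo_map hf).2 hA) ((map_inj hf).2 hAR) ((le_normalizer_map hf).2 hBA)
      (by rw [← Subgroup.map_commutator, ← Subgroup.map_commutator, h1, Subgroup.map_bot])
      (by rw [← map_center hf, ← Subgroup.map_commutator, ← Subgroup.map_commutator, h2,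
        Subgroup.map_bot])
    rwa [← map_center hf, ← Subgroup.map_commutator, map_inj hf] at this
  · have hAQ : A ≤ f.range := hAR.trans (MonoidHom.range_eq_map f ▸ Subgroup.map_mono le_top)
    have e : (A.comap f).map f = A := Subgroup.map_comap_eq_self hAQ
    rw [← e] at hA hAR hBA h1 h2 ⊢
    rw [← map_center hf, ← Subgroup.map_commutator, map_inj hf]
    refine h _ ((classTwo_map hf).1 hA) ((map_inj hf).1 hAR) ((le_normalizer_map hf).1 hBA) ?_ ?_
    · rwa [← Subgroup.map_commutator, ← Subgroup.map_commutator,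
        Subgroup.map_eq_bot_iff_of_injective _ hf] at h1
    · rwa [← map_center hf, ← Subgroup.map_commutator, ← Subgroup.map_commutator,
        Subgroup.map_eq_bot_iff_of_injective _ hf] at h2

theorem map_sSup_le {F : Set (Subgroup L)} {F' : Set (Subgroup P)}
    (h : ∀ B ∈ F, B.map f ∈ F') : (sSup F).map f ≤ sSup F' := by
  rw [Subgroup.map_le_iff_le_comap]
  exact sSup_le fun B hB => Subgroup.map_le_iff_le_comap.1 (le_sSup (h B hB))

theorem sSup_le_map {F : Set (Subgroup L)} {F' : Set (Subgroup P)} (hle : sSup F' ≤ f.range)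
    (h : ∀ B : Subgroup L, B.map f ∈ F' → B ∈ F) : sSup F' ≤ (sSup F).map f := by
  refine sSup_le fun B hB => ?_
  have e : (B.comap f).map f = B := Subgroup.map_comap_eq_self ((le_sSup hB).trans hle)
  rw [← e]
  exact Subgroup.map_mono (le_sSup (h _ (by rw [e]; exact hB)))

/-- The K-infinity subgroups of a group mapped injectively onto a subgroup containing the K-sequence. -/
theorem kInf_map_hom.{v} [Finite P] {L : Type v} [Group L] (f : L →* P) (hf : Function.Injective f)
    (hQ : ∀ n : ℕ, kSeqEven P n ≤ f.range ∧ kSeqOdd P (n + 1) ≤ f.range) :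
    (kInfLower L).map f = kInfLower P ∧ (kInfUpper L).map f = kInfUpper P := by
  set a : ℕ → Subgroup P := fun n => (kSeqEven L n).map f with ha
  set b : ℕ → Subgroup P := fun n => (kSeqOdd L n).map f with hb
  have hE : ∀ n, kSeqOdd P (n + 1) ≤ b n → b n ≤ kSeqOdd P n →
      kSeqEven P n ≤ a n ∧ a n ≤ kSeqEven P (n + 1) := by
    intro n h1 h2
    refine ⟨sSup_le_map (hQ n).1 fun B hB => (lo_map hf).1 (lo_anti h2 hB), ?_⟩
    exact (map_sSup_le fun B hB => lo_anti h1 ((lo_map hf).2 hB))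
  have hmain : ∀ n, kSeqOdd P (n + 1) ≤ b n ∧ b n ≤ kSeqOdd P n := by
    intro n
    induction n with
    | zero =>
      refine ⟨?_, le_top⟩
      show _ ≤ (⊤ : Subgroup L).map f
      rw [← MonoidHom.range_eq_map]
      exact (hQ 0).2
    | succ n ih =>
      obtain ⟨h3, h4⟩ := hE n ih.1 ih.2
      exact ⟨sSup_le_map (hQ (n + 1)).2 fun B hB => (up_map hf).1 (up_anti h4 hB),
        map_sSup_le fun B hB => up_anti h3 ((up_map hf).2 hB)⟩
  constructor
  · rw [kInfLower, Subgroup.map_iSup]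
    exact le_antisymm (iSup_le fun n => (hE n (hmain n).1 (hmain n).2).2.trans (le_iSup _ (n + 1)))
      (iSup_mono fun n => (hE n (hmain n).1 (hmain n).2).1)
  · rw [kInfUpper, Subgroup.map_iInf _ hf]
    exact le_antisymm (iInf_mono fun n => (hmain n).2)
      (le_iInf fun n => (iInf_le _ (n + 1)).trans (hmain n).1)

theorem kInf_map [Finite P] (Q : Subgroup P)
    (hQ : ∀ n : ℕ, kSeqEven P n ≤ Q ∧ kSeqOdd P (n + 1) ≤ Q) :
    (kInfLower ↥Q).map Q.subtype = kInfLower P ∧ (kInfUpper ↥Q).map Q.subtype = kInfUpper P :=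
  kInf_map_hom Q.subtype Q.subtype_injective (by rwa [Subgroup.range_subtype])

theorem kInf_map_equiv.{v} [Finite P] {L : Type v} [Group L] (e : L ≃* P) :
    (kInfLower L).map e.toMonoidHom = kInfLower P ∧ (kInfUpper L).map e.toMonoidHom = kInfUpper P :=
  kInf_map_hom e.toMonoidHom e.injective fun _ => by
    rw [MonoidHom.range_eq_top.2 e.surjective]; exact ⟨le_top, le_top⟩

end Sub

end Cfsg.Agent.Lib.ConjFunctor.KInf
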