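import Cfsg.Agent.Lib.ConjFunctor.Chief
import Cfsg.Agent.Lib.ConjFunctor.KInf

/-!
# Degrees of unipotent action on chief factors inside a `p`-group and inside a critical subgroup
-/

set_option autoImplicit false
set_option linter.unusedSectionVars false

open Cfsg
open Cfsg.Agent.Lib.ConjFunctor.Chief
open Cfsg.Agent.Lib.ConjFunctor.KInf (commInto)

open scoped commutatorElement

namespace Cfsg.Agent.Lib.ConjFunctor.Degree

variable {G : Type*} [Group G]

/-- `x ↦ [g, x]`. -/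
abbrev dd (g : G) : G → G := fun x => g * x * g⁻¹ * x⁻¹

theorem dd_conj (g x : G) : dd g (g * x * g⁻¹) = g * dd g x * g⁻¹ := by simp [dd, mul_assoc]

theorem dd_iter_conj (g : G) : ∀ (n : ℕ) (x : G), (dd g)^[n] (g * x * g⁻¹) = g * (dd g)^[n] x * g⁻¹
  | 0, _ => rfl
  | n + 1, x => by
    rw [Function.iterate_succ_apply, dd_conj, dd_iter_conj g n, ← Function.iterate_succ_apply]

theorem dd_iter_conj_inv (g : G) (n : ℕ) (x : G) :
    (dd g)^[n] (g⁻¹ * x * g) = g⁻¹ * (dd g)^[n] x * g := by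
  have h := dd_iter_conj g n (g⁻¹ * x * g)
  rw [show g * (g⁻¹ * x * g) * g⁻¹ = x by group] at h
  rw [h]; group

theorem dd_mem {N : Subgroup G} [hN : N.Normal] (g : G) {x : G} (hx : x ∈ N) : dd g x ∈ N :=
  mul_mem (hN.conj_mem x hx g) (inv_mem hx)

theorem dd_iter_mem {N : Subgroup G} [N.Normal] (g : G) {x : G} (hx : x ∈ N) :
    ∀ n, (dd g)^[n] x ∈ N
  | 0 => hx
  | n + 1 => by rw [Function.iterate_succ_apply']; exact dd_mem g (dd_iter_mem g hx n)

section Layer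

variable (U V : Subgroup G) [hUn : U.Normal] [hVn : V.Normal] (g : G)

/-- Modulo `V`, `dd g` is an endomorphism of `U`. -/
theorem dd_mul_equiv (hab : ⁅U, U⁆ ≤ V) {x y : G} (hx : x ∈ U) (hy : y ∈ U) :
    QuotientGroup.mk' V (dd g (x * y)) = QuotientGroup.mk' V (dd g x) * QuotientGroup.mk' V (dd g y) := by
  have h1 : Commute (QuotientGroup.mk' V x) (QuotientGroup.mk' V (dd g y)) := by
    rw [← commutatorElement_eq_one_iff_commute, ← map_commutatorElement]
    exact (QuotientGroup.eq_one_iff _).2 (hab (Subgroup.commutator_mem_commutator hx (dd_mem g hy)))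
  have h2 : dd g (x * y) = dd g x * (x * dd g y * x⁻¹) := by simp only [dd]; group
  have h3 : ∀ z : G, Commute (QuotientGroup.mk' V x) (QuotientGroup.mk' V z) →
      QuotientGroup.mk' V (x * z * x⁻¹) = QuotientGroup.mk' V z := fun z hz => by
    rw [map_mul, map_mul, map_inv, hz.eq, mul_inv_cancel_right]
  exact (congrArg (QuotientGroup.mk' V) h2).trans ((map_mul _ _ _).trans (by rw [h3 _ h1]))

theorem iter_mul_equiv (hab : ⁅U, U⁆ ≤ V) : ∀ (r : ℕ) {x y : G}, x ∈ U → y ∈ U →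
    QuotientGroup.mk' V ((dd g)^[r] (x * y)) =
      QuotientGroup.mk' V ((dd g)^[r] x) * QuotientGroup.mk' V ((dd g)^[r] y)
  | 0, x, y, _, _ => map_mul _ x y
  | r + 1, x, y, hx, hy => by
    simp only [Function.iterate_succ_apply']
    rw [← dd_mul_equiv U V g hab (dd_iter_mem g hx r) (dd_iter_mem g hy r)]
    have he : QuotientGroup.mk' V ((dd g)^[r] (x * y)) =
        QuotientGroup.mk' V ((dd g)^[r] x * (dd g)^[r] y) := by
      rw [map_mul]; exact iter_mul_equiv hab r hx hy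
    simp only [dd, map_mul, map_inv] at he ⊢
    rw [he]

/-- The elements of `U` killed modulo `V` by `r` steps of `dd g`. -/
def layerKer (hab : ⁅U, U⁆ ≤ V) (r : ℕ) : Subgroup G where
  carrier := {x | x ∈ U ∧ (dd g)^[r] x ∈ V}
  one_mem' := ⟨one_mem U, by
    rw [Function.iterate_fixed (by simp [dd] : dd g 1 = 1)]; exact one_mem V⟩
  mul_mem' := fun {x y} hx hy => ⟨mul_mem hx.1 hy.1, by
    have h1 : QuotientGroup.mk' V ((dd g)^[r] (x * y)) = 1 := by
      rw [iter_mul_equiv U V g hab r hx.1 hy.1,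
        show QuotientGroup.mk' V ((dd g)^[r] x) = 1 from (QuotientGroup.eq_one_iff _).2 hx.2,
        show QuotientGroup.mk' V ((dd g)^[r] y) = 1 from (QuotientGroup.eq_one_iff _).2 hy.2, one_mul]
    exact (QuotientGroup.eq_one_iff _).1 h1⟩
  inv_mem' := fun {x} hx => ⟨inv_mem hx.1, by
    have h1 := iter_mul_equiv U V g hab r hx.1 (inv_mem hx.1)
    rw [mul_inv_cancel, Function.iterate_fixed (by simp [dd] : dd g 1 = 1), map_one,
      show QuotientGroup.mk' V ((dd g)^[r] x) = 1 from (QuotientGroup.eq_one_iff _).2 hx.2,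
      one_mul] at h1
    exact (QuotientGroup.eq_one_iff _).1 h1.symm⟩

theorem le_layerKer (hab : ⁅U, U⁆ ≤ V) (hVU : V ≤ U) (r : ℕ) : V ≤ layerKer U V g hab r :=
  fun _ hv => ⟨hVU hv, dd_iter_mem g hv r⟩

theorem commutator_layerKer_le (hab : ⁅U, U⁆ ≤ V) (r : ℕ) :
    ⁅layerKer U V g hab (r + 1), Subgroup.zpowers g⁆ ≤ layerKer U V g hab r := by
  set W := layerKer U V g hab r
  set W' := layerKer U V g hab (r + 1)
  have hgW : ∀ z ∈ W, g * z * g⁻¹ ∈ W := fun z hz => ⟨hUn.conj_mem z hz.1 g, by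
    rw [dd_iter_conj]; exact hVn.conj_mem _ hz.2 g⟩
  have hgW' : ∀ z ∈ W, g⁻¹ * z * g ∈ W := fun z hz => ⟨hUn.conj_mem' z hz.1 g, by
    rw [dd_iter_conj_inv]; exact hVn.conj_mem' _ hz.2 g⟩
  have hd : ∀ u ∈ W', g * u * g⁻¹ * u⁻¹ ∈ W := fun u hu => ⟨dd_mem g hu.1, by
    have h1 := hu.2
    rwa [Function.iterate_succ_apply] at h1⟩
  rw [Subgroup.commutator_comm, Subgroup.commutator_le]
  intro h hh u hu
  obtain ⟨k, rfl⟩ := Subgroup.mem_zpowers_iff.1 hh
  rw [commutatorElement_def]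
  clear hh
  induction k using Int.induction_on generalizing u with
  | zero => simp
  | succ n ih =>
    have h1 := mul_mem (hgW _ (ih u hu)) (hd u hu)
    rwa [show g * (g ^ (n : ℤ) * u * (g ^ (n : ℤ))⁻¹ * u⁻¹) * g⁻¹ * (g * u * g⁻¹ * u⁻¹) =
      g ^ ((n : ℤ) + 1) * u * (g ^ ((n : ℤ) + 1))⁻¹ * u⁻¹ by group] at h1
  | pred n ih =>
    have h1 := mul_mem (hgW' _ (ih u hu)) (hgW' _ (inv_mem (hd u hu)))
    rwa [show g⁻¹ * (g ^ (-(n : ℤ)) * u * (g ^ (-(n : ℤ)))⁻¹ * u⁻¹) * g *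
      (g⁻¹ * (g * u * g⁻¹ * u⁻¹)⁻¹ * g) =
      g ^ (-(n : ℤ) - 1) * u * (g ^ (-(n : ℤ) - 1))⁻¹ * u⁻¹ by group] at h1

/-- Degree at most `m` on `U / V` from the iterates on elements. -/
theorem iterCommutator_le_of_forall (hab : ⁅U, U⁆ ≤ V) {m : ℕ}
    (h : ∀ x ∈ U, (dd g)^[m] x ∈ V) : iterCommutator U (Subgroup.zpowers g) m ≤ V := by
  have key : ∀ n, n ≤ m → iterCommutator U (Subgroup.zpowers g) n ≤ layerKer U V g hab (m - n) := by
    intro n
    induction n with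
    | zero => exact fun _ x hx => ⟨hx, h x hx⟩
    | succ n ih =>
      intro hn
      refine (Subgroup.commutator_mono (ih (by omega)) le_rfl).trans ?_
      rw [show m - n = m - (n + 1) + 1 by omega]
      exact commutator_layerKer_le U V g hab _
  intro x hx
  have h1 := (key m le_rfl hx).2
  rwa [Nat.sub_self] at h1

theorem forall_of_iterCommutator_le {m : ℕ} (h : iterCommutator U (Subgroup.zpowers g) m ≤ V) :
    ∀ x ∈ U, (dd g)^[m] x ∈ V := fun _ hx => h (iter_mem_iterCommutator hx m)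

end Layer

/-- A normal `p`-subgroup centralizes every chief factor inside it. -/
theorem commutator_le_of_chief [Finite G] {p : ℕ} [Fact p.Prime] {P U V : Subgroup G} [P.Normal]
    (hP : IsPGroup p P) (h : IsChiefFactor U V) (hUP : U ≤ P) : ⁅U, P⁆ ≤ V := by
  obtain ⟨hVU, hUn, hVn, hmin⟩ := h
  have hle : ⁅U, P⁆ ≤ U := Subgroup.commutator_le_left U P
  rcases hmin (⁅U, P⁆ ⊔ V) (Subgroup.sup_normal _ _) le_sup_right (sup_le hle hVU.le) with h1 | h1
  · exact le_sup_left.trans h1.le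
  exfalso
  set π := QuotientGroup.mk' V with hπ
  have h2 : U.map π ≤ ⁅U.map π, P.map π⁆ := by
    conv_lhs => rw [← h1]
    rw [Subgroup.map_sup, QuotientGroup.map_mk'_self, sup_bot_eq, Subgroup.map_commutator]
  haveI : Group.IsNilpotent (P.map π) := (hP.map π).isNilpotent
  obtain ⟨n, hn⟩ := (Subgroup.isNilpotent_iff_lowerCentralSeries (P.map π)).1 inferInstance
  have h3 : ∀ k, U.map π ≤ (P.map π).lowerCentralSeries k := by
    intro k
    induction k with
    | zero => exact Subgroup.map_mono hUP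
    | succ k ih => exact h2.trans (Subgroup.commutator_mono ih le_rfl)
  have h4 := (h3 n).trans hn.le
  rw [le_bot_iff, Subgroup.map_eq_bot_iff, QuotientGroup.ker_mk'] at h4
  exact hVU.not_ge h4

theorem commInto_normal {Z Q : Subgroup G} [hZ : Z.Normal] [hQ : Q.Normal] :
    (commInto Z Q).Normal :=
  ⟨fun x hx h => ⟨by rw [Subgroup.normalizer_eq_top]; trivial, fun q hq => by
    rw [show ⁅h * x * h⁻¹, q⁆ = h * ⁅x, h⁻¹ * q * h⁆ * h⁻¹ by group]
    exact hZ.conj_mem _ (hx.2 _ (hQ.conj_mem' q hq h)) h⟩⟩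

/-- A normal subgroup of `U` covering `U / V` gives a chief factor. -/
theorem chief_of_cover {U V U' : Subgroup G} (h : IsChiefFactor U V) [U'.Normal] (hU'U : U' ≤ U)
    (hcov : U' ⊔ V = U) : IsChiefFactor U' (U' ⊓ V) := by
  obtain ⟨hVU, hUn, hVn, hmin⟩ := h
  refine ⟨lt_of_le_not_ge inf_le_left fun hle => hVU.not_ge ?_, inferInstance, inferInstance,
    fun N hN hNl hNU => ?_⟩
  · rw [← hcov]; exact sup_le (hle.trans inf_le_right) le_rfl
  · haveI := hN
    rcases hmin (N ⊔ V) (Subgroup.sup_normal _ _) le_sup_right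
      (sup_le (hNU.trans hU'U) hVU.le) with h1 | h1
    · exact Or.inl (le_antisymm (le_inf hNU (le_sup_left.trans h1.le)) hNl)
    · refine Or.inr (le_antisymm hNU fun x hx => ?_)
      have h2 : x ∈ ((N ⊔ V : Subgroup G) : Set G) := h1.symm ▸ hU'U hx
      rw [Subgroup.mul_normal] at h2
      obtain ⟨n, hn, v, hv, rfl⟩ := h2
      have hvU' : v ∈ U' := by
        have := mul_mem (inv_mem (hNU hn)) hx
        rwa [inv_mul_cancel_left] at this
      exact mul_mem hn (hNl (Subgroup.mem_inf.2 ⟨hvU', hv⟩))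

variable [Finite G] {p : ℕ} [hp : Fact p.Prime]

/-- The bracket of a normal `p`-subgroup `P` and a normal subgroup `Q ≤ P` into the centre of `Q`: degrees
`i` on `Q`, `j` on `Z(Q)` give degree `i + j - 1` on `P`. -/
theorem degree_le {P Q : Subgroup G} [hPn : P.Normal] [hQn : Q.Normal] (hP : IsPGroup p P) (hQP : Q ≤ P)
    (hQ3 : ⁅P, Q⁆ ≤ Q ⊓ Subgroup.centralizer (Q : Set G))
    (hQ4 : P ⊓ Subgroup.centralizer (Q : Set G) ≤ Q)
    (g : G) {i j : ℕ} (hi : 1 ≤ i) (hj : 1 ≤ j)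
    (hQi : ∀ U V : Subgroup G, IsChiefFactor U V → U ≤ Q → iterCommutator U (Subgroup.zpowers g) i ≤ V)
    (hZj : ∀ U V : Subgroup G, IsChiefFactor U V → U ≤ Q ⊓ Subgroup.centralizer (Q : Set G) →
      iterCommutator U (Subgroup.zpowers g) j ≤ V) :
    ∀ U V : Subgroup G, IsChiefFactor U V → U ≤ P →
      iterCommutator U (Subgroup.zpowers g) (i + j - 1) ≤ V := by
  intro U V hUV hUP
  have hUn := hUV.2.1
  have hVn := hUV.2.2.1
  have hab : ⁅U, U⁆ ≤ V := (chief_elementary hUV (hP.to_le hUP)).1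
  refine iterCommutator_le_of_forall U V g hab fun x hx => ?_
  -- it suffices to treat a normal subgroup covering `U / V`
  have hcover : ∀ U' : Subgroup G, U' ⊔ V = U → (∀ y ∈ U', (dd g)^[i + j - 1] y ∈ V) →
      (dd g)^[i + j - 1] x ∈ V := by
    intro U' hcov h
    have h1 : U ≤ layerKer U V g hab (i + j - 1) := by
      conv_lhs => rw [← hcov]
      exact sup_le (fun y hy => ⟨hcov ▸ le_sup_left (b := V) hy, h y hy⟩) (le_layerKer U V g hab hUV.1.le _)
    exact (h1 hx).2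
  have hdich : ∀ L : Subgroup G, L.Normal → L ≤ U → L ⊔ V = U ∨ L ≤ V := by
    intro L hL hLU
    rcases hUV.2.2.2 (L ⊔ V) (Subgroup.sup_normal L V) le_sup_right (sup_le hLU hUV.1.le) with h1 | h1
    · exact Or.inr (le_sup_left.trans h1.le)
    · exact Or.inl h1
  rcases hdich (U ⊓ Q) inferInstance inf_le_left with hQc | hQc
  · refine hcover _ hQc fun y hy => ?_
    have h1 := forall_of_iterCommutator_le (U ⊓ Q) (U ⊓ Q ⊓ V) g
      (hQi _ _ (chief_of_cover hUV inf_le_left hQc) inf_le_right) y hy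
    rw [show i + j - 1 = (j - 1) + i by omega, Function.iterate_add_apply]
    exact dd_iter_mem g (Subgroup.mem_inf.1 h1).2 _
  set Z := Q ⊓ Subgroup.centralizer (Q : Set G) with hZdef
  haveI hZn : Z.Normal := inferInstance
  let K : Subgroup G → Subgroup G → Subgroup G := fun Z' Q' => P ⊓ commInto Z' Q'
  have hKmem : ∀ {Z' Q' : Subgroup G} [Z'.Normal] {y : G}, y ∈ P → (∀ a ∈ Q', ⁅y, a⁆ ∈ Z') →
      y ∈ K Z' Q' := fun {Z' Q'} _ {y} hy h =>
    Subgroup.mem_inf.2 ⟨hy, by rw [Subgroup.normalizer_eq_top]; trivial, h⟩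
  have hKn : ∀ Z' Q' : Subgroup G, Z'.Normal → Q'.Normal → (K Z' Q').Normal := fun Z' Q' _ _ => by
    haveI := commInto_normal (Z := Z') (Q := Q')
    infer_instance
  -- the layer of `Z`
  obtain ⟨Z₀, ⟨hZ₀n, hZ₀Z, hZ₀cov⟩, hZ₀min⟩ := (Set.toFinite
      {Z' : Subgroup G | Z'.Normal ∧ Z' ≤ Z ∧ (U ⊓ K Z' Q) ⊔ V = U}).exists_minimal ⟨Z, hZn, le_rfl, by
    have e : U ⊓ K Z Q = U := inf_eq_left.2 fun y hy =>
      hKmem (hUP hy) fun a ha => hQ3 (Subgroup.commutator_mem_commutator (hUP hy) ha)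
    rw [e]; exact sup_eq_left.2 hUV.1.le⟩
  have hZ₀1 : (⊥ : Subgroup G) < Z₀ := bot_lt_iff_ne_bot.2 fun he => by
    subst he
    refine hUV.1.not_ge ?_
    rw [← hZ₀cov]
    refine sup_le ?_ le_rfl
    intro y hy
    obtain ⟨hyU, hyK⟩ := Subgroup.mem_inf.1 hy
    refine hQc (Subgroup.mem_inf.2 ⟨hyU, hQ4 (Subgroup.mem_inf.2
      ⟨hUP hyU, Subgroup.mem_centralizer_iff.2 fun a ha => ?_⟩)⟩)
    have h1 := (Subgroup.mem_inf.1 hyK).2.2 a ha
    rw [Subgroup.mem_bot, commutatorElement_eq_one_iff_mul_comm] at h1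
    exact h1.symm
  obtain ⟨Z₁, -, hZ01⟩ := exists_chief_top hZ₀1
  have hZ₁n := hZ01.2.2.1
  set U₁ := U ⊓ K Z₀ Q with hU₁
  haveI hU₁n : U₁.Normal := by
    haveI := hKn Z₀ Q hZ₀n hQn
    infer_instance
  -- the layer of `Q`
  obtain ⟨Q₀, ⟨hQ₀n, hQ₀Q, hQ₀cov⟩, hQ₀max⟩ := (Set.toFinite
      {Q' : Subgroup G | Q'.Normal ∧ Q' ≤ Q ∧ (U₁ ⊓ K Z₁ Q') ⊔ V = U}).exists_maximal ⟨⊥,
    inferInstance, bot_le, by
      have e : U₁ ⊓ K Z₁ ⊥ = U₁ := inf_eq_left.2 fun y hy => by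
        refine hKmem (hUP (Subgroup.mem_inf.1 hy).1) fun a ha => ?_
        rw [Subgroup.mem_bot.1 ha, commutatorElement_one_right]
        exact one_mem _
      rw [e]; exact hZ₀cov⟩
  have hQ₀lt : Q₀ < Q := by
    refine lt_of_le_of_ne hQ₀Q fun he => hZ01.1.not_ge ?_
    subst he
    refine hZ₀min ⟨hZ₁n, hZ01.1.le.trans hZ₀Z, ?_⟩ hZ01.1.le
    refine le_antisymm (sup_le inf_le_left hUV.1.le) ?_
    conv_lhs => rw [← hQ₀cov]
    exact sup_le_sup (inf_le_inf inf_le_left le_rfl) le_rfl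
  obtain ⟨Q₁, hQ₁Q, hQ10⟩ := exists_chief_bot hQ₀lt
  have hQ₁n := hQ10.2.1
  set U₂ := U₁ ⊓ K Z₁ Q₀ with hU₂
  haveI hU₂n : U₂.Normal := by
    haveI := hKn Z₁ Q₀ hZ₁n hQ₀n
    infer_instance
  have hU₂U₁ : U₂ ≤ U₁ := inf_le_left
  have hU₂U : U₂ ≤ U := hU₂U₁.trans inf_le_left
  have hout : U₁ ⊓ K Z₁ Q₁ ≤ V := by
    haveI := hKn Z₁ Q₁ hZ₁n hQ₁n
    rcases hdich (U₁ ⊓ K Z₁ Q₁) inferInstance (inf_le_left.trans inf_le_left) with h | h
    · exact absurd (hQ₀max ⟨hQ₁n, hQ₁Q, h⟩ hQ10.1.le) hQ10.1.not_ge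
    · exact h
  refine hcover U₂ hQ₀cov fun y hy => ?_
  -- the layer of values
  have hZ₀P : Z₀ ≤ P := hZ₀Z.trans (inf_le_left.trans hQP)
  have hab0 : ⁅Z₀, Z₀⁆ ≤ Z₁ := (chief_elementary hZ01 (hP.to_le hZ₀P)).1
  have htriv := commutator_le_of_chief hP hZ01 hZ₀P
  set π := QuotientGroup.mk' Z₁ with hπ
  have hval : ∀ y ∈ U₂, ∀ a ∈ Q₁, ⁅y, a⁆ ∈ Z₀ := fun y hy a ha =>
    (Subgroup.mem_inf.1 (Subgroup.mem_inf.1 (hU₂U₁ hy)).2).2.2 a (hQ₁Q ha)
  have hconjP : ∀ z ∈ Z₀, ∀ h ∈ P, π (h * z * h⁻¹) = π z := by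
    intro z hz h hh
    have h1 : π ⁅z, h⁆ = 1 :=
      (QuotientGroup.eq_one_iff _).2 (htriv (Subgroup.commutator_mem_commutator hz hh))
    rw [map_commutatorElement, commutatorElement_eq_one_iff_commute] at h1
    rw [map_mul, map_mul, map_inv, ← h1.eq, mul_inv_cancel_right]
  have key : ∀ n r s : ℕ, i + j - 1 ≤ n + r + s → ∀ y ∈ U₂, ∀ a ∈ Q₁,
      ⁅(dd g)^[n] y, (dd g)^[s] a⁆ ∈ layerKer Z₀ Z₁ g hab0 r := by
    intro n
    induction n with
    | zero =>
      intro r s hrs y hy a ha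
      rcases Nat.lt_or_ge s i with hs | hs
      · refine ⟨hval y hy _ (dd_iter_mem g ha s), ?_⟩
        obtain ⟨r', rfl⟩ : ∃ r', r = r' + j := ⟨r - j, by omega⟩
        rw [Function.iterate_add_apply]
        exact dd_iter_mem g (forall_of_iterCommutator_le Z₀ Z₁ g (hZj _ _ hZ01 hZ₀Z) _
          (hval y hy _ (dd_iter_mem g ha s))) r'
      · refine le_layerKer Z₀ Z₁ g hab0 hZ01.1.le r ?_
        obtain ⟨s', rfl⟩ : ∃ s', s = s' + i := ⟨s - i, by omega⟩
        rw [Function.iterate_add_apply]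
        have h1 : (dd g)^[s'] ((dd g)^[i] a) ∈ Q₀ :=
          dd_iter_mem g (forall_of_iterCommutator_le Q₁ Q₀ g (hQi _ _ hQ10 hQ₁Q) a ha) s'
        exact (Subgroup.mem_inf.1 (Subgroup.mem_inf.1 hy).2).2.2 _ h1
    | succ n ih =>
      intro r s hrs y hy a ha
      set a' := g⁻¹ * a * g with ha'
      have ha'Q : a' ∈ Q₁ := hQ₁n.conj_mem' a ha g
      set y' := (dd g)^[n] y with hy'
      have hy'U : y' ∈ U₂ := dd_iter_mem g hy n
      set b := (dd g)^[s] a' with hb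
      have hbQ : b ∈ Q₁ := dd_iter_mem g ha'Q s
      have hga : (dd g)^[s] a = g * b * g⁻¹ := by
        rw [hb, ← dd_iter_conj, ha', show g * (g⁻¹ * a * g) * g⁻¹ = a by group]
      rw [Function.iterate_succ_apply', ← hy', hga]
      set c := ⁅y', b⁆ with hc
      have hc0 : c ∈ Z₀ := hval y' hy'U b hbQ
      have hdc : dd g c ∈ layerKer Z₀ Z₁ g hab0 r :=
        ⟨dd_mem g hc0, by
          have h1 := (ih (r + 1) s (by omega) y hy a' ha'Q).2
          rwa [Function.iterate_succ_apply] at h1⟩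
      set e := ⁅y', dd g b⁆ with he'
      have he : e ∈ layerKer Z₀ Z₁ g hab0 r := by
        have h1 := ih r (s + 1) (by omega) y hy a' ha'Q
        rwa [Function.iterate_succ_apply'] at h1
      set B := g * b * g⁻¹ with hBdef
      have hBQ : B ∈ Q₁ := hQ₁n.conj_mem b hbQ g
      set f := ⁅dd g y', B⁆ with hf
      have hf0 : f ∈ Z₀ := hval _ (dd_mem g hy'U) _ hBQ
      have hY0 : ⁅y', B⁆ ∈ Z₀ := hval _ hy'U _ hBQ
      have e1 : g * c * g⁻¹ = dd g y' * ⁅y', B⁆ * (dd g y')⁻¹ * f := by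
        simp only [hc, hf, hBdef, dd]; group
      have e2 : ⁅y', B⁆ = e * (dd g b * c * (dd g b)⁻¹) := by
        simp only [hc, he', hBdef, dd]; group
      have hmod : π f = π (e⁻¹ * dd g c) := by
        have h1 : π (g * c * g⁻¹) = π ⁅y', B⁆ * π f := by
          rw [e1, map_mul, hconjP _ hY0 _ (hUP (hU₂U (dd_mem g hy'U)))]
        have h2 : π ⁅y', B⁆ = π e * π c := by
          rw [e2, map_mul, hconjP _ hc0 _ (hQP (hQ₁Q (dd_mem g hbQ)))]
        have hcomm : Commute (π c) (π (dd g c)) := by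
          rw [← commutatorElement_eq_one_iff_commute, ← map_commutatorElement]
          exact (QuotientGroup.eq_one_iff _).2
            (hab0 (Subgroup.commutator_mem_commutator hc0 (dd_mem g hc0)))
        have hce : Commute (π e) (π c) := by
          rw [← commutatorElement_eq_one_iff_commute, ← map_commutatorElement]
          exact (QuotientGroup.eq_one_iff _).2 (hab0 (Subgroup.commutator_mem_commutator he.1 hc0))
        have h3 : π (g * c * g⁻¹) = π (dd g c) * π c := by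
          rw [← map_mul]
          congr 1
          simp [dd]
        rw [h2, h3] at h1
        rw [map_mul, map_inv, eq_inv_mul_iff_mul_eq]
        rw [hce.eq, ← hcomm.eq, mul_assoc] at h1
        exact mul_left_cancel h1.symm
      obtain ⟨z, hz, hz'⟩ := (QuotientGroup.mk'_eq_mk' Z₁).1 hmod.symm
      rw [← hz']
      exact mul_mem (mul_mem (inv_mem he) hdc) (le_layerKer Z₀ Z₁ g hab0 hZ01.1.le r hz)
  refine hout (Subgroup.mem_inf.2 ⟨hU₂U₁ (dd_iter_mem g hy _), hKmem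
    (hUP (hU₂U (dd_iter_mem g hy _))) fun a ha => ?_⟩)
  exact (key (i + j - 1) 0 0 (by omega) y hy a ha).2

end Cfsg.Agent.Lib.ConjFunctor.Degree
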