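import Cfsg.Agent.Lib.ConjFunctor.Basic
import Cfsg.Agent.Lib.Cores.Basic
import Cfsg.Prelude.Def_LocalEven
import Cfsg.Prelude.Def_PLocal
import Mathlib.GroupTheory.Solvable
import Mathlib.GroupTheory.Nilpotent

/-!
# Chief factors inside normal `p`-subgroups, and iterated commutators
-/

set_option autoImplicit false
set_option linter.unusedSectionVars false

open Cfsg

open scoped commutatorElement

namespace Cfsg.Agent.Lib.ConjFunctor.Chief

variable {G : Type*} [Group G] [Finite G]

/-- A chief factor at the top of `K < N`. -/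
theorem exists_chief_top {K N : Subgroup G} [hK : K.Normal] [hN : N.Normal] (h : K < N) :
    ∃ V, K ≤ V ∧ IsChiefFactor N V := by
  obtain ⟨V, ⟨hKV, hVN, hVn⟩, hmax⟩ :=
    (Set.toFinite {V : Subgroup G | K ≤ V ∧ V < N ∧ V.Normal}).exists_maximal ⟨K, le_rfl, h, hK⟩
  refine ⟨V, hKV, hVN, hN, hVn, fun L hL hVL hLN => ?_⟩
  by_contra hne
  rw [not_or] at hne
  exact hne.1 (le_antisymm (hmax ⟨hKV.trans hVL, lt_of_le_of_ne hLN hne.2, hL⟩ hVL) hVL)

/-- A chief factor at the bottom of `K < N`. -/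
theorem exists_chief_bot {K N : Subgroup G} [hK : K.Normal] [hN : N.Normal] (h : K < N) :
    ∃ U, U ≤ N ∧ IsChiefFactor U K := by
  obtain ⟨U, ⟨hUN, hKU, hUn⟩, hmin⟩ :=
    (Set.toFinite {U : Subgroup G | U ≤ N ∧ K < U ∧ U.Normal}).exists_minimal ⟨N, le_rfl, h, hN⟩
  refine ⟨U, hUN, hKU, hUn, hK, fun L hL hKL hLU => ?_⟩
  by_contra hne
  rw [not_or] at hne
  exact hne.2 (le_antisymm hLU (hmin ⟨hLU.trans hUN, lt_of_le_of_ne hKL (Ne.symm hne.1), hL⟩ hLU))

/-- A chief factor inside a `p`-group is abelian of exponent `p`. -/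
theorem chief_elementary {p : ℕ} [hp : Fact p.Prime] {U V : Subgroup G} (h : IsChiefFactor U V)
    (hU : IsPGroup p U) : ⁅U, U⁆ ≤ V ∧ ∀ x ∈ U, x ^ p ∈ V := by
  obtain ⟨hVU, hUn, hVn, hmin⟩ := h
  have hfix : ∀ L : Subgroup G, L.Normal → L ≤ U → L ⊔ V = U ∨ L ≤ V := by
    intro L hL hLU
    rcases hmin (L ⊔ V) (Subgroup.sup_normal L V) le_sup_right (sup_le hLU hVU.le) with h1 | h1
    · exact Or.inr (le_sup_left.trans h1.le)
    · exact Or.inl h1
  set π := QuotientGroup.mk' V with hπ
  have hπU : U.map π ≠ ⊥ := by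
    intro he
    rw [Subgroup.map_eq_bot_iff, hπ, QuotientGroup.ker_mk'] at he
    exact hVU.not_ge he
  have hcomm : ⁅U, U⁆ ≤ V := by
    refine (hfix ⁅U, U⁆ inferInstance ((Subgroup.commutator_le_self _))).resolve_left fun he => ?_
    have h1 : U.map π ≤ ⁅U.map π, U.map π⁆ := by
      conv_lhs => rw [← he]
      rw [Subgroup.map_sup, hπ, QuotientGroup.map_mk'_self, sup_bot_eq, Subgroup.map_commutator]
    haveI : Group.IsNilpotent (U.map π) := (hU.map π).isNilpotent
    haveI : Nontrivial (U.map π) := (Subgroup.nontrivial_iff_ne_bot _).2 hπU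
    have h2 := Group.IsSolvable.commutator_lt_top_of_nontrivial (G := U.map π)
    have h3 : (commutator (U.map π)).map (U.map π).subtype = U.map π := by
      rw [Subgroup.map_subtype_commutator]
      exact le_antisymm (Subgroup.commutator_le_self _) h1
    refine h2.ne (Subgroup.map_injective (U.map π).subtype_injective ?_)
    rw [h3, ← MonoidHom.range_eq_map, Subgroup.range_subtype]
  refine ⟨hcomm, ?_⟩
  have hc : ∀ x ∈ U, ∀ y ∈ U, Commute (π x) (π y) := by
    intro x hx y hy
    rw [← commutatorElement_eq_one_iff_commute, ← map_commutatorElement]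
    exact (QuotientGroup.eq_one_iff _).2 (hcomm (Subgroup.commutator_mem_commutator hx hy))
  let Ω : Subgroup G :=
    { carrier := {x | x ∈ U ∧ π x ^ p = 1}
      mul_mem' := fun {x y} hx hy => ⟨mul_mem hx.1 hy.1, by
        rw [map_mul, (hc x hx.1 y hy.1).mul_pow, hx.2, hy.2, one_mul]⟩
      one_mem' := ⟨one_mem U, by simp⟩
      inv_mem' := fun {x} hx => ⟨inv_mem hx.1, by rw [map_inv, inv_pow, hx.2, inv_one]⟩ }
  have hΩn : Ω.Normal := ⟨fun x hx g => ⟨hUn.conj_mem x hx.1 g, by
    rw [map_mul, map_mul, map_inv, conj_pow, hx.2, mul_one, mul_inv_cancel]⟩⟩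
  rcases hfix Ω hΩn (fun x hx => hx.1) with h1 | h1
  · intro x hx
    have hVΩ : V ≤ Ω := fun v hv => ⟨hVU.le hv, by
      rw [(QuotientGroup.eq_one_iff v).2 hv |> fun h => (show π v = 1 from h), one_pow]⟩
    rw [sup_eq_left.2 hVΩ] at h1
    rw [← h1] at hx
    exact (QuotientGroup.eq_one_iff _).1 ((map_pow π x p).trans hx.2)
  · exfalso
    obtain ⟨z, hz, hzp⟩ : ∃ z ∈ U.map π, orderOf z = p := by
      obtain ⟨n, hn⟩ := IsPGroup.iff_card.1 (hU.map π)
      have hdvd : p ∣ Nat.card (U.map π) := by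
        rw [hn]
        refine dvd_pow_self p fun h0 => hπU ?_
        rw [h0, pow_zero] at hn
        exact Subgroup.eq_bot_of_card_eq _ hn
      obtain ⟨z, hz⟩ := exists_prime_orderOf_dvd_card' p hdvd
      exact ⟨z, z.2, by rw [Subgroup.orderOf_coe]; exact hz⟩
    obtain ⟨x, hx, rfl⟩ := hz
    have : x ∈ Ω := ⟨hx, by rw [← hzp, pow_orderOf_eq_one]⟩
    have h2 : π x = 1 := (QuotientGroup.eq_one_iff x).2 (h1 this)
    rw [h2, orderOf_one] at hzp
    exact hp.out.ne_one hzp.symm

/-- Iterates of `x ↦ v x v⁻¹ x⁻¹`. -/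
theorem iter_mem_iterCommutator {L : Type*} [Group L] {N : Subgroup L} {v : L} {x : L} (hx : x ∈ N) :
    ∀ n : ℕ, (fun y => v * y * v⁻¹ * y⁻¹)^[n] x ∈ iterCommutator N (Subgroup.zpowers v) n := by
  intro n
  induction n with
  | zero => exact hx
  | succ n ih =>
    rw [Function.iterate_succ_apply']
    show _ ∈ ⁅iterCommutator N (Subgroup.zpowers v) n, Subgroup.zpowers v⁆
    rw [Subgroup.commutator_comm, ← commutatorElement_def]
    exact Subgroup.commutator_mem_commutator (Subgroup.mem_zpowers v) ih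

theorem iterCommutator_succ' {L : Type*} [Group L] (N K : Subgroup L) (n : ℕ) :
    iterCommutator N K (n + 1) = iterCommutator ⁅N, K⁆ K n := by
  induction n with
  | zero => rfl
  | succ n ih => show ⁅iterCommutator N K (n + 1), K⁆ = _; rw [ih]; rfl

theorem iterCommutator_mono {L : Type*} [Group L] {N N' K K' : Subgroup L} (hN : N ≤ N') (hK : K ≤ K') :
    ∀ n, iterCommutator N K n ≤ iterCommutator N' K' n
  | 0 => hN
  | n + 1 => Subgroup.commutator_mono (iterCommutator_mono hN hK n) hK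

theorem map_iterCommutator {L L' : Type*} [Group L] [Group L'] (f : L →* L') (N K : Subgroup L) :
    ∀ n, (iterCommutator N K n).map f = iterCommutator (N.map f) (K.map f) n
  | 0 => rfl
  | n + 1 => by
    show (⁅iterCommutator N K n, K⁆).map f = _
    rw [Subgroup.map_commutator, map_iterCommutator f N K n]; rfl

/-- An iterated commutator with a normal subgroup stays inside it. -/
theorem iterCommutator_le_self {L : Type*} [Group L] {N : Subgroup L} [hN : N.Normal] (K : Subgroup L) :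
    ∀ n, iterCommutator N K n ≤ N
  | 0 => le_rfl
  | n + 1 =>
    (Subgroup.commutator_mono (iterCommutator_le_self K n) le_top).trans (Subgroup.commutator_le_left N ⊤)

end Cfsg.Agent.Lib.ConjFunctor.Chief
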