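import Cfsg.Agent.Lib.ConjFunctor.FixedPoint
import Cfsg.Agent.Lib.ConjFunctor.Chief
import Mathlib.Algebra.Group.Hom.CompTypeclasses
import Mathlib.Algebra.Group.Hom.Basic

/-!
# Fixed elements of an abelian normal subgroup, and homomorphisms out of a normal `p`-subgroup

Both are instances of `fixed_of_layers`.
-/

set_option autoImplicit false
set_option linter.unusedSectionVars false

open Cfsg
open Cfsg.Agent.Lib.Fusion.Alperin
open Cfsg.Agent.Lib.ConjFunctor.Basic
open Cfsg.Agent.Lib.ConjFunctor.FixedPoint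
open Cfsg.Agent.Lib.ConjFunctor.Chief

open scoped commutatorElement

namespace Cfsg.Agent.Lib.ConjFunctor.Fixed

variable {G : Type*} [Group G] [Finite G] {p : ℕ} [hp : Fact p.Prime]

/-- `v` acts with degree less than `p` on the chief factors inside `N`. -/
def SmallDegree (p : ℕ) (v : G) (N : Subgroup G) : Prop :=
  ∀ U V : Subgroup G, IsChiefFactor U V → U ≤ N →
    iterCommutator U (Subgroup.zpowers v) (p - 1) ≤ V

/-- An element of an abelian normal `p`-subgroup fixed by `M` is fixed by `G`. -/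
theorem center_fixed (S : Sylow p G) {M : Subgroup G} (hSM : (S : Subgroup G) ≤ M)
    (hM : ∀ H : Subgroup G, (S : Subgroup G) ≤ H → H ≠ ⊤ → H ≤ M)
    {v : G} (hv : v ∈ (S : Subgroup G)) (hvP : v ∉ pCore p G) {Z : Subgroup G} [hZn : Z.Normal]
    (hZp : IsPGroup p Z) (hZc : ∀ a ∈ Z, ∀ b ∈ Z, a * b = b * a) (hdeg : SmallDegree p v Z)
    {x : G} (hx : x ∈ Z) (hfix : ∀ m ∈ M, m * x * m⁻¹ = x) : ∀ g : G, g * x * g⁻¹ = x := by
  letI : CommGroup Z := { mul_comm := fun a b => Subtype.ext (hZc a a.2 b b.2) }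
  let ρ : G →* AddMonoid.End (Additive Z) :=
    { toFun := fun g => MonoidHom.toAdditive (MulAut.conjNormal g : MulAut Z).toMonoidHom
      map_one' := by
        refine AddMonoidHom.ext fun y => ?_
        apply Additive.toMul.injective
        show (MulAut.conjNormal (1 : G) : MulAut Z) y.toMul = y.toMul
        rw [map_one]; rfl
      map_mul' := fun a b => by
        refine AddMonoidHom.ext fun y => ?_
        apply Additive.toMul.injective
        show (MulAut.conjNormal (a * b) : MulAut Z) y.toMul = _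
        rw [map_mul]; rfl }
  have hρ : ∀ (g : G) (y : Additive Z), ((ρ g y).toMul : G) = g * (y.toMul : G) * g⁻¹ :=
    fun g y => MulAut.conjNormal_apply g y.toMul
  have key := fixed_of_layers (ρ := ρ) S hSM hM hv hvP (fun y => ?_) (fun U hU hU1 => ?_)
    (w := Additive.ofMul ⟨x, hx⟩) (fun m hm => ?_)
  · intro g
    have h1 := congrArg (fun y : Additive Z => ((y.toMul : Z) : G)) (key g)
    simp only [hρ] at h1
    exact h1
  · obtain ⟨k, hk⟩ := hZp y.toMul
    exact ⟨k, hk⟩
  · set U' : Subgroup G := (AddSubgroup.toSubgroup' U).map Z.subtype with hU'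
    have hmemU : ∀ y : Additive Z, y ∈ U ↔ (y.toMul : G) ∈ U' := by
      intro y
      constructor
      · exact fun hy => ⟨y.toMul, hy, rfl⟩
      · rintro ⟨z, hz, he⟩
        rw [show y = Additive.ofMul z from congrArg Additive.ofMul (Subtype.ext he).symm]
        exact hz
    have hU'Z : U' ≤ Z := Subgroup.map_subtype_le _
    haveI hU'n : U'.Normal := ⟨fun a ha g => by
      have h1 := (hmemU (Additive.ofMul ⟨a, hU'Z ha⟩)).2 ha
      have h2 := (hmemU _).1 (hU g _ h1)
      rwa [hρ] at h2⟩
    have hne : (⊥ : Subgroup G) < U' := by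
      refine bot_lt_iff_ne_bot.2 fun he => hU1 ((AddSubgroup.eq_bot_iff_forall U).2 fun y hy => ?_)
      have h1 := (hmemU y).1 hy
      rw [he, Subgroup.mem_bot] at h1
      exact congrArg Additive.ofMul (Subtype.ext h1 : y.toMul = (1 : Z))
    obtain ⟨V', -, hV'⟩ := exists_chief_top hne
    set V : AddSubgroup (Additive Z) := Subgroup.toAddSubgroup (V'.subgroupOf Z) with hV
    have hmemV : ∀ y : Additive Z, y ∈ V ↔ (y.toMul : G) ∈ V' := fun y => Iff.rfl
    refine ⟨V, ?_, hU, fun g y hy => ?_, ?_, fun y hy => ?_, fun y hy => ?_⟩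
    · refine lt_of_le_not_ge (fun y hy => (hmemU y).2 (hV'.1.le ((hmemV y).1 hy))) fun hle => ?_
      refine hV'.1.not_ge fun a ha => ?_
      exact (hmemV (Additive.ofMul ⟨a, hU'Z ha⟩)).1 (hle ((hmemU _).2 ha))
    · rw [hmemV, hρ]
      exact hV'.2.2.1.conj_mem _ ((hmemV y).1 hy) g
    · exact fun y hy => (hmemU y).2 (hV'.1.le ((hmemV y).1 hy))
    · rw [hmemV]
      have := (chief_elementary hV' (hZp.to_le hU'Z)).2 _ ((hmemU y).1 hy)
      simpa using this
    · rw [hmemV]
      have hit : ∀ n : ℕ, ((((ρ v - 1) ^ n) y).toMul : G) =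
          (fun a => v * a * v⁻¹ * a⁻¹)^[n] (y.toMul : G) := by
        intro n
        induction n with
        | zero => rfl
        | succ n ih =>
          rw [Function.iterate_succ_apply', ← ih, pow_succ', mul_app]
          show ((((ρ v) (((ρ v - 1) ^ n) y)).toMul / (((ρ v - 1) ^ n) y).toMul : Z) : G) = _
          rw [Subgroup.coe_div, hρ, div_eq_mul_inv]
      rw [hit]
      exact hdeg U' V' hV' hU'Z (iter_mem_iterCommutator ((hmemU y).1 hy) (p - 1))
  · apply Additive.toMul.injective
    apply Subtype.ext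
    rw [hρ]
    exact hfix m hm

/-- A homomorphism from a normal `p`-subgroup to an abelian `p`-group invariant under `M` is invariant
under `G`. -/
theorem hom_fixed (S : Sylow p G) {M : Subgroup G} (hSM : (S : Subgroup G) ≤ M)
    (hM : ∀ H : Subgroup G, (S : Subgroup G) ≤ H → H ≠ ⊤ → H ≤ M)
    {v : G} (hv : v ∈ (S : Subgroup G)) (hvP : v ∉ pCore p G) {P : Subgroup G} [hPn : P.Normal]
    (hPp : IsPGroup p P) (hdeg : SmallDegree p v P) {A : Type*} [CommGroup A] [Finite A]
    (hA : IsPGroup p A) (π : P →* A)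
    (hfix : ∀ m ∈ M, ∀ x : P, π (MulAut.conjNormal m x) = π x) :
    ∀ (g : G) (x : P), π (MulAut.conjNormal g x) = π x := by
  haveI : Finite (Additive (P →* A)) :=
    Finite.of_injective (fun f : Additive (P →* A) => (f.toMul : P → A)) fun f₁ f₂ h =>
      congrArg Additive.ofMul (DFunLike.coe_injective h : f₁.toMul = f₂.toMul)
  let ρ : G →* AddMonoid.End (Additive (P →* A)) :=
    { toFun := fun g => AddMonoidHom.mk'
        (fun f => Additive.ofMul (f.toMul.comp (MulAut.conjNormal g⁻¹ : MulAut P).toMonoidHom))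
        fun f₁ f₂ => rfl
      map_one' := by
        refine AddMonoidHom.ext fun f => ?_
        apply Additive.toMul.injective
        refine MonoidHom.ext fun y => ?_
        show f.toMul ((MulAut.conjNormal ((1 : G)⁻¹) : MulAut P) y) = f.toMul y
        rw [inv_one, map_one]; rfl
      map_mul' := fun a b => by
        refine AddMonoidHom.ext fun f => ?_
        apply Additive.toMul.injective
        refine MonoidHom.ext fun y => ?_
        show f.toMul ((MulAut.conjNormal ((a * b)⁻¹) : MulAut P) y) = _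
        rw [mul_inv_rev, map_mul]; rfl }
  have hρ : ∀ (g : G) (f : Additive (P →* A)) (y : P),
      (ρ g f).toMul y = f.toMul (MulAut.conjNormal g⁻¹ y) := fun g f y => rfl
  have key := fixed_of_layers (ρ := ρ) S hSM hM (v := v⁻¹) (inv_mem hv)
    (fun h => hvP (by simpa using inv_mem h)) (fun f => ?_) (fun U hU hU1 => ?_)
    (w := Additive.ofMul π) (fun m hm => ?_)
  · intro g y
    have h1 := congrArg (fun f : Additive (P →* A) => f.toMul y) (key g⁻¹)
    simp only [hρ, inv_inv] at h1
    exact h1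
  · obtain ⟨k, hk⟩ := IsPGroup.iff_card.1 hA
    refine ⟨k, ?_⟩
    apply Additive.toMul.injective
    refine MonoidHom.ext fun y => ?_
    show f.toMul y ^ p ^ k = 1
    rw [← hk]
    exact pow_card_eq_one'
  · -- the common kernel of `U`
    let K : Subgroup G :=
      { carrier := {a | ∃ ha : a ∈ P, ∀ f ∈ U, f.toMul ⟨a, ha⟩ = 1}
        mul_mem' := fun {a b} ⟨ha, h1⟩ ⟨hb, h2⟩ => ⟨mul_mem ha hb, fun f hf => by
          rw [show (⟨a * b, mul_mem ha hb⟩ : P) = ⟨a, ha⟩ * ⟨b, hb⟩ from rfl, map_mul, h1 f hf,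
            h2 f hf, one_mul]⟩
        one_mem' := ⟨one_mem P, fun f _ => map_one f.toMul⟩
        inv_mem' := fun {a} ⟨ha, h1⟩ => ⟨inv_mem ha, fun f hf => by
          rw [show (⟨a⁻¹, inv_mem ha⟩ : P) = ⟨a, ha⟩⁻¹ from rfl, map_inv, h1 f hf, inv_one]⟩ }
    haveI hKn : K.Normal := ⟨fun a ⟨ha, h1⟩ g => ⟨hPn.conj_mem a ha g, fun f hf => by
      have h2 := h1 _ (hU g⁻¹ f hf)
      rw [hρ, inv_inv] at h2
      rw [← h2]
      exact congrArg _ (Subtype.ext (MulAut.conjNormal_apply g ⟨a, ha⟩).symm)⟩⟩
    have hKP : K < P := by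
      refine lt_of_le_not_ge (fun a ha => ha.1) fun hle => hU1 ?_
      refine (AddSubgroup.eq_bot_iff_forall U).2 fun f hf => ?_
      apply Additive.toMul.injective
      refine MonoidHom.ext fun y => ?_
      obtain ⟨_, h1⟩ := hle y.2
      exact h1 f hf
    obtain ⟨N, hNP, hN⟩ := exists_chief_bot hKP
    let V : AddSubgroup (Additive (P →* A)) :=
      { carrier := {f | f ∈ U ∧ ∀ y : P, (y : G) ∈ N → f.toMul y = 1}
        add_mem' := fun {a b} ha hb => ⟨U.add_mem ha.1 hb.1, fun y hy => by
          show a.toMul y * b.toMul y = 1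
          rw [ha.2 y hy, hb.2 y hy, one_mul]⟩
        zero_mem' := ⟨U.zero_mem, fun y _ => rfl⟩
        neg_mem' := fun {a} ha => ⟨U.neg_mem ha.1, fun y hy => by
          show (a.toMul y)⁻¹ = 1
          rw [ha.2 y hy, inv_one]⟩ }
    refine ⟨V, ?_, hU, fun g f hf => ⟨hU g f hf.1, fun y hy => ?_⟩, fun f hf => hf.1,
      fun f hf => ⟨U.nsmul_mem hf p, fun y hy => ?_⟩,
      fun f hf => ⟨pow_sub_one_mem hU _ f hf, fun y hy => ?_⟩⟩
    · refine lt_of_le_not_ge (fun f hf => hf.1) fun hle => hN.1.not_ge fun a ha => ?_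
      exact ⟨hNP ha, fun f hf => (hle hf).2 ⟨a, hNP ha⟩ ha⟩
    · rw [hρ]
      refine hf.2 _ ?_
      rw [MulAut.conjNormal_apply]
      exact hN.2.1.conj_mem _ hy _
    · obtain ⟨_, h1⟩ := (chief_elementary hN (hPp.to_le hNP)).2 _ hy
      show f.toMul y ^ p = 1
      rw [← map_pow]
      exact h1 f hf
    · have hit : ∀ n : ℕ, (((ρ v⁻¹ - 1) ^ n) f).toMul y =
          f.toMul ((fun a : P => MulAut.conjNormal v a * a⁻¹)^[n] y) := by
        intro n
        induction n generalizing f with
        | zero => rfl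
        | succ n ih =>
          rw [Function.iterate_succ_apply', pow_succ, mul_app,
            ih ((ρ v⁻¹ - 1) f) (U.sub_mem (hU v⁻¹ f hf) hf)]
          set z := (fun a : P => MulAut.conjNormal v a * a⁻¹)^[n] y
          show (ρ v⁻¹ f).toMul z / f.toMul z = _
          rw [hρ, inv_inv, map_mul, map_inv, div_eq_mul_inv]
      rw [hit]
      have hco : ∀ n : ℕ, (((fun a : P => MulAut.conjNormal v a * a⁻¹)^[n] y : P) : G) =
          (fun a => v * a * v⁻¹ * a⁻¹)^[n] (y : G) := by
        intro n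
        induction n with
        | zero => rfl
        | succ n ih =>
          rw [Function.iterate_succ_apply', Function.iterate_succ_apply', ← ih]
          simp [MulAut.conjNormal_apply]
      obtain ⟨_, h1⟩ : (((fun a : P => MulAut.conjNormal v a * a⁻¹)^[p - 1] y : P) : G) ∈ K := by
        rw [hco]
        exact hdeg N K hN hNP (iter_mem_iterCommutator hy (p - 1))
      exact h1 f hf
  · apply Additive.toMul.injective
    refine MonoidHom.ext fun y => ?_
    rw [hρ]
    exact hfix _ (inv_mem hm) y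

end Cfsg.Agent.Lib.ConjFunctor.Fixed
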