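import Cfsg.Agent.Lib.ConjFunctor.Family

/-!
# Well-placed subgroups

Existence of well-placed conjugates, the end of a tower, and local-to-global control for one
conjugacy functor through well-placed subgroups.
-/

set_option autoImplicit false
set_option linter.unusedSectionVars false

open Cfsg
open Cfsg.Agent.Lib.Fusion.Alperin
open Cfsg.Agent.Lib.ConjFunctor.Basic
open Cfsg.Agent.Lib.ConjFunctor.Reach
open Cfsg.Agent.Lib.ConjFunctor.Local
open Cfsg.Agent.Lib.ConjFunctor.Family

open scoped commutatorElement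

namespace Cfsg.Agent.Lib.ConjFunctor.WellPlaced

variable {G : Type*} [Group G] [Finite G] {p : ℕ} [Fact p.Prime]
variable {W : Subgroup G → Subgroup G}

/-- The normalizer in `S` of a term of the tower. -/
def towerQ (W : Subgroup G → Subgroup G) (S T : Subgroup G) (i : ℕ) : Subgroup G :=
  S ⊓ Subgroup.normalizer ((functorTower W S T i : Subgroup G) : Set G)

theorem tower_succ (S T : Subgroup G) (i : ℕ) :
    functorTower W S T (i + 1) = W (towerQ W S T i) := rfl

theorem tower_conj (hW : IsConjugacyFunctor p W) {S : Subgroup G} (hS : IsPGroup p S)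
    (T : Subgroup G) (g : G) (i : ℕ) :
    functorTower W (conjS g S) (conjS g T) i = conjS g (functorTower W S T i) := by
  induction i with
  | zero => rfl
  | succ i ih =>
    show W _ = _
    rw [ih, ← conjS_normalizer, ← conjS_inf, w_conj hW (hS.to_le inf_le_left)]
    rfl

theorem towerQ_isP {S : Subgroup G} (hS : IsPGroup p S) (T : Subgroup G) (i : ℕ) :
    IsPGroup p (towerQ W S T i) := hS.to_le inf_le_left

theorem tower_le (hW : IsConjugacyFunctor p W) {S : Subgroup G} (hS : IsPGroup p S)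
    {T : Subgroup G} (hT : T ≤ S) : ∀ i, functorTower W S T i ≤ S
  | 0 => hT
  | i + 1 => (w_le hW (towerQ_isP hS T i)).trans inf_le_left

theorem le_towerQ (hW : IsConjugacyFunctor p W) {S : Subgroup G} (hS : IsPGroup p S)
    {T : Subgroup G} (hT : T ≤ S) (i : ℕ) : functorTower W S T i ≤ towerQ W S T i :=
  le_inf (tower_le hW hS hT i) Subgroup.le_normalizer

theorem towerQ_mono (hW : IsConjugacyFunctor p W) {S : Subgroup G} (hS : IsPGroup p S)
    (T : Subgroup G) (i : ℕ) : towerQ W S T i ≤ towerQ W S T (i + 1) :=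
  le_inf inf_le_left (le_normalizer_w hW (towerQ_isP hS T i))

/-- The tower reaches `W S`. -/
theorem exists_towerQ_eq (hW : IsConjugacyFunctor p W) {S : Subgroup G} (hS : IsPGroup p S)
    (T : Subgroup G) : ∃ m, towerQ W S T m = S := by
  classical
  have hfin : (Set.range fun i => Nat.card (towerQ W S T i)).Finite :=
    (Set.finite_le_nat (Nat.card S)).subset <| by
      rintro _ ⟨i, rfl⟩
      exact Subgroup.card_le_of_le (inf_le_left : towerQ W S T i ≤ S)
  obtain ⟨_, ⟨⟨m, rfl⟩, hmax⟩⟩ := hfin.exists_maximal (Set.range_nonempty _)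
  refine ⟨m, by_contra fun hne => ?_⟩
  have h1 := lt_inf_normalizer hS (lt_of_le_of_ne (inf_le_left : towerQ W S T m ≤ S) hne)
  have h2 : S ⊓ Subgroup.normalizer (towerQ W S T m : Set G) ≤ towerQ W S T (m + 1) :=
    le_inf inf_le_left (inf_le_right.trans (normalizer_le_normalizer_w hW (towerQ_isP hS T m)))
  have h3 : Nat.card (towerQ W S T m) ≤ Nat.card (towerQ W S T (m + 1)) :=
    Subgroup.card_le_of_le (towerQ_mono hW hS T m)
  have h4 : Nat.card (towerQ W S T (m + 1)) ≤ Nat.card (towerQ W S T m) := hmax ⟨m + 1, rfl⟩ h3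
  have h5 : towerQ W S T m = towerQ W S T (m + 1) :=
    Subgroup.eq_of_le_of_card_ge (towerQ_mono hW hS T m) h4
  exact h1.not_ge (h2.trans h5.ge)

theorem tower_ne_bot (hW : IsConjugacyFunctor p W) {S : Subgroup G} (hS : IsPGroup p S)
    {T : Subgroup G} (hT : T ≤ S) (hT1 : T ≠ ⊥) : ∀ i, functorTower W S T i ≠ ⊥
  | 0 => hT1
  | i + 1 => w_ne_bot hW (towerQ_isP hS T i) fun h =>
      tower_ne_bot hW hS hT hT1 i (le_bot_iff.1 (h ▸ le_towerQ hW hS hT i))

theorem wellPlaced_isSyl {S T : Subgroup G} (hS : IsPGroup p S) (h : IsWellPlaced p W S T) (i : ℕ) :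
    IsSyl p (towerQ W S T i)
      (Subgroup.normalizer ((functorTower W S T i : Subgroup G) : Set G)) :=
  isSyl_of_not_dvd hS (h.2 i)

theorem wellPlaced_tower (hW : IsConjugacyFunctor p W) {S T : Subgroup G} (hS : IsPGroup p S)
    (h : IsWellPlaced p W S T) (i : ℕ) : IsWellPlaced p W S (functorTower W S T i) := by
  refine ⟨tower_le hW hS h.1 i, fun j => ?_⟩
  have : ∀ j, functorTower W S (functorTower W S T i) j = functorTower W S T (i + j) := by
    intro j
    induction j with
    | zero => rfl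
    | succ j ih => rw [tower_succ, ← Nat.add_assoc, tower_succ, towerQ, towerQ, ih]
  rw [this]
  exact h.2 _

/-- Every subgroup of `S` has a well-placed conjugate. -/
theorem exists_wellPlaced (hW : IsConjugacyFunctor p W) (S : Sylow p G) (T : Subgroup G)
    (hT : T ≤ (S : Subgroup G)) : ∃ g : G, IsWellPlaced p W (S : Subgroup G) (conjS g T) := by
  classical
  have hex : ∀ U : Subgroup G, IsPGroup p U → ∀ R : Subgroup G, IsPGroup p R →
      R ≤ Subgroup.normalizer (U : Set G) →
      ∃ Q, R ≤ Q ∧ IsSyl p Q (Subgroup.normalizer (U : Set G)) := fun U _ R hR hRN =>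
    exists_isSyl_ge hR hRN
  -- the pairs `(T_i, Q_i)`
  let Good := {x : Subgroup G × Subgroup G //
    IsSyl p x.2 (Subgroup.normalizer (x.1 : Set G)) ∧ x.1 ≤ x.2}
  have hTp : IsPGroup p T := S.2.to_le hT
  obtain ⟨Q₀, hTQ₀, hQ₀⟩ := exists_isSyl_ge hTp (Subgroup.le_normalizer (H := T))
  have step : ∀ x : Good, ∃ y : Good, y.1.1 = W x.1.2 ∧ x.1.2 ≤ y.1.2 := by
    rintro ⟨⟨U, Q⟩, hQ, -⟩
    obtain ⟨Q', hQQ', hQ'⟩ := exists_isSyl_ge hQ.isP (le_normalizer_w hW hQ.isP)
    exact ⟨⟨(W Q, Q'), hQ', (w_le hW hQ.isP).trans hQQ'⟩, rfl, hQQ'⟩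
  choose next hnext1 hnext2 using step
  let seq : ℕ → Good := fun n => next^[n] ⟨(T, Q₀), hQ₀, hTQ₀⟩
  have hseq : ∀ i, seq (i + 1) = next (seq i) := fun i => Function.iterate_succ_apply' next i _
  have hmono : Monotone fun i => (seq i).1.2 :=
    monotone_nat_of_le_succ fun i => by rw [hseq]; exact hnext2 _
  obtain ⟨P, hP⟩ : ∃ P : Sylow p G, ∀ i, (seq i).1.2 ≤ P := by
    have hfin : (Set.range fun i => Nat.card (seq i).1.2).Finite :=
      (Set.finite_le_nat (Nat.card G)).subset <| by
        rintro _ ⟨i, rfl⟩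
        exact Subgroup.card_le_card_group _
    obtain ⟨_, ⟨⟨m, rfl⟩, hmax⟩⟩ := hfin.exists_maximal (Set.range_nonempty _)
    obtain ⟨P, hP⟩ := (seq m).2.1.isP.exists_le_sylow
    refine ⟨P, fun i => ?_⟩
    rcases le_total i m with h | h
    · exact (hmono h).trans hP
    · have h3 : Nat.card (seq i).1.2 ≤ Nat.card (seq m).1.2 :=
        hmax ⟨i, rfl⟩ (Subgroup.card_le_of_le (hmono h))
      exact (Subgroup.eq_of_le_of_card_ge (hmono h) h3).ge.trans hP
  have htower : ∀ i, functorTower W (P : Subgroup G) T i = (seq i).1.1 ∧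
      towerQ W (P : Subgroup G) T i = (seq i).1.2 := by
    have hQ : ∀ i U, U = (seq i).1.1 →
        (P : Subgroup G) ⊓ Subgroup.normalizer (U : Set G) = (seq i).1.2 := fun i U hU => by
      subst hU
      exact (seq i).2.1.eq_of_le (P.2.to_le inf_le_left) inf_le_right
        (le_inf (hP i) (seq i).2.1.le)
    intro i
    induction i with
    | zero => exact ⟨rfl, hQ 0 _ rfl⟩
    | succ i ih =>
      have : functorTower W (P : Subgroup G) T (i + 1) = (seq (i + 1)).1.1 := by
        rw [tower_succ, ih.2, hseq, hnext1]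
      exact ⟨this, hQ _ _ this⟩
  obtain ⟨g, hg⟩ := (isSyl_top P).exists_conj (isSyl_top S)
  refine ⟨g, ?_, fun i => ?_⟩
  · rw [← hg.2]
    refine conjS_mono ?_
    exact (seq 0).2.2.trans (hP 0)
  · rw [← hg.2, tower_conj hW P.2, ← conjS_normalizer, ← conjS_inf, conjS, conjS,
      Subgroup.relIndex_map_map_of_injective _ _ (MulAut.conj g).injective]
    have := (seq i).2.1
    rw [← (htower i).2, ← (htower i).1] at this
    exact this.nd

/-- The family of well-placed subgroups links every conjugation in `S`. -/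
theorem fchain_wellPlaced (hW : IsConjugacyFunctor p W) (S : Sylow p G) (A : Set G) (g : G)
    (hA : A ⊆ (S : Subgroup G)) (hgA : cimg g A ⊆ (S : Subgroup G)) :
    FChain {T : Subgroup G | IsWellPlaced p W (S : Subgroup G) T} A g := by
  refine fchain_of_full S (fun T hT => ?_) A g hA hgA
  obtain ⟨k, hk⟩ := exists_wellPlaced hW S T hT
  exact ⟨_, hk, hk.1, ⟨k, rfl⟩, wellPlaced_isSyl S.2 hk 0⟩

/-! ### One functor -/

theorem controlsSF_iff {H : Subgroup G} :
    ControlsStrongFusionIn p W H ↔ ∃ T, IsSyl p T H ∧ SFAt (nFam {W}) H T := by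
  constructor
  · rintro ⟨T, h1, h2, h3, h⟩
    refine ⟨T, ⟨h1, h2, h3⟩, fun A x hx hA hxA => ?_⟩
    obtain ⟨y, hy, hey⟩ := h A x hx hA hxA
    refine Chain.congr (g := y) (Chain.single (mem_stepSet_nFam.2 ⟨W, rfl, hy⟩) hA ?_) hey
    rw [cimg_congr hey]; exact hxA
  · rintro ⟨T, hT, h⟩
    refine ⟨T, hT.le, hT.isP, hT.nd, fun A x hx hA hxA => ?_⟩
    refine (h A x hx hA hxA).collapse fun y hy => ?_
    obtain ⟨W', hW', hy'⟩ := mem_stepSet_nFam.1 hy
    rw [Set.mem_singleton_iff] at hW'; subst hW'; exact hy'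

theorem trGen_single {H T : Subgroup G} :
    trGen (nFam {W}) H T = T ⊓ ⁅H ⊓ Subgroup.normalizer ((W T : Subgroup G) : Set G),
      H ⊓ Subgroup.normalizer ((W T : Subgroup G) : Set G)⁆ := by
  rw [trGen_nFam, iSup_singleton]

theorem controlsTr_iff {H : Subgroup G} :
    ControlsTransferIn p W H ↔ ∃ T, IsSyl p T H ∧ TrAt (nFam {W}) H T := by
  constructor
  · rintro ⟨T, h1, h2, h3, h⟩
    exact ⟨T, ⟨h1, h2, h3⟩, by rw [TrAt, trGen_single]; exact h⟩
  · rintro ⟨T, hT, h⟩
    exact ⟨T, hT.le, hT.isP, hT.nd, by rw [TrAt, trGen_single] at h; exact h⟩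

theorem equi_single (hW : IsConjugacyFunctor p W) : Equi p (nFam {W}) :=
  equi_nFam fun W' hW' => by rw [Set.mem_singleton_iff] at hW'; subst hW'; exact hW

/-- Strong fusion through well-placed subgroups. -/
theorem sf_of_wellPlaced (hW : IsConjugacyFunctor p W) (S : Sylow p G)
    (hloc : ∀ T : Subgroup G, T ≠ ⊥ → IsWellPlaced p W (S : Subgroup G) T →
      ControlsStrongFusionIn p W (Subgroup.normalizer (T : Set G))) :
    SFAt (nFam {W}) ⊤ (S : Subgroup G) := by
  set N₀ := Subgroup.normalizer ((W (S : Subgroup G) : Subgroup G) : Set G) with hN₀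
  have main : ∀ T : Subgroup G, IsWellPlaced p W (S : Subgroup G) T → T ≠ ⊥ →
      ∀ i, ∀ y ∈ Subgroup.normalizer ((functorTower W (S : Subgroup G) T i : Subgroup G) : Set G),
      ∀ A : Set G, A ⊆ towerQ W (S : Subgroup G) T i → cimg y A ⊆ towerQ W (S : Subgroup G) T i →
      ∃ x ∈ N₀, ∀ a ∈ A, x * a * x⁻¹ = y * a * y⁻¹ := by
    intro T hT hT1
    obtain ⟨m, hm⟩ := exists_towerQ_eq hW S.2 T
    intro i
    induction hd : m - i generalizing i with
    | zero =>
      intro y hy A hA hyA
      have hi : m ≤ i := by omega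
      have hmono : Monotone fun i => towerQ W (S : Subgroup G) T i :=
        monotone_nat_of_le_succ fun i => towerQ_mono hW S.2 T i
      have hQ : towerQ W (S : Subgroup G) T i = (S : Subgroup G) :=
        le_antisymm inf_le_left (hm.ge.trans (hmono hi))
      obtain ⟨R, hR, hsf⟩ := controlsSF_iff.1
        (hloc _ (tower_ne_bot hW S.2 hT.1 hT1 i) (wellPlaced_tower hW S.2 hT i))
      have hsf' := hsf.of_isSyl (equi_single hW) hR (wellPlaced_isSyl S.2 hT i)
      refine (hsf' A y hy hA hyA).collapse fun x hx => ?_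
      obtain ⟨W', hW', hx'⟩ := mem_stepSet_nFam.1 hx
      rw [Set.mem_singleton_iff] at hW'; subst hW'
      rw [hQ] at hx'
      exact hx'.2
    | succ d ih =>
      intro y hy A hA hyA
      obtain ⟨R, hR, hsf⟩ := controlsSF_iff.1
        (hloc _ (tower_ne_bot hW S.2 hT.1 hT1 i) (wellPlaced_tower hW S.2 hT i))
      have hsf' := hsf.of_isSyl (equi_single hW) hR (wellPlaced_isSyl S.2 hT i)
      obtain ⟨x, hx, hex⟩ := (hsf' A y hy hA hyA).collapse
        (N := Subgroup.normalizer ((functorTower W (S : Subgroup G) T (i + 1) : Subgroup G) : Set G))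
        fun x hx => by
          obtain ⟨W', hW', hx'⟩ := mem_stepSet_nFam.1 hx
          rw [Set.mem_singleton_iff] at hW'; subst hW'
          exact hx'.2
      have hmono := SetLike.coe_subset_coe.2 (towerQ_mono hW S.2 T i)
      obtain ⟨z, hz, hez⟩ := ih (i + 1) (by omega) x hx A (hA.trans hmono)
        (by rw [cimg_congr hex]; exact hyA.trans hmono)
      exact ⟨z, hz, fun a ha => (hez a ha).trans (hex a ha)⟩
  intro A h hh hA hhA
  clear hh
  have hc := fchain_wellPlaced hW S A h hA hhA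
  suffices H : ∃ x ∈ N₀, ∀ a ∈ A, x * a * x⁻¹ = h * a * h⁻¹ by
    obtain ⟨x, hx, he⟩ := H
    refine Chain.congr (g := x) (Chain.single (mem_stepSet_nFam.2 ⟨W, rfl, ?_⟩) hA ?_) he
    · exact ⟨trivial, hx⟩
    · rw [cimg_congr he]; exact hhA
  clear hA hhA
  induction hc with
  | nil A => exact ⟨1, one_mem _, fun a _ => rfl⟩
  | @cons A T n h hT hA hn _ ih =>
    obtain ⟨x, hx, he⟩ := ih
    by_cases hT1 : T = ⊥
    · refine ⟨x, hx, fun a ha => ?_⟩
      have h1 : a ∈ T := hA ha
      rw [hT1, Subgroup.mem_bot] at h1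
      subst h1; simp
    · have hTQ : A ⊆ towerQ W (S : Subgroup G) T 0 :=
        hA.trans (SetLike.coe_subset_coe.2 (le_towerQ hW S.2 hT.1 0))
      obtain ⟨z, hz, hez⟩ := main T hT hT1 0 n hn A hTQ
        ((cimg_subset_self hA hn).trans (SetLike.coe_subset_coe.2 (le_towerQ hW S.2 hT.1 0)))
      refine ⟨x * z, mul_mem hx hz, fun a ha => ?_⟩
      calc x * z * a * (x * z)⁻¹ = x * (z * a * z⁻¹) * x⁻¹ := by group
        _ = x * (n * a * n⁻¹) * x⁻¹ := by rw [hez a ha]
        _ = h * (n * a * n⁻¹) * h⁻¹ := he _ (mem_cimg ha)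
        _ = h * n * a * (h * n)⁻¹ := by group

/-- Transfer through well-placed subgroups. -/
theorem tr_of_wellPlaced (hW : IsConjugacyFunctor p W) (S : Sylow p G)
    (hloc : ∀ T : Subgroup G, T ≠ ⊥ → IsWellPlaced p W (S : Subgroup G) T →
      ControlsTransferIn p W (Subgroup.normalizer (T : Set G))) :
    TrAt (nFam {W}) ⊤ (S : Subgroup G) := by
  refine trAt_of_le ?_
  rw [trGen_single, top_inf_eq]
  set N₀ := Subgroup.normalizer ((W (S : Subgroup G) : Subgroup G) : Set G) with hN₀
  set M := (S : Subgroup G) ⊓ ⁅N₀, N₀⁆ with hM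
  have main : ∀ T : Subgroup G, IsWellPlaced p W (S : Subgroup G) T → T ≠ ⊥ →
      ∀ i, towerQ W (S : Subgroup G) T i ⊓
        ⁅Subgroup.normalizer ((functorTower W (S : Subgroup G) T i : Subgroup G) : Set G),
          Subgroup.normalizer ((functorTower W (S : Subgroup G) T i : Subgroup G) : Set G)⁆ ≤ M := by
    intro T hT hT1
    obtain ⟨m, hm⟩ := exists_towerQ_eq hW S.2 T
    intro i
    induction hd : m - i generalizing i with
    | zero =>
      have hi : m ≤ i := by omega
      have hmono : Monotone fun i => towerQ W (S : Subgroup G) T i :=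
        monotone_nat_of_le_succ fun i => towerQ_mono hW S.2 T i
      have hQ : towerQ W (S : Subgroup G) T i = (S : Subgroup G) :=
        le_antisymm inf_le_left (hm.ge.trans (hmono hi))
      obtain ⟨R, hR, htr⟩ := controlsTr_iff.1
        (hloc _ (tower_ne_bot hW S.2 hT.1 hT1 i) (wellPlaced_tower hW S.2 hT i))
      have htr' := htr.of_isSyl (equi_single hW) hR (wellPlaced_isSyl S.2 hT i)
      rw [TrAt, trGen_single, hQ] at htr'
      rw [hQ, htr']
      exact inf_le_inf_left _ (Subgroup.commutator_mono inf_le_right inf_le_right)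
    | succ d ih =>
      obtain ⟨R, hR, htr⟩ := controlsTr_iff.1
        (hloc _ (tower_ne_bot hW S.2 hT.1 hT1 i) (wellPlaced_tower hW S.2 hT i))
      have htr' := htr.of_isSyl (equi_single hW) hR (wellPlaced_isSyl S.2 hT i)
      rw [TrAt, trGen_single] at htr'
      rw [htr']
      exact (inf_le_inf (towerQ_mono hW S.2 T i)
        (Subgroup.commutator_mono inf_le_right inf_le_right)).trans (ih (i + 1) (by omega))
  rw [← commutator_def, inf_comm, Subgroup.commutator_inf_eq_focalSubgroup S,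
    Subgroup.focalSubgroup_def, Subgroup.closure_le]
  rintro _ ⟨hmem, x, hx, u, rfl⟩
  have hux : u * x * u⁻¹ ∈ (S : Subgroup G) := by
    have := mul_mem (inv_mem hmem) hx
    rwa [show ⁅x, u⁆⁻¹ * x = u * x * u⁻¹ by group] at this
  have hc := fchain_wellPlaced hW S {x} u (Set.singleton_subset_iff.2 hx) (by rintro _ ⟨_, rfl, rfl⟩; exact hux)
  suffices H : ∀ (A : Set G) (h : G),
      FChain {T : Subgroup G | IsWellPlaced p W (S : Subgroup G) T} A h →
      ∀ a ∈ A, h * a * h⁻¹ * a⁻¹ ∈ M by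
    have := inv_mem (H _ _ hc x rfl)
    rwa [show (u * x * u⁻¹ * x⁻¹)⁻¹ = ⁅x, u⁆ by group] at this
  intro A h hc'
  induction hc' with
  | nil A => intro a _; simp
  | @cons A T n h hT hA hn _ ih =>
    intro a ha
    have h1 : n * a * n⁻¹ * a⁻¹ ∈ M := by
      by_cases hT1 : T = ⊥
      · have h1 : a ∈ T := hA ha
        rw [hT1, Subgroup.mem_bot] at h1
        subst h1; simp
      · refine main T hT hT1 0 (Subgroup.mem_inf.2 ⟨?_, ?_⟩)
        · exact le_towerQ hW S.2 hT.1 0
            (mul_mem ((Subgroup.mem_normalizer_iff.1 hn a).1 (hA ha)) (inv_mem (hA ha)))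
        · exact Subgroup.commutator_mem_commutator hn (Subgroup.le_normalizer (hA ha))
    have := mul_mem (ih _ (mem_cimg ha)) h1
    rwa [show h * (n * a * n⁻¹) * h⁻¹ * (n * a * n⁻¹)⁻¹ * (n * a * n⁻¹ * a⁻¹) =
      h * n * a * (h * n)⁻¹ * a⁻¹ by group] at this

/-- A subgroup `A` central in `S`, moved inside `S` by an element outside `M` (a subgroup fixing `A`,
containing `N(W S)`), is already moved out of `M` in the normalizer of a well-placed subgroup. -/
theorem exists_moving (hW : IsConjugacyFunctor p W)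
    (hWZ : ∀ P : Subgroup G, IsPGroup p P → P ⊓ Subgroup.centralizer (P : Set G) ≤ W P)
    (S : Sylow p G) {A M : Subgroup G}
    (hA : A ≤ (S : Subgroup G) ⊓ Subgroup.centralizer ((S : Subgroup G) : Set G))
    (hMA : M ≤ Subgroup.normalizer (A : Set G))
    (hM : Subgroup.normalizer ((W (S : Subgroup G) : Subgroup G) : Set G) ≤ M)
    {g : G} (hg : g ∉ M) (hgA : conjS g A ≤ (S : Subgroup G)) :
    ∃ T : Subgroup G, IsWellPlaced p W (S : Subgroup G) T ∧ A ≤ T ∧
      A ≤ Subgroup.centralizer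
        (((S : Subgroup G) ⊓ Subgroup.normalizer (T : Set G) : Subgroup G) : Set G) ∧
      Subgroup.normalizer ((W ((S : Subgroup G) ⊓ Subgroup.normalizer (T : Set G)) : Subgroup G) :
        Set G) ≤ M ∧ ¬ Subgroup.normalizer (T : Set G) ≤ M := by
  have hc := fchain_wellPlaced hW S (A : Set G) g
    (SetLike.coe_subset_coe.2 (hA.trans inf_le_left)) (SetLike.coe_subset_coe.2 hgA)
  obtain ⟨T, hT, hAT, n, hn, hnM⟩ : ∃ T, IsWellPlaced p W (S : Subgroup G) T ∧ A ≤ T ∧
      ∃ n ∈ Subgroup.normalizer (T : Set G), n ∉ M := by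
    suffices H : ∀ (B : Set G) (h : G),
        FChain {T : Subgroup G | IsWellPlaced p W (S : Subgroup G) T} B h → B = (A : Set G) →
        h ∉ M → ∃ T, IsWellPlaced p W (S : Subgroup G) T ∧ A ≤ T ∧
          ∃ n ∈ Subgroup.normalizer (T : Set G), n ∉ M from H _ _ hc rfl hg
    intro B h hc'
    induction hc' with
    | nil B => exact fun _ h1 => absurd (one_mem M) h1
    | @cons B T n k hT hB hn _ ih =>
      intro hBA hk
      subst hBA
      by_cases hnM : n ∈ M
      · refine ih ?_ fun hk' => hk (mul_mem hk' hnM)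
        rw [cimg_coe, conjS_eq_of_mem_normalizer (hMA hnM)]
      · exact ⟨T, hT, SetLike.coe_subset_coe.1 hB, n, hn, hnM⟩
  obtain ⟨m, hm⟩ := exists_towerQ_eq hW S.2 T
  -- the last term whose normalizer is not inside `M`
  classical
  have hend : Subgroup.normalizer ((functorTower W (S : Subgroup G) T (m + 1) : Subgroup G) :
      Set G) ≤ M := by
    rw [tower_succ, hm]; exact hM
  have hex : ∃ i, Subgroup.normalizer ((functorTower W (S : Subgroup G) T (i + 1) : Subgroup G) :
      Set G) ≤ M := ⟨m, hend⟩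
  set j := Nat.find hex with hj
  have hjM := Nat.find_spec hex
  have hjnot : ¬ Subgroup.normalizer ((functorTower W (S : Subgroup G) T j : Subgroup G) :
      Set G) ≤ M := by
    rcases Nat.eq_zero_or_eq_succ_pred j with h0 | h0
    · rw [h0]; exact fun hle => hnM (hle hn)
    · intro hle
      have hlt : j.pred < j := by omega
      exact Nat.find_min hex hlt (by rwa [h0] at hle)
  have hAtower : ∀ i, A ≤ functorTower W (S : Subgroup G) T i := by
    intro i
    induction i with
    | zero => exact hAT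
    | succ i ih =>
      refine le_trans (le_inf (ih.trans (le_towerQ hW S.2 hT.1 i)) ?_)
        (hWZ _ (towerQ_isP S.2 T i))
      exact (hA.trans inf_le_right).trans
        (Subgroup.centralizer_le (SetLike.coe_subset_coe.2 inf_le_left))
  exact ⟨_, wellPlaced_tower hW S.2 hT j, hAtower j,
    (hA.trans inf_le_right).trans (Subgroup.centralizer_le (SetLike.coe_subset_coe.2 inf_le_left)),
    hjM, hjnot⟩

end Cfsg.Agent.Lib.ConjFunctor.WellPlaced
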