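import Cfsg.Agent.Lib.ConjFunctor.Main
import Cfsg.Agent.Lib.ConjFunctor.WellPlaced
import Cfsg.Agent.Lib.ConjFunctor.Fixed
import Cfsg.Agent.Lib.PGroups.Frattini

/-!
# Minimal failures of control of transfer
-/

set_option autoImplicit false
set_option linter.unusedSectionVars false

open Cfsg
open Cfsg.Agent.Lib.Fusion.Alperin
open Cfsg.Agent.Lib.ConjFunctor.Basic
open Cfsg.Agent.Lib.ConjFunctor.Reach
open Cfsg.Agent.Lib.ConjFunctor.Local
open Cfsg.Agent.Lib.ConjFunctor.Section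
open Cfsg.Agent.Lib.ConjFunctor.Steps
open Cfsg.Agent.Lib.ConjFunctor.Fixed

open scoped commutatorElement

namespace Cfsg.Agent.Lib.ConjFunctor.Failure

universe u

variable {p : ℕ} [hp : Fact p.Prime] {𝓦 : Set (∀ (Q : Type u) [Group Q], Subgroup Q)}
variable {G : Type u} [Group G] [Finite G]

/-- `↥⊤ ⧸ N` is `G ⧸ N`. -/
noncomputable def topQuotEquiv (N : Subgroup G) [N.Normal] :
    ↥(⊤ : Subgroup G) ⧸ N.subgroupOf ⊤ ≃* G ⧸ N :=
  QuotientGroup.congr (N.subgroupOf ⊤) N Subgroup.topEquiv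
    (Subgroup.map_comap_eq_self_of_surjective Subgroup.topEquiv.surjective N)

/-- `↥H ⧸ 1` is `↥H`. -/
noncomputable def botQuotEquiv (H : Subgroup G) :
    ↥H ⧸ (⊥ : Subgroup G).subgroupOf H ≃* ↥H :=
  (QuotientGroup.quotientMulEquivOfEq (Subgroup.bot_subgroupOf H)).trans QuotientGroup.quotientBot

/-- Induction over sections for control of transfer. -/
theorem tr_induction (h𝓦 : ∀ W ∈ 𝓦, IsCharPFunctor.{u} p W)
    (h : ∀ (K R : Subgroup G) [(R.subgroupOf K).Normal],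
      (∀ H : Subgroup (↥K ⧸ R.subgroupOf K), H ≠ ⊤ → Tr 𝓦 p H) →
      (∀ (N : Subgroup (↥K ⧸ R.subgroupOf K)) [N.Normal], N ≠ ⊥ →
        Tr 𝓦 p ((↥K ⧸ R.subgroupOf K) ⧸ N)) →
      Tr 𝓦 p (↥K ⧸ R.subgroupOf K))
    (X : Type u) [Group X] [Finite X] (hX : IsSection X G) : Tr 𝓦 p X := by
  induction hn : Nat.card X using Nat.strong_induction_on generalizing X with
  | _ n ih =>
    subst hn
    obtain ⟨K, R, hN, ⟨e⟩⟩ := hX.exists_iso
    refine tr_congr h𝓦 e (h K R (fun H hH => ?_) fun N _ hN' => ?_)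
    · exact ih _ (Nat.card_congr e.toEquiv ▸ Reduce.card_subgroup_lt hH) H
        ((isSection_quot K R).subgroup H) rfl
    · exact ih _ (Nat.card_congr e.toEquiv ▸ Reduce.card_quotient_lt hN') _
        ((isSection_quot K R).quotient (QuotientGroup.mk' N) (QuotientGroup.mk'_surjective N)) rfl

/-- If `N(W S)` is the whole group for some `W`, transfer is controlled. -/
theorem trAt_of_normalizer_eq_top (S : Sylow p G) {W : ∀ (Q : Type u) [Group Q], Subgroup Q}
    (hW : W ∈ 𝓦)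
    (h : Subgroup.normalizer ((inducedFunctor W (S : Subgroup G) : Subgroup G) : Set G) = ⊤) :
    TrAt (nFam (indSet 𝓦 G)) ⊤ (S : Subgroup G) := by
  refine trAt_of_le (le_trans (inf_le_inf_left _ (le_of_eq ?_))
    (le_trGen ⟨_, ⟨W, hW, rfl⟩, rfl⟩))
  simp only [nF, h, inf_top_eq]

/-- An element of a normal `p`-subgroup lying in `G'` dies in every map to an abelian `p`-group that
extends to `S` and is invariant under `G`. -/
theorem eq_one_of_mem_commutator (S : Sylow p G) {A : Type*} [CommGroup A]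
    (φ : (S : Subgroup G) →* A) {P : Subgroup G} [P.Normal] (hPS : P ≤ (S : Subgroup G))
    (hinv : ∀ (g : G) (y : G) (hy : y ∈ P) (hy' : g⁻¹ * y * g ∈ P),
      φ ⟨g⁻¹ * y * g, hPS hy'⟩ = φ ⟨y, hPS hy⟩)
    {x : G} (hx : x ∈ P) (hxG : x ∈ ⁅(⊤ : Subgroup G), (⊤ : Subgroup G)⁆) : φ ⟨x, hPS hx⟩ = 1 := by
  classical
  have hker : MonoidHom.transfer φ x = 1 := Abelianization.commutator_subset_ker _ hxG
  let xS : (S : Subgroup G) := ⟨x, hPS hx⟩
  have hval : MonoidHom.transfer φ x = φ xS ^ (S : Subgroup G).index := by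
    have : Fintype (Quotient (MulAction.orbitRel (Subgroup.zpowers x) (G ⧸ (S : Subgroup G)))) :=
      Fintype.ofFinite _
    rw [MonoidHom.transfer_eq_prod_quotient_orbitRel_zpowers_quot,
      Subgroup.index_eq_sum_minimalPeriod (S : Subgroup G) x, ← Finset.prod_pow_eq_pow_sum]
    refine Finset.prod_congr rfl fun q _ => ?_
    rw [← map_pow]
    exact hinv _ _ (pow_mem hx _) (Subgroup.Normal.conj_mem' inferInstance _ (pow_mem hx _) _)
  rw [hker] at hval
  obtain ⟨n, hn⟩ := S.2 xS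
  exact orderOf_eq_one_iff.1 (Nat.eq_one_of_dvd_coprimes
    ((hp.out.coprime_iff_not_dvd.2 S.not_dvd_index).pow_left n)
    (orderOf_dvd_of_pow_eq_one (by rw [← map_pow, hn, map_one]))
    (orderOf_dvd_of_pow_eq_one hval.symm))

section Minimal

variable (h𝓦 : ∀ W ∈ 𝓦, IsCharPFunctor.{u} p W) (hne : 𝓦.Nonempty)
  (hsub : ∀ H : Subgroup G, H ≠ ⊤ → Tr 𝓦 p H)
  (hquot : ∀ (N : Subgroup G) [N.Normal], N ≠ ⊥ → Tr 𝓦 p (G ⧸ N))
  (hfail : ¬ Tr 𝓦 p G) (S : Sylow p G)

include h𝓦 hsub hquot hfail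

theorem constrained : Constrained p G := by
  by_contra hc
  exact hfail (Reduce.tr_step h𝓦 hsub hquot fun h => absurd h hc)

omit hsub hquot in
theorem not_trAt : ¬ TrAt (nFam (indSet 𝓦 G)) ⊤ (S : Subgroup G) := fun h =>
  hfail fun S' => h.of_isSyl (equi_indSet h𝓦) (isSyl_top S) (isSyl_top S')

omit hquot hfail in
theorem inf_commutator_le_of_ne_top {H : Subgroup G} (hH : H ≠ ⊤) (hSH : (S : Subgroup G) ≤ H) :
    (S : Subgroup G) ⊓ ⁅H, H⁆ ≤ trGen (nFam (indSet 𝓦 G)) ⊤ (S : Subgroup G) :=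
  inf_commutator_le_of_proper (trAt_subgroup h𝓦 ((isSyl_top S).mono hSH le_top) (hsub H hH))

include hne

omit hsub hquot in
theorem sylow_not_normal : ¬ (S : Subgroup G).Normal := by
  intro hn
  obtain ⟨W, hW⟩ := hne
  refine not_trAt h𝓦 hfail S (trAt_of_normalizer_eq_top S hW (top_le_iff.1 ?_))
  rw [← Subgroup.normalizer_eq_top_iff.2 hn]
  exact normalizer_le_normalizer_w (isConjugacyFunctor_induced (h𝓦 W hW)) S.2

omit hsub hquot in
theorem not_le_pCore : ¬ (S : Subgroup G) ≤ pCore p G := by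
  intro hle
  refine sylow_not_normal h𝓦 hne hfail S ?_
  rw [le_antisymm hle (Cores.pCore_le_sylow S)]
  infer_instance

include S in
theorem pCore_ne_bot : pCore p G ≠ ⊥ := by
  intro h
  refine not_le_pCore h𝓦 hne hfail S ?_
  have hc := constrained h𝓦 hsub hquot hfail
  rw [Constrained, h] at hc
  intro x _
  rw [h]
  exact hc (Subgroup.mem_centralizer_iff.2 fun a ha => by
    rw [(Subgroup.mem_bot.1 ha : a = 1), one_mul, mul_one])

theorem inf_commutator_le_sup :
    (S : Subgroup G) ⊓ ⁅(⊤ : Subgroup G), ⊤⁆ ≤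
      trGen (nFam (indSet 𝓦 G)) ⊤ (S : Subgroup G) ⊔ (pCore p G ⊓ ⁅(⊤ : Subgroup G), ⊤⁆) :=
  Reduce.inf_commutator_le_sup h𝓦 S (not_le_pCore h𝓦 hne hfail S) (trGen_le.trans inf_le_right)
    (fun _ hH hSH => inf_commutator_le_of_ne_top h𝓦 hsub S hH hSH)
    (hquot _ (pCore_ne_bot h𝓦 hne hsub hquot hfail S))

omit hquot in
theorem sylow_ne_top : (S : Subgroup G) ≠ ⊤ := fun h =>
  sylow_not_normal h𝓦 hne hfail S (by rw [h]; infer_instance)

omit hquot in
/-- `[P, H] ≤ T ∩ P` for proper overgroups `H` of `S`. -/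
theorem commutator_le_of_ne_top {H : Subgroup G} (hH : H ≠ ⊤) (hSH : (S : Subgroup G) ≤ H) :
    ⁅pCore p G, H⁆ ≤ trGen (nFam (indSet 𝓦 G)) ⊤ (S : Subgroup G) ⊓ pCore p G := by
  have h1 : ⁅pCore p G, H⁆ ≤ pCore p G := by
    refine (Subgroup.commutator_mono le_rfl le_top).trans ?_
    exact Subgroup.commutator_le_left _ _
  refine le_inf (le_trans (le_inf (h1.trans (Cores.pCore_le_sylow S)) ?_)
    (inf_commutator_le_of_ne_top h𝓦 hsub S hH hSH)) h1
  exact Subgroup.commutator_mono ((Cores.pCore_le_sylow S).trans hSH) le_rfl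

omit hquot in
theorem le_normalizer_of_ne_top {H : Subgroup G} (hH : H ≠ ⊤) (hSH : (S : Subgroup G) ≤ H) :
    H ≤ Subgroup.normalizer
      ((trGen (nFam (indSet 𝓦 G)) ⊤ (S : Subgroup G) ⊓ pCore p G : Subgroup G) : Set G) := by
  intro h hh
  refine mem_normalizer_of_forall fun d hd => ?_
  have h1 := commutator_le_of_ne_top h𝓦 hne hsub hfail S hH hSH
    (Subgroup.commutator_mem_commutator (Subgroup.mem_inf.1 hd).2 hh)
  have h2 := mul_mem (inv_mem h1) hd
  rwa [commutatorElement_def, show (d * h * d⁻¹ * h⁻¹)⁻¹ * d = h * d * h⁻¹ by group] at h2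

/-- `G` does not centralize `P / (T ∩ P)`. -/
theorem not_commutator_le : ¬ ⁅pCore p G, (⊤ : Subgroup G)⁆ ≤
    trGen (nFam (indSet 𝓦 G)) ⊤ (S : Subgroup G) ⊓ pCore p G := by
  intro hle
  set T := trGen (nFam (indSet 𝓦 G)) ⊤ (S : Subgroup G) with hT
  refine not_trAt h𝓦 hfail S (trAt_of_le
    ((inf_commutator_le_sup h𝓦 hne hsub hquot hfail S).trans (sup_le le_rfl ?_)))
  rw [← hT]
  intro x hx
  obtain ⟨hxP, hxG⟩ := Subgroup.mem_inf.1 hx
  have hS' : ⁅(S : Subgroup G), (S : Subgroup G)⁆ ≤ T :=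
    (le_inf (Subgroup.commutator_le_self _) le_rfl).trans
      (inf_commutator_le_of_ne_top h𝓦 hsub S (sylow_ne_top h𝓦 hne hsub hfail S) le_rfl)
  set T' := T.subgroupOf (S : Subgroup G) with hT'
  have hcom : commutator (S : Subgroup G) ≤ T' := fun y hy => hS' (by
    rw [← Subgroup.map_subtype_commutator]
    exact ⟨y, hy, rfl⟩)
  haveI : T'.Normal := Subgroup.Normal.of_commutator_le (G := (S : Subgroup G)) hcom
  haveI : IsMulCommutative ((S : Subgroup G) ⧸ T') := ⟨⟨by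
    rintro ⟨a⟩ ⟨b⟩
    refine QuotientGroup.eq.2 (hcom ?_)
    rw [show (a * b)⁻¹ * (b * a) = ⁅b⁻¹, a⁻¹⁆ by group]
    exact Subgroup.commutator_mem_commutator trivial trivial⟩⟩
  letI : CommGroup ((S : Subgroup G) ⧸ T') := { mul_comm := fun a b => mul_comm' a b }
  have h1 := eq_one_of_mem_commutator S (QuotientGroup.mk' T') (Cores.pCore_le_sylow S)
    (fun g y hy hy' => QuotientGroup.eq.2 ?_) hxP hxG
  · exact (QuotientGroup.eq_one_iff (N := T') ⟨x, Cores.pCore_le_sylow S hxP⟩).1 h1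
  · show (g⁻¹ * y * g)⁻¹ * y ∈ T
    have h2 := (Subgroup.mem_inf.1
      (hle (Subgroup.commutator_mem_commutator hy' (Subgroup.mem_top g)))).1
    have h3 := (Subgroup.mem_inf.1 (hle
      (Subgroup.commutator_mem_commutator ((pCore p G).inv_mem hy) (Subgroup.mem_top g⁻¹)))).1
    rw [commutatorElement_def] at h3
    rw [show (g⁻¹ * y * g)⁻¹ * y = (y⁻¹ * g⁻¹ * y⁻¹⁻¹ * g⁻¹⁻¹)⁻¹ by group]
    exact inv_mem h3

/-- `N(T ∩ P)` is proper. -/
theorem normalizer_ne_top : Subgroup.normalizer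
    ((trGen (nFam (indSet 𝓦 G)) ⊤ (S : Subgroup G) ⊓ pCore p G : Subgroup G) : Set G) ≠ ⊤ := by
  intro he
  set D := trGen (nFam (indSet 𝓦 G)) ⊤ (S : Subgroup G) ⊓ pCore p G with hD
  haveI hDn : D.Normal := Subgroup.normalizer_eq_top_iff.1 he
  set π := QuotientGroup.mk' D with hπ
  haveI : ((pCore p G).map π).Normal :=
    (pCore_normal p G).map π (QuotientGroup.mk'_surjective D)
  haveI := Reduce.centralizer_normal ((pCore p G).map π)
  set C := (Subgroup.centralizer (((pCore p G).map π : Subgroup (G ⧸ D)) : Set (G ⧸ D))).comap π with hC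
  have hmem : ∀ g : G, g ∈ C ↔ ∀ y ∈ pCore p G, ⁅y, g⁆ ∈ D := by
    intro g
    rw [hC, Subgroup.mem_comap, Subgroup.mem_centralizer_iff]
    constructor
    · intro h y hy
      refine (QuotientGroup.eq_one_iff _).1 ?_
      change π ⁅y, g⁆ = 1
      rw [map_commutatorElement, commutatorElement_eq_one_iff_mul_comm]
      exact h _ ⟨y, hy, rfl⟩
    · rintro h _ ⟨y, hy, rfl⟩
      rw [← commutatorElement_eq_one_iff_mul_comm, ← map_commutatorElement]
      exact (QuotientGroup.eq_one_iff _).2 (h y hy)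
  have hover : ∀ H : Subgroup G, (S : Subgroup G) ≤ H → H ≠ ⊤ → H ≤ C := fun H hSH hH g hg =>
    (hmem g).2 fun y hy => commutator_le_of_ne_top h𝓦 hne hsub hfail S hH hSH
      (Subgroup.commutator_mem_commutator hy hg)
  have hCtop : C ≠ ⊤ := fun hCt => not_commutator_le h𝓦 hne hsub hquot hfail S
    (Subgroup.commutator_le.2 fun y hy g _ => (hmem g).1 (hCt ▸ Subgroup.mem_top g) y hy)
  have hSC : (S : Subgroup G) ≤ C := hover _ le_rfl (sylow_ne_top h𝓦 hne hsub hfail S)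
  haveI : C.Normal := inferInstanceAs (Subgroup.Normal (Subgroup.comap _ _))
  have hN : Subgroup.normalizer ((S : Subgroup G) : Set G) ≠ ⊤ := fun h =>
    sylow_not_normal h𝓦 hne hfail S (Subgroup.normalizer_eq_top_iff.1 h)
  refine hCtop (top_le_iff.1 fun g _ => ?_)
  obtain ⟨c, hc, n, hn, rfl⟩ := (isSyl_top S).frattini (N := C) le_top
    Subgroup.le_normalizer_of_normal (Subgroup.mem_top g)
  refine mul_mem hc (hover _ Subgroup.le_normalizer hN ?_)
  have hn' := hn.2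
  rw [inf_eq_left.2 hSC] at hn'
  exact hn'

/-- An element of `S` outside `P` has degree at least `p` on some chief factor inside `P`. -/
theorem not_smallDegree {v : G} (hv : v ∈ (S : Subgroup G)) (hvP : v ∉ pCore p G) :
    ¬ SmallDegree p v (pCore p G) := by
  intro hdeg
  set P := pCore p G with hP
  set D := trGen (nFam (indSet 𝓦 G)) ⊤ (S : Subgroup G) ⊓ P with hD
  set M := Subgroup.normalizer (D : Set G) with hM
  have hMtop : M ≠ ⊤ := normalizer_ne_top h𝓦 hne hsub hquot hfail S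
  have hSM : (S : Subgroup G) ≤ M :=
    le_normalizer_of_ne_top h𝓦 hne hsub hfail S (sylow_ne_top h𝓦 hne hsub hfail S) le_rfl
  have hPM : ⁅P, M⁆ ≤ D := commutator_le_of_ne_top h𝓦 hne hsub hfail S hMtop hSM
  haveI hn : (D.subgroupOf P).Normal := (Subgroup.normal_subgroupOf_iff_le_normalizer inf_le_right).2
    ((Cores.pCore_le_sylow S).trans hSM)
  haveI : IsMulCommutative (P ⧸ D.subgroupOf P) := ⟨⟨by
    rintro ⟨a⟩ ⟨b⟩
    refine QuotientGroup.eq.2 (hPM ?_)
    show ((a : G) * b)⁻¹ * (b * a) ∈ ⁅P, M⁆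
    rw [show ((a : G) * b)⁻¹ * (b * a) = ⁅(b : G)⁻¹, (a : G)⁻¹⁆ by group]
    exact Subgroup.commutator_mem_commutator (P.inv_mem b.2)
      (M.inv_mem (hSM (Cores.pCore_le_sylow S a.2)))⟩⟩
  letI : CommGroup (P ⧸ D.subgroupOf P) := { mul_comm := fun a b => mul_comm' a b }
  have hPp : IsPGroup p P := Cores.pCore_isPGroup p
  have hinv := hom_fixed S hSM
    (fun H hSH hH => le_normalizer_of_ne_top h𝓦 hne hsub hfail S hH hSH) hv hvP hPp hdeg
    (hPp.to_quotient _) (QuotientGroup.mk' (D.subgroupOf P)) fun m hm y => QuotientGroup.eq.2 <| by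
      show ((MulAut.conjNormal m y : P) : G)⁻¹ * (y : G) ∈ D
      rw [MulAut.conjNormal_apply, show (m * (y : G) * m⁻¹)⁻¹ * (y : G) = ⁅m, (y : G)⁻¹⁆ by group,
        ← commutatorElement_inv]
      exact inv_mem (hPM (Subgroup.commutator_mem_commutator (P.inv_mem y.2) hm))
  refine not_commutator_le h𝓦 hne hsub hquot hfail S (Subgroup.commutator_le.2 fun y hy g _ => ?_)
  have h1 := QuotientGroup.eq.1 (hinv g ⟨y⁻¹, P.inv_mem hy⟩)
  rw [Subgroup.mem_subgroupOf] at h1
  rw [Subgroup.coe_mul, Subgroup.coe_inv, MulAut.conjNormal_apply] at h1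
  have h2 := inv_mem h1
  rwa [show ((g * y⁻¹ * g⁻¹)⁻¹ * y⁻¹)⁻¹ = ⁅y, g⁆ by group] at h2

end Minimal

/-- A group whose Sylow `p`-subgroup is not inside the derived group has a normal subgroup of index `p`. -/
theorem exists_index_p (S : Sylow p G) (h : ¬ (S : Subgroup G) ≤ ⁅(⊤ : Subgroup G), ⊤⁆) :
    ∃ N : Subgroup G, N.Normal ∧ N.index = p := by
  obtain ⟨s, hs, hsG⟩ := SetLike.not_le_iff_exists.1 h
  set n := Nat.card (Abelianization G) with hn
  let φ : G →* Abelianization G :=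
    (powMonoidHom (n / p ^ n.factorization p)).comp Abelianization.of
  have hrange : IsPGroup p φ.range := by
    rintro ⟨_, g, rfl⟩
    refine ⟨n.factorization p, Subtype.ext ?_⟩
    show (Abelianization.of g ^ (n / p ^ n.factorization p)) ^ p ^ n.factorization p = 1
    rw [← pow_mul, Nat.div_mul_cancel (Nat.ordProj_dvd n p)]
    exact pow_card_eq_one'
  haveI : Nontrivial φ.range := by
    refine ⟨⟨⟨φ s, s, rfl⟩, 1, fun he => hsG ?_⟩⟩
    have h1 : Abelianization.of s ^ (n / p ^ n.factorization p) = 1 := congrArg Subtype.val he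
    obtain ⟨k, hk⟩ := S.2 ⟨s, hs⟩
    have h2 : orderOf (Abelianization.of s) ∣ p ^ k := by
      refine orderOf_dvd_of_pow_eq_one ?_
      rw [← map_pow, show s ^ p ^ k = 1 by simpa using congrArg Subtype.val hk, map_one]
    have hcop : (p ^ k).Coprime (n / p ^ n.factorization p) :=
      (Nat.coprime_ordCompl hp.out Nat.card_pos.ne').pow_left k
    have h3 := orderOf_eq_one_iff.1
      (Nat.eq_one_of_dvd_coprimes hcop h2 (orderOf_dvd_of_pow_eq_one h1))
    exact (QuotientGroup.eq_one_iff s).1 h3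
  obtain ⟨M, hM, -⟩ := (eq_top_or_exists_le_coatom (⊥ : Subgroup φ.range)).resolve_left bot_ne_top
  haveI := PGroups.coatom_normal hrange hM
  refine ⟨M.comap φ.rangeRestrict, inferInstance, ?_⟩
  rw [Subgroup.index_comap_of_surjective _ φ.rangeRestrict_surjective]
  exact PGroups.coatom_index hrange hM

end Cfsg.Agent.Lib.ConjFunctor.Failure
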