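import Cfsg.Prelude.Def_ConjugacyFunctors
import Cfsg.Agent.Lib.Fusion.Alperin
import Mathlib.GroupTheory.Commutator.Basic
import Mathlib.GroupTheory.Focal

/-!
# Conjugacy functors: basic vocabulary

`IsSyl p T H`: `T` is a `p`-subgroup of `H` of index prime to `p` (the form in which the definitions of
`Def_ConjugacyFunctors` write a Sylow subgroup of a subgroup).
-/

set_option autoImplicit false
set_option linter.unusedSectionVars false

open Cfsg
open Cfsg.Agent.Lib.Fusion.Alperin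

namespace Cfsg.Agent.Lib.ConjFunctor.Basic

variable {G : Type*} [Group G] {p : ℕ}

/-- `T` is a Sylow `p`-subgroup of the subgroup `H`. -/
structure IsSyl (p : ℕ) (T H : Subgroup G) : Prop where
  le : T ≤ H
  isP : IsPGroup p T
  nd : ¬ p ∣ T.relIndex H

theorem conjS_top (g : G) : conjS g (⊤ : Subgroup G) = ⊤ :=
  Subgroup.map_top_of_surjective _ (MulAut.conj g).surjective

theorem conjS_bot (g : G) : conjS g (⊥ : Subgroup G) = ⊥ := Subgroup.map_bot _

theorem conjS_inf (g : G) (A B : Subgroup G) : conjS g (A ⊓ B) = conjS g A ⊓ conjS g B :=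
  Subgroup.map_inf _ _ _ (MulAut.conj g).injective

theorem conjS_sup (g : G) (A B : Subgroup G) : conjS g (A ⊔ B) = conjS g A ⊔ conjS g B :=
  Subgroup.map_sup _ _ _

theorem conjS_iSup {ι : Sort*} (g : G) (A : ι → Subgroup G) :
    conjS g (⨆ i, A i) = ⨆ i, conjS g (A i) :=
  Subgroup.map_iSup _ _

theorem conjS_commutator (g : G) (A B : Subgroup G) : conjS g ⁅A, B⁆ = ⁅conjS g A, conjS g B⁆ :=
  Subgroup.map_commutator _ _ _

theorem conjS_centralizer (g : G) (A : Subgroup G) :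
    conjS g (Subgroup.centralizer (A : Set G)) = Subgroup.centralizer (conjS g A : Set G) := by
  ext x
  rw [mem_conjS, Subgroup.mem_centralizer_iff, Subgroup.mem_centralizer_iff]
  constructor
  · intro h y hy
    have h1 : g⁻¹ * y * g * (g⁻¹ * x * g) = g⁻¹ * x * g * (g⁻¹ * y * g) := h _ (mem_conjS.1 hy)
    have h2 := congrArg (fun z => g * z * g⁻¹) h1
    simpa [mul_assoc] using h2
  · intro h y hy
    have h1 := h _ (conj_mem_conjS (g := g) hy)
    have h2 := congrArg (fun z => g⁻¹ * z * g) h1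
    simpa [mul_assoc] using h2

theorem conjS_eq_bot_iff {g : G} {A : Subgroup G} : conjS g A = ⊥ ↔ A = ⊥ :=
  Subgroup.map_eq_bot_iff_of_injective _ (MulAut.conj g).injective

theorem isPGroup_conjS {g : G} {A : Subgroup G} (h : IsPGroup p A) : IsPGroup p (conjS g A) :=
  h.map _

/-- `N(Q) ≤ N(U)` when `U` is attached equivariantly to `Q`. -/
theorem mem_normalizer_of_forall {g : G} {A : Subgroup G} (h : ∀ a ∈ A, g * a * g⁻¹ ∈ A)
    [Finite G] : g ∈ Subgroup.normalizer (A : Set G) := by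
  apply mem_normalizer_of_conjS_eq
  refine Subgroup.eq_of_le_of_card_ge ?_ (card_conjS g A).ge
  rintro _ ⟨a, ha, rfl⟩
  exact h a ha

section Sylow

variable [Finite G] [hp : Fact p.Prime]

/-- The Sylow subgroup of the group `↥H` given by `IsSyl p T H`. -/
def IsSyl.toSylowOf {T H : Subgroup G} (h : IsSyl p T H) : Sylow p H :=
  (h.isP.comap_subtype (K := H)).toSylow h.nd

theorem IsSyl.coe_toSylowOf {T H : Subgroup G} (h : IsSyl p T H) :
    (h.toSylowOf : Subgroup H) = T.subgroupOf H := rfl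

theorem isSyl_map_sylow {H : Subgroup G} (P : Sylow p H) :
    IsSyl p ((P : Subgroup H).map H.subtype) H := by
  refine ⟨Subgroup.map_subtype_le _, P.2.map _, ?_⟩
  have : ((P : Subgroup H).map H.subtype).subgroupOf H = (P : Subgroup H) :=
    Subgroup.comap_map_eq_self_of_injective H.subtype_injective _
  rw [Subgroup.relIndex, this]
  exact P.not_dvd_index

theorem exists_isSyl_ge {U H : Subgroup G} (hU : IsPGroup p U) (hUH : U ≤ H) :
    ∃ T, U ≤ T ∧ IsSyl p T H := by
  obtain ⟨P, hP⟩ := (hU.comap_subtype (K := H)).exists_le_sylow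
  refine ⟨_, ?_, isSyl_map_sylow P⟩
  exact fun x hx => ⟨⟨x, hUH hx⟩, hP hx, rfl⟩

theorem exists_isSyl (H : Subgroup G) : ∃ T, IsSyl p T H := by
  obtain ⟨T, -, hT⟩ := exists_isSyl_ge (p := p) (IsPGroup.of_bot (G := G)) (bot_le : ⊥ ≤ H)
  exact ⟨T, hT⟩

theorem IsSyl.exists_conj_le {T H U : Subgroup G} (h : IsSyl p T H) (hU : IsPGroup p U)
    (hUH : U ≤ H) : ∃ g ∈ H, conjS g U ≤ T := by
  obtain ⟨R, hR⟩ := (hU.comap_subtype (K := H)).exists_le_sylow
  obtain ⟨n, hn⟩ := MulAction.exists_smul_eq H R h.toSylowOf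
  refine ⟨n, n.2, ?_⟩
  rintro _ ⟨u, hu, rfl⟩
  have h1 : (⟨u, hUH hu⟩ : H) ∈ (R : Subgroup H) := hR hu
  have h2 : n * ⟨u, hUH hu⟩ * n⁻¹ ∈ ((n • R : Sylow p H) : Subgroup H) := by
    rw [Sylow.coe_subgroup_smul]
    exact Subgroup.smul_mem_pointwise_smul _ (MulAut.conj n) _ h1
  rw [hn, h.coe_toSylowOf] at h2
  exact h2

theorem IsSyl.card_le {T H U : Subgroup G} (h : IsSyl p T H) (hU : IsPGroup p U) (hUH : U ≤ H) :
    Nat.card U ≤ Nat.card T := by
  obtain ⟨g, -, hg⟩ := h.exists_conj_le hU hUH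
  exact (card_conjS g U).symm.le.trans (Subgroup.card_le_of_le hg)

theorem IsSyl.eq_of_le {T H U : Subgroup G} (h : IsSyl p T H) (hU : IsPGroup p U) (hUH : U ≤ H)
    (hTU : T ≤ U) : U = T :=
  (Subgroup.eq_of_le_of_card_ge hTU (h.card_le hU hUH)).symm

theorem IsSyl.exists_conj {T T' H : Subgroup G} (h : IsSyl p T H) (h' : IsSyl p T' H) :
    ∃ g ∈ H, conjS g T = T' := by
  obtain ⟨g, hg, hle⟩ := h'.exists_conj_le h.isP h.le
  exact ⟨g, hg, Subgroup.eq_of_le_of_card_ge hle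
    ((h.card_le h'.isP h'.le).trans (card_conjS g T).ge)⟩

theorem isSyl_of_maximal {T H : Subgroup G} (hT : IsPGroup p T) (hTH : T ≤ H)
    (hmax : ∀ U : Subgroup G, IsPGroup p U → U ≤ H → T ≤ U → U = T) : IsSyl p T H := by
  obtain ⟨U, hTU, hU⟩ := exists_isSyl_ge hT hTH
  exact hmax U hU.isP hU.le hTU ▸ hU

theorem IsSyl.mono {T K H : Subgroup G} (h : IsSyl p T H) (hTK : T ≤ K) (hKH : K ≤ H) :
    IsSyl p T K :=
  isSyl_of_maximal h.isP hTK fun _ hU hUK hTU => h.eq_of_le hU (hUK.trans hKH) hTU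

theorem IsSyl.conj {T H : Subgroup G} (h : IsSyl p T H) (g : G) :
    IsSyl p (conjS g T) (conjS g H) := by
  refine ⟨conjS_mono h.le, h.isP.map _, ?_⟩
  rw [conjS, conjS, Subgroup.relIndex_map_map_of_injective _ _ (MulAut.conj g).injective]
  exact h.nd

theorem isSyl_top (S : Sylow p G) : IsSyl p (S : Subgroup G) ⊤ :=
  ⟨le_top, S.2, by rw [Subgroup.relIndex_top_right]; exact S.not_dvd_index⟩

theorem IsSyl.exists_sylow {T : Subgroup G} (h : IsSyl p T ⊤) :
    ∃ S : Sylow p G, (S : Subgroup G) = T :=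
  ⟨h.isP.toSylow (by rw [← Subgroup.relIndex_top_right]; exact h.nd), rfl⟩

theorem IsSyl.index_not_dvd {T : Subgroup G} (h : IsSyl p T ⊤) : ¬ p ∣ T.index := by
  rw [← Subgroup.relIndex_top_right]; exact h.nd

/-- The trace of a Sylow subgroup on a normal subgroup. -/
theorem IsSyl.inf_normal {T H N : Subgroup G} (h : IsSyl p T H)
    (hN : H ≤ Subgroup.normalizer (N : Set G)) : IsSyl p (T ⊓ N) (H ⊓ N) := by
  refine isSyl_of_maximal (h.isP.to_le inf_le_left) (inf_le_inf_right _ h.le)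
    fun U hU hUH hTU => ?_
  obtain ⟨g, hg, hle⟩ := h.exists_conj_le hU (hUH.trans inf_le_left)
  have h1 : conjS g U ≤ T ⊓ N :=
    le_inf hle ((conjS_mono (hUH.trans inf_le_right)).trans
      (conjS_eq_of_mem_normalizer (hN hg)).le)
  exact (Subgroup.eq_of_le_of_card_ge hTU
    ((card_conjS g U).symm.le.trans (Subgroup.card_le_of_le h1))).symm

theorem IsSyl.frattini {T H N : Subgroup G} (h : IsSyl p T H) (hNH : N ≤ H)
    (hN : H ≤ Subgroup.normalizer (N : Set G)) {x : G} (hx : x ∈ H) :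
    ∃ c ∈ N, ∃ m ∈ H ⊓ Subgroup.normalizer ((T ⊓ N : Subgroup G) : Set G), x = c * m := by
  have h1 : IsSyl p (T ⊓ N) N := by simpa [inf_eq_right.2 hNH] using h.inf_normal hN
  have h2 : IsSyl p (conjS x (T ⊓ N)) N := by
    simpa [conjS_eq_of_mem_normalizer (hN hx)] using h1.conj x
  obtain ⟨c, hc, he⟩ := h2.exists_conj h1
  refine ⟨c⁻¹, inv_mem hc, c * x, ⟨H.mul_mem (hNH hc) hx, ?_⟩, by simp⟩
  exact mem_normalizer_of_conjS_eq ((conjS_mul c x _).trans he)

/-- `P ⊓ N(R)` is Sylow in `N(R)` exactly when `R` is fully normalized. -/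
theorem isFullyNormalized_iff {P R : Subgroup G} (hP : IsPGroup p P) :
    IsFullyNormalized p P R ↔
      IsSyl p (P ⊓ Subgroup.normalizer (R : Set G)) (Subgroup.normalizer (R : Set G)) :=
  ⟨fun h => isSyl_of_maximal (hP.to_le inf_le_left) inf_le_right h,
    fun h _ hU hUN hle => h.eq_of_le hU hUN hle⟩

/-- The form in which statements write full normalization. -/
theorem isSyl_of_not_dvd {P R : Subgroup G} (hP : IsPGroup p P)
    (h : ¬ p ∣ (P ⊓ Subgroup.normalizer (R : Set G)).relIndex (Subgroup.normalizer (R : Set G))) :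
    IsSyl p (P ⊓ Subgroup.normalizer (R : Set G)) (Subgroup.normalizer (R : Set G)) :=
  ⟨inf_le_right, hP.to_le inf_le_left, h⟩

/-- Some conjugate of `A` in `S` is fully normalized, by an element carrying `N_S(A)` into `S`. -/
theorem exists_fullySyl (S : Sylow p G) (A : Subgroup G) (hA : A ≤ S) :
    ∃ k : G, conjS k A ≤ S ∧
      conjS k ((S : Subgroup G) ⊓ Subgroup.normalizer (A : Set G)) ≤ S ∧
      IsSyl p ((S : Subgroup G) ⊓ Subgroup.normalizer (conjS k A : Set G))
        (Subgroup.normalizer (conjS k A : Set G)) := by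
  obtain ⟨k, h1, h2, h3⟩ := exists_fullyNormalized S A hA
  exact ⟨k, h1, h2, (isFullyNormalized_iff S.2).1 h3⟩

end Sylow

/-! ### Functors -/

section Functor

variable {W : Subgroup G → Subgroup G}

theorem w_le (hW : IsConjugacyFunctor p W) {Q : Subgroup G} (hQ : IsPGroup p Q) : W Q ≤ Q :=
  (hW Q hQ).1

theorem w_ne_bot (hW : IsConjugacyFunctor p W) {Q : Subgroup G} (hQ : IsPGroup p Q) (h : Q ≠ ⊥) :
    W Q ≠ ⊥ :=
  (hW Q hQ).2.1 h

theorem w_conj (hW : IsConjugacyFunctor p W) {Q : Subgroup G} (hQ : IsPGroup p Q) (g : G) :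
    W (conjS g Q) = conjS g (W Q) :=
  (hW Q hQ).2.2 g

theorem normalizer_le_normalizer_w (hW : IsConjugacyFunctor p W) {Q : Subgroup G}
    (hQ : IsPGroup p Q) :
    Subgroup.normalizer (Q : Set G) ≤ Subgroup.normalizer (W Q : Set G) := by
  intro g hg
  apply mem_normalizer_of_conjS_eq
  rw [← w_conj hW hQ, conjS_eq_of_mem_normalizer hg]

theorem le_normalizer_w (hW : IsConjugacyFunctor p W) {Q : Subgroup G} (hQ : IsPGroup p Q) :
    Q ≤ Subgroup.normalizer (W Q : Set G) :=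
  Subgroup.le_normalizer.trans (normalizer_le_normalizer_w hW hQ)

end Functor

end Cfsg.Agent.Lib.ConjFunctor.Basic
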