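import Cfsg.Agent.Lib.ConjFunctor.KTest
import Cfsg.Agent.Lib.Transfer.Critical

/-!
# Critical subgroups of normal `p`-subgroups; quadratic factors against `p`-stability
-/

set_option autoImplicit false
set_option linter.unusedSectionVars false

open Cfsg
open Cfsg.Agent.Lib.Fusion.Alperin
open Cfsg.Agent.Lib.ConjFunctor.Chief
open Cfsg.Agent.Lib.ConjFunctor.Degree

open scoped commutatorElement

namespace Cfsg.Agent.Lib.ConjFunctor.CritExist

variable {G : Type*} [Group G] [Finite G] {p : ℕ} [hp : Fact p.Prime]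

/-- A `p'`-automorphism fixing a normal self-centralizing subgroup of a `p`-group is trivial. -/
theorem eq_one_of_fix {P : Type*} [Group P] [Finite P] (hP : IsPGroup p P) {H : Subgroup P} [hn : H.Normal]
    (hC : Subgroup.centralizer (H : Set P) ≤ H) {a : MulAut P} (ha : (orderOf a).Coprime p)
    (h : ∀ x ∈ H, a x = x) : a = 1 := by
  refine MulEquiv.ext fun g => ?_
  set d := g⁻¹ * a g with hd
  have hdC : d ∈ Subgroup.centralizer (H : Set P) := by
    intro y hy
    have h1 : a (g * y * g⁻¹) = g * y * g⁻¹ := h _ (hn.conj_mem y hy g)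
    rw [map_mul, map_mul, map_inv, h y hy] at h1
    have h2 : a g * y = g * y * g⁻¹ * a g := by rw [← h1]; group
    calc y * d = g⁻¹ * (g * y * g⁻¹ * a g) := by rw [hd]; group
      _ = d * y := by rw [← h2, hd]; group
  have had : a d = d := h d (hC hdC)
  have hag : a g = g * d := by rw [hd]; group
  have hk : ∀ k : ℕ, (a ^ k) g = g * d ^ k := by
    intro k
    induction k with
    | zero => simp
    | succ k ih =>
      rw [pow_succ', MulAut.mul_apply, ih, map_mul, map_pow, had, hag, pow_succ', mul_assoc]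
  have h0 := hk (orderOf a)
  rw [pow_orderOf_eq_one, MulAut.one_apply, eq_comm, mul_eq_left] at h0
  obtain ⟨k, hk'⟩ := hP d
  have hd1 : d = 1 := orderOf_eq_one_iff.1 (Nat.eq_one_of_dvd_coprimes (ha.pow_right k)
    (orderOf_dvd_of_pow_eq_one h0) (orderOf_dvd_of_pow_eq_one hk'))
  rw [hag, hd1, mul_one]
  rfl

/-- A critical subgroup of `O_p(G)`. -/
theorem exists_crit : ∃ A : Subgroup G, KTest.Crit p A ∧
    pCore p G ⊓ Subgroup.centralizer (A : Set G) ≤ A := by
  have hTp : IsPGroup p (pCore p G) := Cores.pCore_isPGroup p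
  obtain ⟨H, hHc, hCH, -, hHcomm⟩ := Transfer.Critical.exists_critical hTp
  haveI := hHc
  haveI hHn : H.Normal := inferInstance
  set A := H.map (pCore p G).subtype with hA
  have hAn : A.Normal := Cores.normal_map_subtype (pCore p G) H
  have hAle : A ≤ pCore p G := Subgroup.map_subtype_le H
  have hcomm : ⁅pCore p G, A⁆ ≤ A ⊓ Subgroup.centralizer (A : Set G) := by
    rw [Subgroup.commutator_comm, Subgroup.commutator_le]
    rintro _ ⟨x, hx, rfl⟩ g hg
    obtain ⟨h1, h2⟩ := Subgroup.mem_inf.1 (hHcomm x hx ⟨g, hg⟩)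
    refine Subgroup.mem_inf.2 ⟨⟨_, h1, rfl⟩, Subgroup.mem_centralizer_iff.2 ?_⟩
    rintro _ ⟨y, hy, rfl⟩
    exact congrArg Subtype.val (Subgroup.mem_centralizer_iff.1 h2 y hy)
  refine ⟨A, ⟨hAn, hAle, ((Subgroup.commutator_mono hAle le_rfl).trans hcomm).trans inf_le_right, hcomm,
    fun φ hφ h => eq_one_of_fix hTp hCH hφ fun x hx => h x ⟨x, hx, rfl⟩⟩, fun x hx => ?_⟩
  obtain ⟨hxT, hxC⟩ := Subgroup.mem_inf.1 hx
  refine ⟨⟨x, hxT⟩, hCH (Subgroup.mem_centralizer_iff.2 fun y hy => Subtype.ext ?_), rfl⟩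
  exact Subgroup.mem_centralizer_iff.1 hxC y ⟨y, hy, rfl⟩

/-- A normal subgroup inducing a `p`-group on a minimal normal `p`-subgroup centralizes it. -/
theorem le_centralizer_of_pGroup_action {U D : Subgroup G} [hD : D.Normal] (hU : IsChiefFactor U ⊥)
    (hUp : IsPGroup p U)
    (hDp : haveI := hU.2.1; IsPGroup p (D.map (MulAut.conjNormal : G →* MulAut U))) :
    D ≤ Subgroup.centralizer (U : Set G) := by
  haveI hUn := hU.2.1
  set χ : G →* MulAut U := MulAut.conjNormal with hχ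
  have hU1 : U ≠ ⊥ := fun h => hU.1.ne h.symm
  haveI : Nontrivial U := (Subgroup.nontrivial_iff_ne_bot U).2 hU1
  have hdvd : p ∣ Nat.card U := (hUp.card_eq_or_dvd).resolve_left Finite.one_lt_card.ne'
  obtain ⟨v, hv, hv1⟩ := hDp.exists_fixed_point_of_prime_dvd_card_of_fixed_point U hdvd (a := 1)
    (fun σ => map_one (σ : MulAut U))
  let F : Subgroup G :=
    { carrier := {u | u ∈ U ∧ ∀ d ∈ D, d * u * d⁻¹ = u}
      one_mem' := ⟨one_mem U, fun d _ => by simp⟩
      mul_mem' := fun {a b} ha hb => ⟨mul_mem ha.1 hb.1, fun d hd => by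
        rw [show d * (a * b) * d⁻¹ = d * a * d⁻¹ * (d * b * d⁻¹) by group, ha.2 d hd, hb.2 d hd]⟩
      inv_mem' := fun {a} ha => ⟨inv_mem ha.1, fun d hd => by
        rw [show d * a⁻¹ * d⁻¹ = (d * a * d⁻¹)⁻¹ by group, ha.2 d hd]⟩ }
  have hFn : F.Normal := ⟨fun a ha g => ⟨hUn.conj_mem a ha.1 g, fun d hd => by
    rw [show d * (g * a * g⁻¹) * d⁻¹ = g * ((g⁻¹ * d * g) * a * (g⁻¹ * d * g)⁻¹) * g⁻¹ by group,
      ha.2 _ (hD.conj_mem' d hd g)]⟩⟩
  rcases hU.2.2.2 F hFn bot_le (fun u hu => hu.1) with h | h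
  · exfalso
    refine hv1 (Subtype.ext (Subgroup.mem_bot.1 (h ▸ ⟨v.2, fun d hd => ?_⟩ : (v : G) ∈ (⊥ : Subgroup G)))).symm
    have h1 := congrArg Subtype.val (hv ⟨χ d, ⟨d, hd, rfl⟩⟩)
    rw [← MulAut.conjNormal_apply]
    exact h1
  · intro d hd
    rw [Subgroup.mem_centralizer_iff]
    intro u hu
    have h1 : u ∈ F := h.symm ▸ hu
    exact (mul_inv_eq_iff_eq_mul.1 (h1.2 d hd)).symm

/-- A quadratic nontrivial element on a chief `p`-factor `U / V` shows that `G ⧸ V` is not `p`-stable. -/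
theorem not_stable_of_quadratic_factor {U V : Subgroup G} (hUV : IsChiefFactor U V) (hU : IsPGroup p U)
    [V.Normal] {g : G} (hq : ⁅⁅U, Subgroup.zpowers g⁆, Subgroup.zpowers g⁆ ≤ V)
    (hne : ¬ ⁅U, Subgroup.zpowers g⁆ ≤ V) : ¬ IsNormalizerPStable p (G ⧸ V) := by
  intro hst
  set π := QuotientGroup.mk' V with hπ
  have hπs := QuotientGroup.mk'_surjective V
  set W := U.map π with hW
  haveI hUn := hUV.2.1
  haveI hWn : W.Normal := hUn.map π hπs
  have hWp : IsPGroup p W := hU.map π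
  have hWmin : IsChiefFactor W ⊥ := by
    refine ⟨bot_lt_iff_ne_bot.2 fun h => hUV.1.not_ge ?_, hWn, inferInstance, fun N hN _ hNW => ?_⟩
    · rwa [hW, Subgroup.map_eq_bot_iff, hπ, QuotientGroup.ker_mk'] at h
    · haveI := hN
      have e : (N.comap π).map π = N := Subgroup.map_comap_eq_self_of_surjective hπs N
      rcases hUV.2.2.2 (N.comap π) inferInstance
        (fun v hv => Subgroup.mem_comap.2 (by rw [show π v = 1 from (QuotientGroup.eq_one_iff v).2 hv]; exact one_mem N))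
        ((Subgroup.comap_mono hNW).trans (by
          rw [hW, Subgroup.comap_map_eq, hπ, QuotientGroup.ker_mk']; exact sup_le le_rfl hUV.1.le)) with h | h
      · exact Or.inl (by rw [← e, h, hπ, QuotientGroup.map_mk'_self])
      · exact Or.inr (by rw [← e, h])
  have hN : Subgroup.normalizer (W : Set (G ⧸ V)) = ⊤ := Subgroup.normalizer_eq_top_iff.2 hWn
  have hgN : π g ∈ Subgroup.normalizer (W : Set (G ⧸ V)) := by rw [hN]; trivial
  have hquad : ⁅⁅W, Subgroup.zpowers (π g)⁆, Subgroup.zpowers (π g)⁆ = ⊥ := by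
    rw [← MonoidHom.map_zpowers, hW, ← Subgroup.map_commutator, ← Subgroup.map_commutator]
    exact le_bot_iff.1 ((Subgroup.map_mono hq).trans (le_of_eq (QuotientGroup.map_mk'_self V)))
  set N := Subgroup.normalizer (W : Set (G ⧸ V)) with hNdef
  set C := (Subgroup.centralizer (W : Set (G ⧸ V))).subgroupOf N with hCdef
  have hmem := hst W hWp (π g) hgN hquad
  haveI : C.Normal := by
    refine (Subgroup.normal_subgroupOf_iff_le_normalizer (Subgroup.centralizer_le_normalizer _)).2 ?_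
    intro x hx
    apply mem_normalizer_of_conjS_eq
    rw [Basic.conjS_centralizer, conjS_eq_of_mem_normalizer hx]
  set Q := pCore p (N ⧸ C) with hQdef
  set D := (Q.comap (QuotientGroup.mk' C)).map N.subtype with hDdef
  haveI : D.Normal := by
    have h1 := Subgroup.le_normalizer_map (H := Q.comap (QuotientGroup.mk' C)) N.subtype
    rw [Subgroup.normalizer_eq_top, ← MonoidHom.range_eq_map, Subgroup.range_subtype] at h1
    exact Subgroup.normalizer_eq_top_iff.1 (top_le_iff.1 (hN.ge.trans h1))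
  have hker : C ≤ ((MulAut.conjNormal : G ⧸ V →* MulAut W).comp N.subtype).ker := by
    intro c hc
    rw [MonoidHom.mem_ker]
    refine MulEquiv.ext fun w => Subtype.ext ?_
    show ((MulAut.conjNormal (c : G ⧸ V) w : W) : G ⧸ V) = w
    have hcw : (w : G ⧸ V) * (c : G ⧸ V) = c * w := Subgroup.mem_centralizer_iff.1 hc w w.2
    rw [MulAut.conjNormal_apply, ← hcw, mul_inv_cancel_right]
  set ψ : N ⧸ C →* MulAut W :=
    QuotientGroup.lift C ((MulAut.conjNormal : G ⧸ V →* MulAut W).comp N.subtype) hker with hψ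
  have hDle : IsPGroup p (D.map (MulAut.conjNormal : G ⧸ V →* MulAut W)) := by
    refine ((Cores.pCore_isPGroup (G := N ⧸ C) p).map ψ).to_le ?_
    rintro _ ⟨_, ⟨n, hn, rfl⟩, rfl⟩
    exact ⟨QuotientGroup.mk' C n, hn, rfl⟩
  have hDC := le_centralizer_of_pGroup_action hWmin hWp hDle
  have hgC : π g ∈ Subgroup.centralizer (W : Set (G ⧸ V)) :=
    hDC ⟨⟨π g, hgN⟩, hmem, rfl⟩
  refine hne (Subgroup.commutator_le.2 fun u hu h hh => (QuotientGroup.eq_one_iff _).1 ?_)
  obtain ⟨k, rfl⟩ := Subgroup.mem_zpowers_iff.1 hh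
  show π ⁅u, g ^ k⁆ = 1
  rw [map_commutatorElement, map_zpow, commutatorElement_eq_one_iff_commute]
  exact Commute.zpow_right (Subgroup.mem_centralizer_iff.1 hgC (π u) ⟨u, hu, rfl⟩) k

end Cfsg.Agent.Lib.ConjFunctor.CritExist
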