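import Mathlib.Algebra.Ring.GeomSum
import Mathlib.Algebra.Polynomial.AlgebraMap
import Mathlib.Algebra.Polynomial.Eval.Coeff
import Mathlib.Data.ZMod.Basic
import Mathlib.Algebra.Field.ZMod
import Mathlib.Algebra.Polynomial.CoeffList
import Mathlib.Algebra.CharP.Lemmas
import Mathlib.GroupTheory.OrderOfElement
import Mathlib.Algebra.Polynomial.RingDivision
import Mathlib.Tactic.NoncommRing

/-!
# An operator of small degree normalizing an abelian `p'`-group of operators centralizes it

If `(T - 1) ^ (p - 1) = 0` on a finite abelian group of exponent `p` and `T` normalizes a commutative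
monoid of operators of order prime to `p`, then `T` commutes with it.
-/

set_option autoImplicit false

namespace Cfsg.Agent.Lib.ConjFunctor.DegreeAbelian

open Polynomial

theorem sub_one_pow_eq_geom_sum {R : Type*} [Ring R] {p : ℕ} [hp : Fact p.Prime]
    (hR : (p : R) = 0) (T : R) : (T - 1) ^ (p - 1) = ∑ i ∈ Finset.range p, T ^ i := by
  have key : ((X : Polynomial (ZMod p)) - 1) ^ (p - 1) = ∑ i ∈ Finset.range p, X ^ i := by
    refine mul_right_cancel₀ (X_sub_C_ne_zero (1 : ZMod p)) ?_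
    rw [map_one, geom_sum_mul, ← pow_succ, Nat.sub_add_cancel hp.out.pos, sub_pow_char,
      one_pow]
  have hdvd : C (p : ℤ) ∣ ((X : Polynomial ℤ) - 1) ^ (p - 1) - ∑ i ∈ Finset.range p, X ^ i := by
    have h : (((X : Polynomial ℤ) - 1) ^ (p - 1) - ∑ i ∈ Finset.range p, X ^ i).map
        (Int.castRingHom (ZMod p)) = 0 := by
      simp only [Polynomial.map_sub, Polynomial.map_pow, Polynomial.map_sum, map_X,
        Polynomial.map_one, key, sub_self]
    rw [C_dvd_iff_dvd_coeff]
    intro i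
    have hi := congrArg (fun f => coeff f i) h
    rw [coeff_map, coeff_zero] at hi
    exact (ZMod.intCast_zmod_eq_zero_iff_dvd _ p).1 hi
  obtain ⟨q, hq⟩ := hdvd
  have h2 := congrArg (fun f => aeval T f) hq
  simp only [map_sub, map_pow, map_sum, map_mul, aeval_X, map_one, aeval_C] at h2
  rw [show algebraMap ℤ R (p : ℤ) = 0 by simpa using hR, zero_mul, sub_eq_zero] at h2
  exact h2

variable {M : Type*} [AddCommGroup M] [Finite M] {p : ℕ} [hp : Fact p.Prime]

/-- **Small degree centralizes.** -/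
theorem commute_of_degree (hM : (p : AddMonoid.End M) = 0) (S : Submonoid (AddMonoid.End M))
    (hcomm : ∀ a ∈ S, ∀ b ∈ S, a * b = b * a) {n : ℕ} (hn : ¬ p ∣ n)
    (hpow : ∀ a ∈ S, a ^ n = 1) (T : AddMonoid.End M) (hT : (T - 1) ^ (p - 1) = 0)
    (hconj : ∀ a ∈ S, ∃ a' ∈ S, T * a = a' * T) : ∀ a ∈ S, T * a = a * T := by
  classical
  have h2 := hp.out.two_le
  choose! σ hσ hσe using hconj
  have hN : ∑ i ∈ Finset.range p, T ^ i = 0 := (sub_one_pow_eq_geom_sum hM T).symm.trans hT
  have hTp : T ^ p = 1 := by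
    have h := geom_sum_mul T p
    rw [hN, zero_mul] at h
    exact (sub_eq_zero.1 h.symm)
  have hσi : ∀ i : ℕ, ∀ a ∈ S, σ^[i] a ∈ S ∧ T ^ i * a = σ^[i] a * T ^ i := by
    intro i
    induction i with
    | zero => intro a ha; exact ⟨ha, by simp⟩
    | succ i ih =>
      intro a ha
      obtain ⟨h1, h2⟩ := ih a ha
      rw [Function.iterate_succ_apply']
      refine ⟨hσ _ h1, ?_⟩
      rw [pow_succ', mul_assoc, h2, ← mul_assoc, hσe _ h1, mul_assoc]
  have hcancel : ∀ {x y : AddMonoid.End M} (i : ℕ), x * T ^ i = y * T ^ i → x = y := by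
    intro x y i h
    have h' : x * (T ^ i * T ^ (p * i - i)) = y * (T ^ i * T ^ (p * i - i)) := by
      rw [← mul_assoc, h, mul_assoc]
    rwa [← pow_add, Nat.add_sub_cancel' (Nat.le_mul_of_pos_left i hp.out.pos), pow_mul, hTp,
      one_pow, mul_one, mul_one] at h'
  have hσmul : ∀ i, ∀ a ∈ S, ∀ b ∈ S, σ^[i] (a * b) = σ^[i] a * σ^[i] b := fun i a ha b hb =>
    hcancel i (by
      rw [← (hσi i _ (S.mul_mem ha hb)).2, ← mul_assoc, (hσi i a ha).2, mul_assoc, (hσi i b hb).2,
        mul_assoc])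
  -- the products obtained by eliminating the terms `p - 1, p - 2, …`
  let P : (ℕ → AddMonoid.End M) → ℕ → ℕ → AddMonoid.End M := fun b k =>
    Nat.rec (fun _ => 1) (fun k Pk i => (σ^[i] (b k) - σ^[p - 1 - k] (b k)) * Pk i) k
  have hP : ∀ b : ℕ → AddMonoid.End M, (∀ k, b k ∈ S) → ∀ k i, ∀ c ∈ S,
      P b k i * c = c * P b k i := by
    intro b hb k
    induction k with
    | zero => intro i c _; show 1 * c = c * 1; simp
    | succ k ih =>
      intro i c hc
      show (σ^[i] (b k) - σ^[p - 1 - k] (b k)) * P b k i * c =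
        c * ((σ^[i] (b k) - σ^[p - 1 - k] (b k)) * P b k i)
      rw [mul_assoc, ih i c hc, ← mul_assoc, ← mul_assoc, sub_mul, mul_sub,
        hcomm _ (hσi i _ (hb k)).1 c hc, hcomm _ (hσi _ _ (hb k)).1 c hc]
  have hrel : ∀ b : ℕ → AddMonoid.End M, (∀ k, b k ∈ S) → ∀ k, k ≤ p - 1 → ∀ a ∈ S,
      ∑ i ∈ Finset.range (p - k), P b k i * (σ^[i] a * T ^ i) = 0 := by
    intro b hb k
    induction k with
    | zero =>
      intro _ a ha
      calc ∑ i ∈ Finset.range (p - 0), P b 0 i * (σ^[i] a * T ^ i)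
          = ∑ i ∈ Finset.range p, T ^ i * a := by
            refine Finset.sum_congr rfl fun i _ => ?_
            show 1 * (σ^[i] a * T ^ i) = T ^ i * a
            rw [one_mul, (hσi i a ha).2]
        _ = 0 := by rw [← Finset.sum_mul, hN, zero_mul]
    | succ k ih =>
      intro hk a ha
      set j := p - 1 - k with hj
      have e1 := ih (by omega) (b k * a) (S.mul_mem (hb k) ha)
      have e2 : ∑ i ∈ Finset.range (p - k), σ^[j] (b k) * (P b k i * (σ^[i] a * T ^ i)) = 0 := by
        rw [← Finset.mul_sum, ih (by omega) a ha, mul_zero]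
      have e3 : ∑ i ∈ Finset.range (p - k),
          (σ^[i] (b k) - σ^[j] (b k)) * P b k i * (σ^[i] a * T ^ i) = 0 := by
        calc _ = ∑ i ∈ Finset.range (p - k), (P b k i * (σ^[i] (b k * a) * T ^ i) -
              σ^[j] (b k) * (P b k i * (σ^[i] a * T ^ i))) := by
              refine Finset.sum_congr rfl fun i _ => ?_
              rw [hσmul i _ (hb k) a ha, sub_mul, ← hP b hb k i _ (hσi i _ (hb k)).1, sub_mul]
              simp only [mul_assoc]
          _ = 0 := by rw [Finset.sum_sub_distrib, e1, e2, sub_zero]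
      rw [show p - k = p - (k + 1) + 1 by omega, Finset.sum_range_succ] at e3
      rw [show p - (k + 1) = j by omega] at e3 ⊢
      rw [sub_self, zero_mul, zero_mul, add_zero] at e3
      exact e3
  -- on a minimal invariant subgroup some nontrivial power of `T` centralizes `S`
  let Inv : AddSubgroup M → Prop := fun Y => ∀ a ∈ S, ∀ x ∈ Y, a x ∈ Y
  have hmin : ∀ W : AddSubgroup M, Inv W → (∀ Y ≤ W, Inv Y → Y = ⊥ ∨ Y = W) →
      ∃ j, 0 < j ∧ j < p ∧ ∀ a ∈ S, ∀ w ∈ W, σ^[j] a w = a w := by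
    intro W hWi hWmin
    by_contra hcon
    push Not at hcon
    have hW0 : W ≠ ⊥ := by
      rintro rfl
      obtain ⟨a, -, w, hw, hne⟩ := hcon 1 one_pos hp.out.one_lt
      rw [AddSubgroup.mem_bot.1 hw, map_zero, map_zero] at hne
      exact hne rfl
    have hb : ∀ k, ∃ a ∈ S, k < p - 1 → ∃ w ∈ W, σ^[p - 1 - k] a w ≠ a w := by
      intro k
      rcases lt_or_ge k (p - 1) with hk | hk
      · obtain ⟨a, ha, w, hw, hne⟩ := hcon (p - 1 - k) (by omega) (by omega)
        exact ⟨a, ha, fun _ => ⟨w, hw, hne⟩⟩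
      · exact ⟨1, S.one_mem, fun h => absurd h (by omega)⟩
    choose b hbS hbW using hb
    have h0 : P b (p - 1) 0 = 0 := by
      have h := hrel b hbS (p - 1) le_rfl 1 S.one_mem
      rw [show p - (p - 1) = 1 by omega, Finset.sum_range_one] at h
      simpa using h
    have hinj : ∀ k ≤ p - 1, ∀ w ∈ W, P b k 0 w ∈ W ∧ (P b k 0 w = 0 → w = 0) := by
      intro k
      induction k with
      | zero => intro _ w hw; exact ⟨hw, id⟩
      | succ k ih =>
        intro hk w hw
        obtain ⟨h1, h1'⟩ := ih (by omega) w hw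
        set j := p - 1 - k with hj
        set F := b k - σ^[j] (b k) with hF
        have hval : P b (k + 1) 0 w = F (P b k 0 w) := rfl
        rw [hval]
        refine ⟨W.sub_mem (hWi _ (hbS k) _ h1) (hWi _ (hσi j _ (hbS k)).1 _ h1), fun h => h1' ?_⟩
        let Y : AddSubgroup M := W ⊓ AddMonoidHom.ker (F : M →+ M)
        have hY : Inv Y := fun a ha x hx => ⟨hWi a ha x hx.1, by
          have e : F * a = a * F := by
            rw [hF, sub_mul, mul_sub, hcomm _ (hbS k) a ha, hcomm _ (hσi j _ (hbS k)).1 a ha]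
          show F (a x) = 0
          rw [show F (a x) = (F * a) x from rfl, e, show (a * F) x = a (F x) from rfl,
            show F x = 0 from hx.2, map_zero]⟩
        rcases hWmin Y inf_le_left hY with hY0 | hY0
        · have hmem : P b k 0 w ∈ Y := ⟨h1, h⟩
          rwa [hY0, AddSubgroup.mem_bot] at hmem
        · exfalso
          obtain ⟨w', hw', hne⟩ := hbW k (by omega)
          have hz : w' ∈ Y := hY0.ge hw'
          exact hne (sub_eq_zero.1 hz.2).symm
    obtain ⟨w, hw, hw0⟩ : ∃ w ∈ W, w ≠ 0 := by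
      by_contra h
      push Not at h
      exact hW0 ((AddSubgroup.eq_bot_iff_forall _).2 h)
    exact hw0 ((hinj (p - 1) le_rfl w hw).2 (by rw [h0]; rfl))
  have hmin1 : ∀ W : AddSubgroup M, Inv W → (∀ Y ≤ W, Inv Y → Y = ⊥ ∨ Y = W) →
      ∀ a ∈ S, ∀ w ∈ W, σ a w = a w := by
    intro W hWi hWmin a ha w hw
    obtain ⟨j, hj0, hjp, hj⟩ := hmin W hWi hWmin
    have hmul : ∀ m, ∀ a ∈ S, σ^[j * m] a w = a w := by
      intro m
      induction m with
      | zero => intro a _; rfl
      | succ m ih =>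
        intro a ha
        rw [Nat.mul_succ, Function.iterate_add_apply, ih _ (hσi j a ha).1, hj a ha w hw]
    have hper : ∀ q, ∀ a ∈ S, σ^[p * q] a = a := fun q a ha => hcancel (p * q) (by
      rw [← (hσi (p * q) a ha).2, pow_mul, hTp, one_pow, one_mul, mul_one])
    have hcop : Nat.Coprime j p :=
      (Nat.coprime_of_lt_prime hj0.ne' hjp hp.out).symm
    obtain ⟨m, hm⟩ := Nat.exists_mul_mod_eq_one_of_coprime hcop hp.out.one_lt
    have h1 := hmul m a ha
    rw [← Nat.mod_add_div (j * m) p, hm.2, Function.iterate_add_apply, hper _ a ha] at h1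
    exact h1
  intro a ha
  obtain ⟨h1, h2⟩ := hσi 1 a ha
  rw [pow_one] at h2
  rw [h2]
  congr 1
  simp only [Function.iterate_one] at h1 ⊢
  -- `σ a` and `a` agree on every minimal invariant subgroup
  have han : a * a ^ (n - 1) = 1 := by
    have hn0 : n ≠ 0 := fun h => hn (h ▸ dvd_zero p)
    rw [← pow_succ', Nat.sub_add_cancel (Nat.pos_of_ne_zero hn0), hpow a ha]
  set z := a ^ (n - 1) * σ a with hz
  have hzS : z ∈ S := S.mul_mem (S.pow_mem ha _) h1
  have hzfix : ∀ W : AddSubgroup M, Inv W → (∀ Y ≤ W, Inv Y → Y = ⊥ ∨ Y = W) →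
      ∀ w ∈ W, z w = w := by
    intro W hWi hWmin w hw
    show (a ^ (n - 1)) (σ a w) = w
    rw [hmin1 W hWi hWmin a ha w hw]
    show (a ^ (n - 1) * a) w = w
    have hn0 : n ≠ 0 := fun h => hn (h.symm ▸ dvd_zero p)
    rw [← pow_succ, Nat.sub_add_cancel (Nat.pos_of_ne_zero hn0), hpow a ha]
    rfl
  have hz1 : z = 1 := by
    let R : AddSubgroup M := AddMonoidHom.range ((z - 1 : AddMonoid.End M) : M →+ M)
    have hR : Inv R := by
      rintro c hc _ ⟨v, rfl⟩
      refine ⟨c v, ?_⟩
      show ((z - 1) * c) v = (c * (z - 1)) v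
      rw [sub_mul, mul_sub, hcomm z hzS c hc, one_mul, mul_one]
    by_contra hne
    have hR0 : R ≠ ⊥ := fun h => hne (sub_eq_zero.1 (AddMonoidHom.ext fun v =>
      (AddSubgroup.eq_bot_iff_forall _).1 h _ ⟨v, rfl⟩))
    haveI : Finite (AddSubgroup M) := Finite.of_injective _ SetLike.coe_injective
    obtain ⟨W, hWs, hWm⟩ := Set.Finite.exists_minimal
      (Set.toFinite {Y : AddSubgroup M | Inv Y ∧ Y ≠ ⊥ ∧ Y ≤ R}) ⟨R, hR, hR0, le_rfl⟩
    obtain ⟨hWi, hW0, hWR⟩ := hWs
    have hWmin : ∀ Y ≤ W, Inv Y → Y = ⊥ ∨ Y = W := fun Y hY hYi =>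
      or_iff_not_imp_left.2 fun hY0 => le_antisymm hY (hWm ⟨hYi, hY0, hY.trans hWR⟩ hY)
    obtain ⟨w, hw, hw0⟩ : ∃ w ∈ W, w ≠ 0 := by
      by_contra h
      push Not at h
      exact hW0 ((AddSubgroup.eq_bot_iff_forall _).2 h)
    obtain ⟨v, hv⟩ := hWR hw
    have hzw := hzfix W hWi hWmin w hw
    have hzv : z v = v + w := by
      rw [← hv]
      show z v = v + (z v - v)
      abel
    have hit : ∀ m : ℕ, (z ^ m) v = v + m • w := by
      intro m
      induction m with
      | zero => simp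
      | succ m ih =>
        rw [pow_succ']
        show z ((z ^ m) v) = _
        rw [ih, map_add, map_nsmul, hzw, hzv, succ_nsmul]
        abel
    have hnw : n • w = 0 := by
      have h := hit n
      rw [hpow z hzS] at h
      exact (add_eq_left.1 h.symm)
    have hpw : p • w = 0 := by
      have h := DFunLike.congr_fun hM w
      rwa [AddMonoid.End.natCast_apply] at h
    exact hw0 (AddMonoid.addOrderOf_eq_one_iff.1 (Nat.eq_one_of_dvd_coprimes
      ((hp.out.coprime_iff_not_dvd).2 hn) (addOrderOf_dvd_of_nsmul_eq_zero hpw)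
      (addOrderOf_dvd_of_nsmul_eq_zero hnw)))
  calc σ a = a * a ^ (n - 1) * σ a := by rw [han, one_mul]
    _ = a := by rw [mul_assoc, ← hz, hz1, mul_one]

end Cfsg.Agent.Lib.ConjFunctor.DegreeAbelian
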