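import Cfsg.Agent.Lib.ConjFunctor.Local

/-!
# Conjugation families

`FChain 𝓕 A h`: `h` is exactly a product of elements normalizing members of `𝓕` which contain the successive
images of `A`. A family with a fully normalized conjugate of every subgroup of the Sylow subgroup is a
conjugation family.
-/

set_option autoImplicit false
set_option linter.unusedSectionVars false

open Cfsg
open Cfsg.Agent.Lib.Fusion.Alperin
open Cfsg.Agent.Lib.ConjFunctor.Basic
open Cfsg.Agent.Lib.ConjFunctor.Reach

namespace Cfsg.Agent.Lib.ConjFunctor.Family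

variable {G : Type*} [Group G]

/-- The exact chain relation, conjugating on the left. -/
inductive FChain (𝓕 : Set (Subgroup G)) : Set G → G → Prop
  | nil (A : Set G) : FChain 𝓕 A 1
  | cons {A : Set G} {T : Subgroup G} {n h : G} (hT : T ∈ 𝓕) (hA : A ⊆ T)
      (hn : n ∈ Subgroup.normalizer (T : Set G)) (c : FChain 𝓕 (cimg n A) h) : FChain 𝓕 A (h * n)

namespace FChain

variable {𝓕 : Set (Subgroup G)} {A B : Set G} {g h : G}

theorem single {T : Subgroup G} {n : G} (hT : T ∈ 𝓕) (hA : A ⊆ T)
    (hn : n ∈ Subgroup.normalizer (T : Set G)) : FChain 𝓕 A n := by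
  simpa using FChain.cons hT hA hn (.nil _)

theorem comp (c₁ : FChain 𝓕 A g) (c₂ : FChain 𝓕 (cimg g A) h) : FChain 𝓕 A (h * g) := by
  induction c₁ generalizing h with
  | nil A => simpa [cimg_one] using c₂
  | @cons A T n k hT hA hn _ ih =>
    rw [← mul_assoc]
    exact .cons hT hA hn (ih (by rwa [← cimg_mul]))

theorem mono (c : FChain 𝓕 A g) (hBA : B ⊆ A) : FChain 𝓕 B g := by
  induction c generalizing B with
  | nil A => exact .nil _
  | cons hT hA hn _ ih => exact .cons hT (hBA.trans hA) hn (ih (cimg_mono hBA))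

/-- The chain as sequences, conjugating on the right. -/
theorem exists_seq (c : FChain 𝓕 A h) :
    ∃ (n : ℕ) (T : Fin n → Subgroup G) (x : Fin n → G), (List.ofFn x).prod = h⁻¹ ∧
      (∀ i, T i ∈ 𝓕) ∧ (∀ i, x i ∈ Subgroup.normalizer ((T i : Subgroup G) : Set G)) ∧
      (∀ h0 : 0 < n, A ⊆ T ⟨0, h0⟩) ∧
      ∀ (i : Fin n) (hi : i.val + 1 < n),
        cimg (((List.ofFn x).take (i.val + 1)).prod)⁻¹ A ⊆ T ⟨i.val + 1, hi⟩ := by
  induction c with
  | nil A =>
    exact ⟨0, Fin.elim0, Fin.elim0, by simp, fun i => i.elim0, fun i => i.elim0,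
      fun h0 => absurd h0 (lt_irrefl 0), fun i => i.elim0⟩
  | @cons A T₀ n₀ h hT hA hn _ ih =>
    obtain ⟨n, T, x, hp, h1, h2, h3, h4⟩ := ih
    refine ⟨n + 1, Fin.cons T₀ T, Fin.cons n₀⁻¹ x, ?_, Fin.cases hT h1, Fin.cases (inv_mem hn) h2,
      fun _ => hA, fun i hi => ?_⟩
    · rw [List.ofFn_succ]; simp [hp]
    · rw [List.ofFn_succ]
      simp only [Fin.cons_zero, Fin.cons_succ, List.take_succ_cons, List.prod_cons, mul_inv_rev,
        inv_inv]
      rw [cimg_mul]
      revert hi
      refine Fin.cases ?_ (fun j => ?_) i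
      · intro hi
        have hn0 : 0 < n := by simpa using hi
        have e : (⟨(0 : Fin (n + 1)).val + 1, hi⟩ : Fin (n + 1)) = (⟨0, hn0⟩ : Fin n).succ :=
          Fin.ext (by simp)
        rw [e, Fin.cons_succ]
        simpa [cimg_one] using h3 hn0
      · intro hi
        exact h4 j (by simpa using hi)

/-- Sequences conjugating on the right give a chain. -/
theorem of_seq : ∀ (n : ℕ) (A : Set G) (T : Fin n → Subgroup G) (x : Fin n → G),
    (∀ i, T i ∈ 𝓕) → (∀ i, x i ∈ Subgroup.normalizer ((T i : Subgroup G) : Set G)) →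
    (∀ h0 : 0 < n, A ⊆ T ⟨0, h0⟩) →
    (∀ (i : Fin n) (hi : i.val + 1 < n),
        cimg (((List.ofFn x).take (i.val + 1)).prod)⁻¹ A ⊆ T ⟨i.val + 1, hi⟩) →
    FChain 𝓕 A ((List.ofFn x).prod)⁻¹ := by
  intro n
  induction n with
  | zero => intro A T x _ _ _ _; simpa using FChain.nil A
  | succ n ih =>
    intro A T x h1 h2 h3 h4
    rw [List.ofFn_succ, List.prod_cons, mul_inv_rev]
    refine .cons (h1 0) (h3 n.succ_pos) (inv_mem (h2 0))
      (ih _ (fun i => T i.succ) (fun i => x i.succ) (fun i => h1 _) (fun i => h2 _) ?_ ?_)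
    · intro h0
      have := h4 ⟨0, n.succ_pos⟩ (show 0 + 1 < n + 1 by omega)
      simpa [List.ofFn_succ] using this
    · intro i hi
      have := h4 i.succ (by simpa using hi)
      rw [← cimg_mul]
      simpa [List.ofFn_succ, mul_inv_rev] using this

end FChain

theorem isConjugationFamily_iff {𝓕 : Set (Subgroup G)} {S : Subgroup G} :
    IsConjugationFamily 𝓕 S ↔ (∀ T ∈ 𝓕, T ≤ S) ∧
      ∀ (A : Set G) (h : G), A.Nonempty → A ⊆ S → cimg h A ⊆ S → FChain 𝓕 A h := by
  constructor
  · rintro ⟨h1, h2⟩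
    refine ⟨h1, fun A h hne hA hhA => ?_⟩
    obtain ⟨n, T, x, hp, hT, hx, h0, hs⟩ := h2 A h⁻¹ hne hA (by simpa [cimg] using hhA)
    have := FChain.of_seq n A T x hT hx h0 (fun i hi => by simpa [cimg] using hs i hi)
    simpa [hp] using this
  · rintro ⟨h1, h2⟩
    refine ⟨h1, fun A g hne hA hgA => ?_⟩
    obtain ⟨n, T, x, hp, hT, hx, h0, hs⟩ := (h2 A g⁻¹ hne hA (by simpa [cimg] using hgA)).exists_seq
    exact ⟨n, T, x, by simpa using hp, hT, hx, h0, fun i hi => by simpa [cimg] using hs i hi⟩

variable [Finite G] {p : ℕ} [Fact p.Prime]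

/-- A set of subgroups of `S` with a fully normalized conjugate of every subgroup is a conjugation family. -/
theorem fchain_of_full (S : Sylow p G) {𝓕 : Set (Subgroup G)}
    (h : ∀ T : Subgroup G, T ≤ (S : Subgroup G) → ∃ U ∈ 𝓕, U ≤ (S : Subgroup G) ∧
      (∃ g : G, conjS g T = U) ∧
      IsSyl p ((S : Subgroup G) ⊓ Subgroup.normalizer (U : Set G))
        (Subgroup.normalizer (U : Set G)))
    (A : Set G) (g : G) (hA : A ⊆ (S : Subgroup G)) (hgA : cimg g A ⊆ (S : Subgroup G)) :
    FChain 𝓕 A g := by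
  let C : ℕ → Prop := fun k => ∀ (A : Subgroup G) (g : G), A ≤ S → conjS g A ≤ S →
    k ≤ Nat.card A → FChain 𝓕 (A : Set G) g
  have key : ∀ d k, Nat.card (S : Subgroup G) < k + d → C k := by
    intro d
    induction d with
    | zero =>
      intro k hk A g hA _ hc
      have := Subgroup.card_le_of_le hA; omega
    | succ d ih =>
      intro k hk
      have Cp : C (k + 1) := ih (k + 1) (by omega)
      intro A g hA hgA hk'
      suffices H : ∀ (A : Subgroup G) (g : G), FusionChain p (S : Subgroup G) A g →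
          k ≤ Nat.card A → FChain 𝓕 (A : Set G) g from
        H A g (alperin S A g hA hgA) hk'
      intro A g hc
      induction hc with
      | @base A R n hR hAR hn =>
        intro hk'
        obtain ⟨U, hU, hUS, ⟨g₀, hg₀⟩, hUfn⟩ := h R hR.1
        rcases eq_or_ne R (S : Subgroup G) with hRS | hRS
        · have hUR : U = R := by
            refine Subgroup.eq_of_le_of_card_ge (hUS.trans hRS.ge) ?_
            rw [← hg₀, card_conjS]
          subst hUR
          exact .single hU (SetLike.coe_subset_coe.2 hAR) hn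
        · set Q := (S : Subgroup G) ⊓ Subgroup.normalizer (R : Set G) with hQ
          have h1 : IsSyl p (conjS g₀ Q) (Subgroup.normalizer (U : Set G)) := by
            rw [← hg₀, ← conjS_normalizer]
            exact ((isFullyNormalized_iff S.2).1 hR.2.1).conj g₀
          obtain ⟨m, hm, hmQ⟩ := h1.exists_conj hUfn
          set g₁ := m * g₀ with hg₁
          have hg₁R : conjS g₁ R = U := by
            rw [hg₁, conjS_mul, hg₀, conjS_eq_of_mem_normalizer hm]
          have hg₁Q : conjS g₁ Q = (S : Subgroup G) ⊓ Subgroup.normalizer (U : Set G) := by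
            rw [hg₁, conjS_mul, hmQ]
          have hAQ : A ≤ Q := le_inf (hAR.trans hR.1) (hAR.trans Subgroup.le_normalizer)
          have hcard : k + 1 ≤ Nat.card Q := by
            have h1' := lt_inf_normalizer S.2 (lt_of_le_of_ne hR.1 hRS)
            have h2 : Nat.card R < Nat.card Q :=
              lt_of_le_of_ne (Subgroup.card_le_of_le h1'.le)
                fun he' => h1'.ne (Subgroup.eq_of_le_of_card_ge h1'.le he'.ge)
            have := Subgroup.card_le_of_le hAR
            omega
          have c1 : FChain 𝓕 (A : Set G) g₁ :=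
            (Cp Q g₁ inf_le_left (hg₁Q.le.trans inf_le_left) hcard).mono hAQ
          have hn' : g₁ * n * g₁⁻¹ ∈ Subgroup.normalizer (U : Set G) := by
            rw [← hg₁R]; exact mem_normalizer_conjS hn
          have hsub : cimg g₁ (A : Set G) ⊆ U :=
            cimg_subset_of_le (SetLike.coe_subset_coe.2 hAR) hg₁R.le
          have c2 : FChain 𝓕 (cimg g₁ (A : Set G)) (g₁ * n * g₁⁻¹) := .single hU hsub hn'
          have c3 : FChain 𝓕 (cimg (g₁ * n * g₁⁻¹ * g₁) (A : Set G)) g₁⁻¹ := by
            refine (Cp (conjS g₁ Q) g₁⁻¹ (hg₁Q.le.trans inf_le_left)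
              (by rw [conjS_inv_conjS]; exact inf_le_left) (by rwa [card_conjS])).mono ?_
            rw [show g₁ * n * g₁⁻¹ * g₁ = g₁ * n by group, cimg_mul]
            refine cimg_subset_of_le (B := R) ?_ (conjS_mono (le_inf hR.1 Subgroup.le_normalizer))
            exact cimg_subset_self (SetLike.coe_subset_coe.2 hAR) hn
          have := (c1.comp c2).comp c3
          simpa [mul_assoc] using this
      | @comp A g₁ g₂ _ _ ih₁ ih₂ =>
        intro hk'
        exact (ih₁ hk').comp (ih₂ (by rwa [card_conjS]))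
  have hle : Subgroup.closure A ≤ S := (Subgroup.closure_le _).2 hA
  have hle' : conjS g (Subgroup.closure A) ≤ S := by
    rw [conjS, MonoidHom.map_closure]; exact (Subgroup.closure_le _).2 hgA
  exact (key (Nat.card (S : Subgroup G) + 1) 0 (by omega) _ g hle hle' (Nat.zero_le _)).mono
    Subgroup.subset_closure

end Cfsg.Agent.Lib.ConjFunctor.Family
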