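import Cfsg.Agent.Lib.ConjFunctor.Basic
import Cfsg.Agent.Lib.Cores.Basic
import Cfsg.Prelude.Def_LocalEven
import Cfsg.Prelude.Def_PLocal
import Mathlib.RingTheory.Polynomial.Basic

/-!
# Fixed points under a unique maximal overgroup of a Sylow subgroup

`S` is a Sylow `p`-subgroup, every proper subgroup containing `S` lies in `M ≥ S`, and some element
`v ∈ S` outside `O_p(G)` acts unipotently of degree at most `p - 1` on the layers of a `G`-module: then
every element fixed by `M` is fixed by `G`.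
-/

set_option autoImplicit false
set_option linter.unusedSectionVars false

open Cfsg
open Cfsg.Agent.Lib.Fusion.Alperin
open Cfsg.Agent.Lib.ConjFunctor.Basic

open scoped commutatorElement

namespace Cfsg.Agent.Lib.ConjFunctor.FixedPoint

variable {G : Type*} [Group G] [Finite G] {p : ℕ} [hp : Fact p.Prime]

/-- A layer `U / V` of the module is good for `v`: exponent `p` and `(v - 1) ^ (p - 1) = 0`. -/
structure GoodLayer {Y : Type*} [AddCommGroup Y] (ρ : G →* AddMonoid.End Y) (p : ℕ) (v : G)
    (U V : AddSubgroup Y) : Prop where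
  invU : ∀ g : G, ∀ x ∈ U, ρ g x ∈ U
  invV : ∀ g : G, ∀ x ∈ V, ρ g x ∈ V
  le : V ≤ U
  pMul : ∀ x ∈ U, p • x ∈ V
  unip : ∀ x ∈ U, ((ρ v - 1) ^ (p - 1)) x ∈ V

variable {Y : Type*} [AddCommGroup Y] {ρ : G →* AddMonoid.End Y}

theorem mul_app (f g : AddMonoid.End Y) (x : Y) : (f * g) x = f (g x) := rfl

theorem pow_sub_one_mem {U : AddSubgroup Y} {v : G} (hU : ∀ g : G, ∀ x ∈ U, ρ g x ∈ U) :
    ∀ (n : ℕ), ∀ x ∈ U, ((ρ v - 1) ^ n) x ∈ U := by
  intro n
  induction n with
  | zero => exact fun x hx => hx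
  | succ n ih =>
    intro x hx
    rw [pow_succ]
    exact ih _ (U.sub_mem (hU v x hx) hx)

/-- Conjugates of `v` act the same way. -/
theorem GoodLayer.conj {v : G} {U V : AddSubgroup Y} (h : GoodLayer ρ p v U V) (g : G) :
    GoodLayer ρ p (g * v * g⁻¹) U V := by
  refine ⟨h.invU, h.invV, h.le, h.pMul, fun x hx => ?_⟩
  have h1 : ρ g * ρ g⁻¹ = 1 := by rw [← map_mul, mul_inv_cancel, map_one]
  have h2 : ρ g⁻¹ * ρ g = 1 := by rw [← map_mul, inv_mul_cancel, map_one]
  have h3 : ∀ n : ℕ, (ρ (g * v * g⁻¹) - 1) ^ n = ρ g * (ρ v - 1) ^ n * ρ g⁻¹ := by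
    intro n
    induction n with
    | zero => simp [h1]
    | succ n ih =>
      rw [pow_succ, ih, map_mul, map_mul, pow_succ]
      calc ρ g * (ρ v - 1) ^ n * ρ g⁻¹ * (ρ g * ρ v * ρ g⁻¹ - 1)
          = ρ g * (ρ v - 1) ^ n * ρ g⁻¹ * (ρ g * ρ v * ρ g⁻¹ - ρ g * ρ g⁻¹) := by rw [h1]
        _ = ρ g * (ρ v - 1) ^ n * (ρ g⁻¹ * ρ g) * (ρ v - 1) * ρ g⁻¹ := by noncomm_ring
        _ = ρ g * ((ρ v - 1) ^ n * (ρ v - 1)) * ρ g⁻¹ := by rw [h2]; noncomm_ring
  rw [h3]
  exact h.invV g _ (h.unip _ (h.invU g⁻¹ x hx))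

/-- The sum over an orbit of length `p ^ k > 1` vanishes modulo the smaller term. -/
theorem GoodLayer.orbit_sum_mem {v : G} {U V : AddSubgroup Y} (h : GoodLayer ρ p v U V) {k : ℕ}
    (hk : k ≠ 0) {x : Y} (hx : x ∈ U) : ∑ i ∈ Finset.range (p ^ k), ρ (v ^ i) x ∈ V := by
  set T : AddMonoid.End Y := ρ v - 1 with hT
  have h1 : ∑ i ∈ Finset.range (p ^ k), ρ (v ^ i) =
      ∑ i ∈ Finset.range (p ^ k), ((p ^ k).choose (i + 1) : AddMonoid.End Y) * T ^ i := by
    have := congrArg (Polynomial.aeval T) (Polynomial.geom_sum_X_comp_X_add_one_eq_sum (R := ℤ) (p ^ k))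
    simp only [Polynomial.aeval_comp, map_sum, map_mul, map_pow, Polynomial.aeval_X, map_add,
      map_one, map_natCast] at this
    rw [← this]
    exact Finset.sum_congr rfl fun i _ => by rw [map_pow, hT, sub_add_cancel]
  have h2 := congrArg (fun φ : AddMonoid.End Y => φ x) h1
  rw [show (∑ i ∈ Finset.range (p ^ k), ρ (v ^ i)) x = ∑ i ∈ Finset.range (p ^ k), ρ (v ^ i) x from
    AddMonoidHom.finsetSum_apply _ _ _] at h2
  rw [h2, show ((∑ i ∈ Finset.range (p ^ k), ((p ^ k).choose (i + 1) : AddMonoid.End Y) * T ^ i) x) =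
    ∑ i ∈ Finset.range (p ^ k), (((p ^ k).choose (i + 1) : AddMonoid.End Y) * T ^ i) x from
    AddMonoidHom.finsetSum_apply _ _ _]
  refine V.sum_mem fun i hi => ?_
  rw [Finset.mem_range] at hi
  rw [mul_app, AddMonoid.End.natCast_apply]
  rcases eq_or_ne (i + 1) (p ^ k) with he | he
  · refine V.nsmul_mem ?_ _
    have hle : p - 1 ≤ i := by
      have := Nat.le_self_pow hk p
      omega
    rw [show i = (i - (p - 1)) + (p - 1) by omega, pow_add, mul_app]
    exact pow_sub_one_mem h.invV _ _ (h.unip _ hx)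
  · obtain ⟨d, hd⟩ := hp.out.dvd_choose_pow (n := k) (k := i + 1) (by omega) he
    rw [hd, mul_comm, mul_nsmul']
    exact V.nsmul_mem (h.pMul _ (pow_sub_one_mem h.invU _ _ hx)) _

/-- The elements of `S` conjugate to `v`. -/
def conjIn (S : Subgroup G) (v : G) : Set G := {u | u ∈ S ∧ ∃ g : G, u = g * v * g⁻¹}

theorem closure_conjIn_le (S : Subgroup G) (v : G) : Subgroup.closure (conjIn S v) ≤ S :=
  (Subgroup.closure_le _).2 fun _ hu => hu.1

/-- A subgroup generated by a part of `conjIn S v` is everything or misses a conjugate normalizing it. -/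
theorem exists_conjIn_normalizer (S : Sylow p G) (v : G) {X : Set G}
    (hX : X ⊆ conjIn (S : Subgroup G) v)
    (hne : Subgroup.closure X ≠ Subgroup.closure (conjIn (S : Subgroup G) v)) :
    ∃ u ∈ conjIn (S : Subgroup G) v, u ∉ Subgroup.closure X ∧
      u ∈ Subgroup.normalizer (Subgroup.closure X : Set G) := by
  by_contra hcon
  simp only [not_exists, not_and] at hcon
  set R := Subgroup.closure X with hR
  have hRS : R ≤ (S : Subgroup G) := (Subgroup.closure_mono hX).trans (closure_conjIn_le _ v)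
  set Q := (S : Subgroup G) ⊓ Subgroup.normalizer (R : Set G) with hQ
  have hQu : ∀ u ∈ conjIn (S : Subgroup G) v, u ∈ Q → u ∈ R := fun u hu huQ =>
    by_contra fun h => hcon u hu h huQ.2
  have hNQ : (S : Subgroup G) ⊓ Subgroup.normalizer (Q : Set G) ≤ Q := by
    rintro y ⟨hy, hyQ⟩
    refine Subgroup.mem_inf.2 ⟨hy, mem_normalizer_of_conjS_eq ?_⟩
    refine Subgroup.eq_of_le_of_card_ge ?_ (card_conjS y R).ge
    rw [hR, conjS, MonoidHom.map_closure, Subgroup.closure_le]
    rintro _ ⟨x, hx, rfl⟩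
    have hxQ : x ∈ Q := Subgroup.mem_inf.2
      ⟨(hX hx).1, Subgroup.le_normalizer (Subgroup.subset_closure hx)⟩
    obtain ⟨hxS, g, rfl⟩ := hX hx
    refine hQu _ ⟨mul_mem (mul_mem hy hxS) (inv_mem hy), y * g, ?_⟩
      ((Subgroup.mem_normalizer_iff.1 hyQ _).1 hxQ)
    show y * (g * v * g⁻¹) * y⁻¹ = y * g * v * (y * g)⁻¹
    group
  have hQS : Q = (S : Subgroup G) := by
    by_contra hne'
    exact (lt_inf_normalizer S.2 (lt_of_le_of_ne inf_le_left hne')).not_ge hNQ
  refine hne (le_antisymm (Subgroup.closure_mono hX) ((Subgroup.closure_le _).2 fun u hu => ?_))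
  exact hQu u hu (hQS ▸ hu.1)

theorem closure_conjIn_normal (S : Sylow p G) (v : G) :
    (S : Subgroup G) ≤ Subgroup.normalizer (Subgroup.closure (conjIn (S : Subgroup G) v) : Set G) := by
  intro y hy
  apply mem_normalizer_of_conjS_eq
  refine Subgroup.eq_of_le_of_card_ge ?_ (card_conjS y _).ge
  rw [conjS, MonoidHom.map_closure, Subgroup.closure_le]
  rintro _ ⟨x, ⟨hxS, g, rfl⟩, rfl⟩
  refine Subgroup.subset_closure ⟨mul_mem (mul_mem hy hxS) (inv_mem hy), y * g, ?_⟩
  show y * (g * v * g⁻¹) * y⁻¹ = y * g * v * (y * g)⁻¹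
  group

/-- Modulo `V`, an element of `U` fixed by `M` is fixed by `G`. -/
theorem layer_fixed (S : Sylow p G) {M : Subgroup G} (hSM : (S : Subgroup G) ≤ M)
    (hM : ∀ H : Subgroup G, (S : Subgroup G) ≤ H → H ≠ ⊤ → H ≤ M)
    {v : G} (hv : v ∈ (S : Subgroup G)) (hvP : v ∉ pCore p G) {U V : AddSubgroup Y}
    (h : GoodLayer ρ p v U V) {w : Y} (hw : w ∈ U) (hfix : ∀ m ∈ M, ρ m w = w) :
    ∀ g : G, ρ g w - w ∈ V := by
  classical
  have := Fintype.ofFinite (G ⧸ M)
  let f : G ⧸ M → Y := Quotient.lift (fun g : G => ρ g w) fun a b hab => by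
    have hm : a⁻¹ * b ∈ M := QuotientGroup.leftRel_apply.1 hab
    have e : b = a * (a⁻¹ * b) := by group
    show ρ a w = ρ b w
    rw [e, map_mul, mul_app, hfix _ hm]
  have hf : ∀ (g : G) (c : G ⧸ M), f (g • c) = ρ g (f c) := by
    intro g c
    induction c using Quotient.inductionOn with
    | h a => show ρ (g * a) w = ρ g (ρ a w); rw [map_mul, mul_app]
  have hfU : ∀ c, f c ∈ U := by
    intro c
    induction c using Quotient.inductionOn with
    | h a => exact h.invU a w hw
  let Fx : Subgroup G → Finset (G ⧸ M) := fun R => Finset.univ.filter fun c => ∀ r ∈ R, r • c = c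
  -- orbits of a conjugate of `v` outside its fixed points
  have horb : ∀ u ∈ conjIn (S : Subgroup G) v, ∀ n, ∀ E : Finset (G ⧸ M), E.card ≤ n →
      (∀ c ∈ E, u • c ∈ E) → (∀ c ∈ E, u • c ≠ c) → ∑ c ∈ E, f c ∈ V := by
    intro u hu n
    induction n with
    | zero =>
      intro E hE _ _
      rw [Finset.card_eq_zero.1 (Nat.le_zero.1 hE), Finset.sum_empty]
      exact zero_mem V
    | succ n ih =>
      intro E hE hinv hmove
      rcases E.eq_empty_or_nonempty with rfl | ⟨c, hc⟩
      · rw [Finset.sum_empty]; exact zero_mem V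
      set m := Function.minimalPeriod (fun x : G ⧸ M => u • x) c with hm
      obtain ⟨k₀, hk₀⟩ := S.2 ⟨u, hu.1⟩
      have hu1 : u ^ p ^ k₀ = 1 := by simpa using congrArg Subtype.val hk₀
      have hper : Function.IsPeriodicPt (fun x : G ⧸ M => u • x) (p ^ k₀) c := by
        show (fun x : G ⧸ M => u • x)^[p ^ k₀] c = c
        rw [smul_iterate, hu1]
        exact one_smul G c
      obtain ⟨k, -, hmk⟩ := (Nat.dvd_prime_pow hp.out).1 hper.minimalPeriod_dvd
      have hk : k ≠ 0 := by
        rintro rfl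
        rw [pow_zero, ← hm, hm, Function.minimalPeriod_eq_one_iff_isFixedPt] at hmk
        exact hmove c hc hmk
      have hmem : ∀ i : ℕ, u ^ i • c ∈ E := by
        intro i
        induction i with
        | zero => rwa [pow_zero, one_smul]
        | succ i hi => rw [pow_succ', mul_smul]; exact hinv _ hi
      set O := (Finset.range m).image fun i : ℕ => u ^ i • c with hO
      have hOE : O ⊆ E := by
        intro x hx
        obtain ⟨i, -, rfl⟩ := Finset.mem_image.1 hx
        exact hmem i
      have hOinj : Set.InjOn (fun i : ℕ => u ^ i • c) (Finset.range m) := by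
        intro i hi j hj hij
        refine Function.iterate_injOn_Iio_minimalPeriod
          (f := fun x : G ⧸ M => u • x) (x := c) (by simpa using hi) (by simpa using hj) ?_
        simpa only [smul_iterate] using hij
      have hmpos : 0 < m := by rw [hm, hmk]; exact pow_pos hp.out.pos k
      have hsumO : ∑ x ∈ O, f x ∈ V := by
        rw [hO, Finset.sum_image hOinj]
        simp only [hf]
        rw [hm, hmk]
        obtain ⟨g, rfl⟩ := hu.2
        exact (h.conj g).orbit_sum_mem hk (hfU c)
      rw [← Finset.sum_sdiff hOE]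
      refine V.add_mem (ih _ ?_ ?_ fun x hx => hmove x (Finset.mem_sdiff.1 hx).1) hsumO
      · have hcard : O.card = m := by rw [hO, Finset.card_image_of_injOn hOinj, Finset.card_range]
        rw [Finset.card_sdiff_of_subset hOE]
        omega
      · intro x hx
        obtain ⟨hxE, hxO⟩ := Finset.mem_sdiff.1 hx
        refine Finset.mem_sdiff.2 ⟨hinv x hxE, fun hux => hxO ?_⟩
        obtain ⟨i, hi, hie⟩ := Finset.mem_image.1 hux
        refine Finset.mem_image.2 ⟨(i + (m - 1)) % m, Finset.mem_range.2 (Nat.mod_lt _ hmpos), ?_⟩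
        have hmod : ∀ j : ℕ, u ^ (j % m) • c = u ^ j • c := by
          intro j
          have := Function.iterate_mod_minimalPeriod_eq (f := fun x : G ⧸ M => u • x) (x := c) (n := j)
          simpa only [smul_iterate] using this
        have hmm : u ^ m • c = c := by
          have := Function.iterate_minimalPeriod (f := fun x : G ⧸ M => u • x) (x := c)
          simpa only [smul_iterate] using this
        show u ^ ((i + (m - 1)) % m) • c = x
        rw [hmod]
        apply smul_left_cancel u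
        rw [← hie, ← mul_smul, ← pow_succ', show i + (m - 1) + 1 = i + m by omega, pow_add, mul_smul,
          hmm]
  -- the largest subgroup generated by conjugates of `v` whose fixed cosets carry the whole sum
  let Good : Set (Subgroup G) := {R | ∃ X ⊆ conjIn (S : Subgroup G) v, R = Subgroup.closure X ∧
    ∑ c, f c - ∑ c ∈ Fx R, f c ∈ V}
  have hbot : (⊥ : Subgroup G) ∈ Good := by
    refine ⟨∅, Set.empty_subset _, Subgroup.closure_empty.symm, ?_⟩
    have e : Fx ⊥ = Finset.univ :=
      Finset.filter_true_of_mem fun c _ r hr => by rw [Subgroup.mem_bot.1 hr, one_smul]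
    rw [e, sub_self]
    exact zero_mem V
  obtain ⟨R, ⟨X, hX, rfl, hRV⟩, hmax⟩ := (Set.toFinite Good).exists_maximal ⟨⊥, hbot⟩
  have hRmax : Subgroup.closure X = Subgroup.closure (conjIn (S : Subgroup G) v) := by
    by_contra hne
    obtain ⟨u, hu, huR, huN⟩ := exists_conjIn_normalizer S v hX hne
    set R := Subgroup.closure X with hR
    have hins : Subgroup.closure (insert u X) ∈ Good := by
      refine ⟨_, Set.insert_subset hu hX, rfl, ?_⟩
      have hFx : Fx (Subgroup.closure (insert u X)) = (Fx R).filter fun c => u • c = c := by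
        ext c
        simp only [Fx, Finset.mem_filter, Finset.mem_univ, true_and]
        constructor
        · intro hc
          exact ⟨fun r hr => hc r (Subgroup.closure_mono (Set.subset_insert u X) hr),
            hc u (Subgroup.subset_closure (Set.mem_insert u X))⟩
        · rintro ⟨hc, huc⟩ r hr
          have hle : Subgroup.closure (insert u X) ≤ MulAction.stabilizer G c := by
            rw [Subgroup.closure_le]
            rintro y (rfl | hy)
            · exact huc
            · exact hc y (Subgroup.subset_closure hy)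
          exact hle hr
      have hrest : ∑ c ∈ (Fx R).filter (fun c => ¬ u • c = c), f c ∈ V := by
        refine horb u hu _ _ le_rfl (fun c hc => ?_) fun c hc => (Finset.mem_filter.1 hc).2
        simp only [Fx, Finset.mem_filter, Finset.mem_univ, true_and] at hc ⊢
        refine ⟨fun r hr => ?_, fun he => hc.2 (smul_left_cancel u he)⟩
        have h1 := hc.1 (u⁻¹ * r * u) ?_
        · have h2 := congrArg (fun z => u • z) h1
          simpa only [← mul_smul, ← mul_assoc, mul_inv_cancel, one_mul] using h2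
        · have := (Subgroup.mem_normalizer_iff.1 (inv_mem huN) r).1 hr
          rwa [inv_inv] at this
      rw [hFx]
      have hsplit := Finset.sum_filter_add_sum_filter_not (Fx R) (fun c => u • c = c) f
      have := V.add_mem hRV hrest
      rw [← hsplit] at this
      rwa [show ∑ c, f c - (∑ c ∈ (Fx R).filter (fun c => u • c = c), f c +
        ∑ c ∈ (Fx R).filter (fun c => ¬ u • c = c), f c) +
        ∑ c ∈ (Fx R).filter (fun c => ¬ u • c = c), f c =
        ∑ c, f c - ∑ c ∈ (Fx R).filter (fun c => u • c = c), f c by abel] at this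
    exact huR (hmax hins (Subgroup.closure_mono (Set.subset_insert u X))
      (Subgroup.subset_closure (Set.mem_insert u X)))
  rw [hRmax] at hRV
  set R := Subgroup.closure (conjIn (S : Subgroup G) v) with hR
  have hRS : R ≤ (S : Subgroup G) := closure_conjIn_le _ v
  have hNR : Subgroup.normalizer (R : Set G) ≠ ⊤ := by
    intro he
    haveI := Subgroup.normalizer_eq_top_iff.1 he
    exact hvP (Cores.le_pCore (S.2.to_le hRS) (Subgroup.subset_closure ⟨hv, 1, by group⟩))
  have hNM : Subgroup.normalizer (R : Set G) ≤ M := hM _ (closure_conjIn_normal S v) hNR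
  have hFx : Fx R = {((1 : G) : G ⧸ M)} := by
    ext c
    simp only [Fx, Finset.mem_filter, Finset.mem_univ, true_and, Finset.mem_singleton]
    constructor
    · intro hc
      induction c using Quotient.inductionOn with
      | h g =>
      have hle : conjS g⁻¹ R ≤ M := by
        rintro _ ⟨r, hr, rfl⟩
        show g⁻¹ * r * g⁻¹⁻¹ ∈ M
        have h1 : ((r * g : G) : G ⧸ M) = (g : G ⧸ M) := hc r hr
        have h2 := QuotientGroup.eq.1 h1.symm
        rwa [inv_inv, mul_assoc]
      obtain ⟨m, hm, hmS⟩ := ((isSyl_top S).mono hSM le_top).exists_conj_le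
        ((S.2.to_le hRS).map _) hle
      have hN : m * g⁻¹ ∈ Subgroup.normalizer (R : Set G) := by
        refine mem_normalizer_of_conjS_eq (Subgroup.eq_of_le_of_card_ge ?_ (card_conjS _ R).ge)
        rw [hR, conjS, MonoidHom.map_closure, Subgroup.closure_le]
        rintro _ ⟨x, ⟨hxS, y, rfl⟩, rfl⟩
        refine Subgroup.subset_closure ⟨?_, m * g⁻¹ * y, ?_⟩
        · have h3 : y * v * y⁻¹ ∈ R := Subgroup.subset_closure ⟨hxS, y, rfl⟩
          have h4 := hmS (conj_mem_conjS (conj_mem_conjS (g := g⁻¹) h3))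
          rwa [show m * (g⁻¹ * (y * v * y⁻¹) * g⁻¹⁻¹) * m⁻¹ =
            m * g⁻¹ * (y * v * y⁻¹) * (m * g⁻¹)⁻¹ by group] at h4
        · show m * g⁻¹ * (y * v * y⁻¹) * (m * g⁻¹)⁻¹ = m * g⁻¹ * y * v * (m * g⁻¹ * y)⁻¹
          group
      have hg : g ∈ M := by
        have := mul_mem (inv_mem (hNM hN)) hm
        rwa [mul_inv_rev, inv_inv, inv_mul_cancel_right] at this
      exact QuotientGroup.eq.2 (by simpa using hg)
    · rintro rfl r hr
      show ((r * 1 : G) : G ⧸ M) = ((1 : G) : G ⧸ M)
      exact QuotientGroup.eq.2 (by simpa using inv_mem (hSM (hRS hr)))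
  rw [hFx, Finset.sum_singleton, show f ((1 : G) : G ⧸ M) = w by
    show ρ 1 w = w; rw [map_one]; rfl] at hRV
  intro g
  have hg : ρ g (∑ c, f c) = ∑ c, f c := by
    rw [map_sum]
    exact Fintype.sum_equiv (MulAction.toPerm g) _ _ fun c => (hf g c).symm
  have h1 := h.invV g _ hRV
  rw [map_sub, hg] at h1
  have h2 := V.sub_mem hRV h1
  rwa [show ∑ c, f c - w - (∑ c, f c - ρ g w) = ρ g w - w by abel] at h2

/-- If every nonzero invariant subgroup below `U` has a good layer at the top, an element of `U` fixed by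
`M` is fixed by `G`. -/
theorem fixed_of_layers (S : Sylow p G) {M : Subgroup G} (hSM : (S : Subgroup G) ≤ M)
    (hM : ∀ H : Subgroup G, (S : Subgroup G) ≤ H → H ≠ ⊤ → H ≤ M)
    {v : G} (hv : v ∈ (S : Subgroup G)) (hvP : v ∉ pCore p G) [Finite Y]
    (hY : ∀ x : Y, ∃ k : ℕ, p ^ k • x = 0)
    (hlayer : ∀ U : AddSubgroup Y, (∀ g : G, ∀ x ∈ U, ρ g x ∈ U) → U ≠ ⊥ →
      ∃ V, V < U ∧ GoodLayer ρ p v U V)
    {w : Y} (hfix : ∀ m ∈ M, ρ m w = w) : ∀ g : G, ρ g w = w := by
  classical
  suffices H : ∀ (n : ℕ) (U : AddSubgroup Y), Nat.card U ≤ n → (∀ g : G, ∀ x ∈ U, ρ g x ∈ U) →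
      ∀ x ∈ U, (∀ m ∈ M, ρ m x = x) → ∀ g : G, ρ g x = x from
    H _ ⊤ le_rfl (fun _ _ _ => trivial) w trivial hfix
  intro n
  induction n with
  | zero => intro U hU; exact absurd hU (Nat.not_le.2 Nat.card_pos)
  | succ n ih =>
    intro U hU hUinv x hx hxM g
    by_cases hU1 : U = ⊥
    · rw [hU1, AddSubgroup.mem_bot] at hx
      rw [hx, map_zero]
    obtain ⟨V, hVU, hgood⟩ := hlayer U hUinv hU1
    have hδ := layer_fixed S hSM hM hv hvP hgood hx hxM
    have hVn : Nat.card V ≤ n := by
      have h1 : Nat.card V < Nat.card U := by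
        refine lt_of_le_of_ne (AddSubgroup.card_le_of_le hVU.le) fun he => hVU.ne ?_
        exact AddSubgroup.eq_of_le_of_card_ge hVU.le he.ge
      omega
    have := Fintype.ofFinite (G ⧸ M)
    let D : G ⧸ M → Y := Quotient.lift (fun a : G => ρ a x - x) fun a b hab => by
      have hm : a⁻¹ * b ∈ M := QuotientGroup.leftRel_apply.1 hab
      have e : b = a * (a⁻¹ * b) := by group
      show ρ a x - x = ρ b x - x
      rw [e, map_mul, mul_app, hxM _ hm]
    have hDV : ∀ c, D c ∈ V := by
      intro c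
      induction c using Quotient.inductionOn with
      | h a => exact hδ a
    set η₀ := ∑ c, D c with hη₀
    have hρη : ∀ a : G, ρ a η₀ = η₀ - Fintype.card (G ⧸ M) • (ρ a x - x) := by
      intro a
      have hstep : ∀ c, ρ a (D c) = D (a • c) - (ρ a x - x) := by
        intro c
        induction c using Quotient.inductionOn with
        | h b =>
          show ρ a (ρ b x - x) = ρ (a * b) x - x - (ρ a x - x)
          rw [map_sub, map_mul, mul_app]
          abel
      rw [hη₀, map_sum, Finset.sum_congr rfl fun c _ => hstep c, Finset.sum_sub_distrib,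
        Finset.sum_const, Finset.card_univ]
      congr 1
      exact Fintype.sum_equiv (MulAction.toPerm a) _ _ fun c => rfl
    -- `|G : M|` is invertible on `Y`
    obtain ⟨k, hk⟩ := hY (ρ g x - x)
    have hcop : (p ^ k).Coprime (Fintype.card (G ⧸ M)) := by
      refine (hp.out.coprime_iff_not_dvd.2 fun hd => ?_).pow_left k
      rw [← Nat.card_eq_fintype_card, ← Subgroup.index] at hd
      exact S.not_dvd_index (hd.trans (Subgroup.index_dvd_of_le hSM))
    have hη₀fix : ∀ m ∈ M, ρ m η₀ = η₀ := fun m hm => by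
      rw [hρη, hxM m hm, sub_self, smul_zero, sub_zero]
    have hη₀G : ∀ a : G, ρ a η₀ = η₀ :=
      ih V hVn hgood.invV η₀ (V.sum_mem fun c _ => hDV c) hη₀fix
    have hz := hρη g
    rw [hη₀G, eq_sub_iff_add_eq, add_eq_left] at hz
    have hord : addOrderOf (ρ g x - x) = 1 := Nat.eq_one_of_dvd_coprimes hcop
      (addOrderOf_dvd_of_nsmul_eq_zero hk) (addOrderOf_dvd_of_nsmul_eq_zero hz)
    rwa [AddMonoid.addOrderOf_eq_one_iff, sub_eq_zero] at hord

end Cfsg.Agent.Lib.ConjFunctor.FixedPoint
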