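import Cfsg.Agent.Lib.ConjFunctor.Failure

/-!
# A normal subgroup of index `p` from control of transfer
-/

set_option autoImplicit false
set_option linter.unusedSectionVars false

open Cfsg
open Cfsg.Agent.Lib.Fusion.Alperin
open Cfsg.Agent.Lib.ConjFunctor.Basic
open Cfsg.Agent.Lib.ConjFunctor.Reach
open Cfsg.Agent.Lib.ConjFunctor.Local
open Cfsg.Agent.Lib.ConjFunctor.Section

open scoped commutatorElement

namespace Cfsg.Agent.Lib.ConjFunctor.IndexP

universe u

variable {p : ℕ} [hp : Fact p.Prime]

/-- Prime-to-`p` elements of `N(S)` centralize `S`. -/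
def NCond (p : ℕ) {X : Type u} [Group X] (S : Subgroup X) : Prop :=
  ∀ g ∈ Subgroup.normalizer (S : Set X), (orderOf g).Coprime p → g ∈ Subgroup.centralizer (S : Set X)

theorem NCond.subgroup {X : Type u} [Group X] {S : Subgroup X} (h : NCond p S) {N : Subgroup X}
    (hSN : S ≤ N) : NCond p (S.subgroupOf N) := by
  intro g hg hcop
  have hg' : (g : X) ∈ Subgroup.normalizer (S : Set X) := by
    rw [Subgroup.mem_normalizer_iff]
    intro x
    constructor
    · intro hx
      have h1 := (Subgroup.mem_normalizer_iff.1 hg ⟨x, hSN hx⟩).1 hx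
      exact h1
    · intro hx
      have hxN : x ∈ N := by
        have := mul_mem (mul_mem (inv_mem g.2) (hSN hx)) g.2
        rwa [show (g : X)⁻¹ * (g * x * (g : X)⁻¹) * g = x by group] at this
      exact (Subgroup.mem_normalizer_iff.1 hg ⟨x, hxN⟩).2 hx
  have h1 := h g hg' (by rwa [Subgroup.orderOf_coe])
  rw [Subgroup.mem_centralizer_iff] at h1 ⊢
  exact fun x hx => Subtype.ext (h1 _ hx)

variable {G : Type u} [Group G] [Finite G]

/-- If `N(S) / C(S)` is a `p`-group and transfer is controlled in every section, a nontrivial Sylow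
`p`-subgroup is not inside the derived group. -/
theorem not_le_commutator {W : ∀ (Q : Type u) [Group Q], Subgroup Q} (hW : IsCharPFunctor.{u} p W)
    (hctl : ∀ (X : Type u) [Group X] [Finite X], IsSection X G → Tr {W} p X)
    (X : Type u) [Group X] [Finite X] (hX : IsSection X G) (S : Sylow p X)
    (hS : (S : Subgroup X) ≠ ⊥) (hN : NCond p (S : Subgroup X)) :
    ¬ (S : Subgroup X) ≤ ⁅(⊤ : Subgroup X), ⊤⁆ := by
  induction hn : Nat.card X using Nat.strong_induction_on generalizing X with
  | _ n ih =>
    subst hn
    intro hle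
    set U := inducedFunctor W (S : Subgroup X) with hU
    set N := Subgroup.normalizer (U : Set X) with hNdef
    have hc := isConjugacyFunctor_induced hW (X := X)
    have hSN : (S : Subgroup X) ≤ N := le_normalizer_w hc S.2
    have htr := hctl X hX S
    rw [TrAt, indSet, Set.image_singleton, WellPlaced.trGen_single, top_inf_eq,
      inf_eq_left.2 hle] at htr
    have hle' : (S : Subgroup X) ≤ ⁅N, N⁆ := htr.le.trans inf_le_right
    by_cases hNtop : N = ⊤
    swap
    · -- recursion to `N(W S)`
      refine ih _ (Reduce.card_subgroup_lt hNtop) N (hX.subgroup N) (S.subtype hSN) ?_ ?_ rfl ?_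
      · rw [Sylow.coe_subtype]
        intro h
        apply hS
        rw [← Subgroup.map_subgroupOf_eq_of_le hSN, h, Subgroup.map_bot]
      · rw [Sylow.coe_subtype]; exact hN.subgroup hSN
      · intro x hx
        obtain ⟨y, hy, hyx⟩ : (x : X) ∈ (commutator N).map N.subtype := by
          rw [Subgroup.map_subtype_commutator]
          exact hle' (by simpa [Subgroup.mem_subgroupOf] using hx)
        exact N.subtype_injective hyx ▸ hy
    haveI hUn : U.Normal := Subgroup.normalizer_eq_top_iff.1 hNtop
    set π := QuotientGroup.mk' U with hπ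
    have hπs := QuotientGroup.mk'_surjective U
    have hU1 : U ≠ ⊥ := w_ne_bot hc S.2 hS
    by_cases hSU : (S : Subgroup X) ≤ U
    · -- `S` is normal
      have hSn : (S : Subgroup X).Normal := by
        rwa [le_antisymm hSU (w_le hc S.2)]
      haveI := Reduce.centralizer_normal (S : Subgroup X)
      have hSC : (S : Subgroup X) ⊔ Subgroup.centralizer ((S : Subgroup X) : Set X) = ⊤ := by
        rw [eq_top_iff]
        intro g _
        set k := (orderOf g).factorization p with hk
        set m := orderOf g / p ^ k with hm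
        have hg0 : orderOf g ≠ 0 := (isOfFinOrder_of_finite g).orderOf_pos.ne'
        have h1 : g ^ p ^ k ∈ Subgroup.centralizer ((S : Subgroup X) : Set X) := by
          refine hN _ ?_ ?_
          · rw [Subgroup.normalizer_eq_top_iff.2 hSn]; trivial
          · refine Nat.Coprime.coprime_dvd_left (orderOf_dvd_of_pow_eq_one (n := m) ?_)
              (Nat.coprime_ordCompl hp.out hg0).symm
            rw [← pow_mul, hm, Nat.mul_div_cancel' (Nat.ordProj_dvd _ _), pow_orderOf_eq_one]
        have h2 : g ^ m ∈ (S : Subgroup X) := by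
          haveI := hSn
          have hp' : IsPGroup p (Subgroup.zpowers (g ^ m)) := by
            refine IsPGroup.of_card_dvd_pow (n := k) ?_
            rw [Nat.card_zpowers]
            apply orderOf_dvd_of_pow_eq_one
            rw [← pow_mul, hm, Nat.div_mul_cancel (Nat.ordProj_dvd _ _), pow_orderOf_eq_one]
          obtain ⟨y, hy⟩ := (isSyl_top S).exists_conj_le hp' le_top
          have := hy.2 (conj_mem_conjS (g := y) (Subgroup.mem_zpowers (g ^ m)))
          have h3 := hSn.conj_mem' _ this y
          rwa [show y⁻¹ * (y * g ^ m * y⁻¹) * y = g ^ m by group] at h3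
        have hcop : IsCoprime ((p ^ k : ℕ) : ℤ) (m : ℤ) :=
          Nat.isCoprime_iff_coprime.2 ((Nat.coprime_ordCompl hp.out hg0).pow_left k)
        obtain ⟨a, b, hab⟩ := hcop
        have hg : g = ((g ^ p ^ k) ^ a) * ((g ^ m) ^ b) := by
          rw [← zpow_natCast g (p ^ k), ← zpow_natCast g m, ← zpow_mul, ← zpow_mul, ← zpow_add,
            show ((p ^ k : ℕ) : ℤ) * a + (m : ℤ) * b = 1 by rw [← hab]; ring, zpow_one]
        rw [hg]
        exact mul_mem (le_sup_right (a := (S : Subgroup X)) (zpow_mem h1 a))
          (le_sup_left (b := Subgroup.centralizer ((S : Subgroup X) : Set X)) (zpow_mem h2 b))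
      have h1 := Reduce.inf_commutator_le S (S : Subgroup X) le_rfl hSC
      rw [commutator_def, inf_eq_left.2 hle] at h1
      haveI : Group.IsNilpotent (S : Subgroup X) := S.2.isNilpotent
      haveI : Nontrivial (S : Subgroup X) := (Subgroup.nontrivial_iff_ne_bot _).2 hS
      refine (Group.IsSolvable.commutator_lt_top_of_nontrivial (G := (S : Subgroup X))).ne ?_
      apply Subgroup.map_injective (S : Subgroup X).subtype_injective
      rw [Subgroup.map_subtype_commutator, ← MonoidHom.range_eq_map, Subgroup.range_subtype]
      exact le_antisymm (Subgroup.commutator_le_self _) h1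
    · -- recursion to the quotient
      refine ih _ (Reduce.card_quotient_lt hU1) (X ⧸ U) (hX.quotient π hπs) (S.mapSurjective hπs)
        ?_ ?_ rfl ?_
      · rw [Sylow.coe_mapSurjective, Ne, Subgroup.map_eq_bot_iff, QuotientGroup.ker_mk']
        exact hSU
      · rw [Sylow.coe_mapSurjective]
        intro q hq hcop
        obtain ⟨g, rfl⟩ := hπs q
        have hgS : g ∈ Subgroup.normalizer ((S : Subgroup X) : Set X) := by
          refine mem_normalizer_of_forall fun a ha => ?_
          obtain ⟨s, hs, he⟩ := (Subgroup.mem_normalizer_iff.1 hq (π a)).1 ⟨a, ha, rfl⟩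
          rw [← map_inv, ← map_mul, ← map_mul] at he
          obtain ⟨w, hw, hwe⟩ := (QuotientGroup.mk'_eq_mk' U).1 he
          rw [← hwe]
          exact mul_mem hs (w_le hc S.2 hw)
        set k := (orderOf g).factorization p with hk
        have hg0 : orderOf g ≠ 0 := (isOfFinOrder_of_finite g).orderOf_pos.ne'
        have h1 : g ^ p ^ k ∈ Subgroup.centralizer ((S : Subgroup X) : Set X) := by
          refine hN _ (pow_mem hgS _) ?_
          refine Nat.Coprime.coprime_dvd_left
            (orderOf_dvd_of_pow_eq_one (n := orderOf g / p ^ k) ?_) (Nat.coprime_ordCompl hp.out hg0).symm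
          rw [← pow_mul, Nat.mul_div_cancel' (Nat.ordProj_dvd _ _), pow_orderOf_eq_one]
        obtain ⟨j, hj⟩ := exists_pow_eq_self_of_coprime (hcop.symm.pow_left k)
        rw [Subgroup.mem_centralizer_iff]
        rintro _ ⟨s, hs, rfl⟩
        rw [← hj]
        refine Commute.pow_right ?_ j
        show π s * π g ^ p ^ k = π g ^ p ^ k * π s
        rw [← map_pow, ← map_mul, ← map_mul]
        exact congrArg π (Subgroup.mem_centralizer_iff.1 h1 s hs)
      · rw [Sylow.coe_mapSurjective]
        refine (Subgroup.map_mono hle).trans ?_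
        rw [Subgroup.map_commutator]
        exact Subgroup.commutator_mono le_top le_top

end Cfsg.Agent.Lib.ConjFunctor.IndexP
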