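import Cfsg.Agent.Lib.ConjFunctor.KControl
import Cfsg.Agent.Lib.Transfer.Frobenius

/-!
# Normalizers of the lower K-infinity subgroup centralised by their `p'`-elements
-/

set_option autoImplicit false

namespace Cfsg.Agent.Lib.ConjFunctor.KCentral

open Subgroup
open scoped commutatorElement

universe u

variable {p : ℕ} [hp : Fact p.Prime]

theorem hasNormalPComplement_normalizer {G : Type u} [Group G] [Finite G] (S : Sylow p G)
    (h : ∀ g ∈ normalizer ((Cfsg.inducedFunctor Cfsg.kInfLower (S : Subgroup G) : Subgroup G) : Set G),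
      (orderOf g).Coprime p →
      g ∈ centralizer ((Cfsg.inducedFunctor Cfsg.kInfLower (S : Subgroup G) : Subgroup G) : Set G)) :
    Cfsg.HasNormalPComplement p
      ↥(normalizer ((Cfsg.inducedFunctor Cfsg.kInfLower (S : Subgroup G) : Subgroup G) : Set G)) := by
  set U := Cfsg.inducedFunctor Cfsg.kInfLower (S : Subgroup G) with hU
  set N := normalizer (U : Set G) with hN
  have hSN : (S : Subgroup G) ≤ N := Basic.le_normalizer_w
    (Section.isConjugacyFunctor_induced (KFunctor.isCharP_lower (p := p))) S.2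
  have hSC : ∀ x ∈ (S : Subgroup G), x ∈ centralizer (U : Set G) → x ∈ U := by
    intro x hx hxC
    haveI : Group.IsNilpotent (S : Subgroup G) := S.2.isNilpotent
    refine ⟨⟨x, hx⟩, KInf.centralizer_kInf.1 (Subgroup.mem_centralizer_iff.2 fun y hy => ?_), rfl⟩
    exact Subtype.ext (Subgroup.mem_centralizer_iff.1 hxC y ⟨y, hy, rfl⟩)
  refine Transfer.Frobenius.hasNormalPComplement_of_forall_centralizes fun Q hQ _ g hg hgp => ?_
  obtain ⟨T, hT⟩ := hQ.exists_le_sylow
  obtain ⟨n, hn⟩ := MulAction.exists_smul_eq N (S.subtype hSN) T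
  have hgC : (g : G) ∈ centralizer (U : Set G) :=
    h g g.2 (by rwa [Subgroup.orderOf_coe])
  refine Subgroup.mem_centralizer_iff.2 fun q hq => ?_
  set c := ⁅g, q⁆ with hc
  have hcQ : c ∈ Q := by
    rw [hc, commutatorElement_def]
    exact mul_mem ((Subgroup.mem_normalizer_iff.1 hg q).1 hq) (inv_mem hq)
  have hnU : ∀ (m : N), ∀ y ∈ U, (m : G) * y * (m : G)⁻¹ ∈ U := fun m y hy =>
    (Subgroup.mem_normalizer_iff.1 m.2 y).1 hy
  have hconjC : ∀ (m : N) (x : G), x ∈ centralizer (U : Set G) →
      (m : G) * x * (m : G)⁻¹ ∈ centralizer (U : Set G) := fun m x hx =>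
    Subgroup.mem_centralizer_iff.2 fun y hy => by
      have h1 := hnU m⁻¹ y hy
      simp only [Subgroup.coe_inv, inv_inv] at h1
      calc y * ((m : G) * x * (m : G)⁻¹) = (m : G) * (((m : G)⁻¹ * y * m) * x) * (m : G)⁻¹ := by group
        _ = (m : G) * (x * ((m : G)⁻¹ * y * m)) * (m : G)⁻¹ := by
          rw [Subgroup.mem_centralizer_iff.1 hx _ h1]
        _ = (m : G) * x * (m : G)⁻¹ * y := by group
  have hcC : (c : G) ∈ centralizer (U : Set G) := by
    have : (c : G) = (g : G) * ((q : G) * (g : G)⁻¹ * (q : G)⁻¹) := by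
      simp [hc, commutatorElement_def, mul_assoc]
    rw [this]
    exact mul_mem hgC (hconjC q _ (inv_mem hgC))
  have hcU : (c : G) ∈ U := by
    have h1 : c ∈ ((n • S.subtype hSN : Sylow p N) : Subgroup N) := hn.symm ▸ hT hcQ
    rw [Sylow.coe_subgroup_smul, Subgroup.mem_pointwise_smul_iff_inv_smul_mem] at h1
    simp only [← map_inv, MulAut.smul_def, MulAut.conj_apply, inv_inv] at h1
    rw [Sylow.coe_subtype, Subgroup.mem_subgroupOf] at h1
    have h2 := hnU n _ (hSC _ h1 (by
      have := hconjC n⁻¹ _ hcC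
      simpa using this))
    simpa [mul_assoc] using h2
  have hcomm : Commute g c := Subtype.ext (Subgroup.mem_centralizer_iff.1 hgC _ hcU).symm
  have hiter : ∀ k : ℕ, g ^ k * q = c ^ k * q * g ^ k := by
    intro k
    induction k with
    | zero => simp
    | succ k ih =>
      have h1 : g * q = c * q * g := by simp [hc, commutatorElement_def, mul_assoc]
      calc g ^ (k + 1) * q = g * (g ^ k * q) := by rw [pow_succ']; group
        _ = g * c ^ k * q * g ^ k := by rw [ih]; group
        _ = c ^ k * (g * q) * g ^ k := by rw [(hcomm.pow_right k).eq]; group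
        _ = c ^ (k + 1) * q * g ^ (k + 1) := by rw [h1, pow_succ, pow_succ']; group
  have hord : c ^ orderOf g = 1 := by
    have := hiter (orderOf g)
    rw [pow_orderOf_eq_one, one_mul, mul_one] at this
    exact mul_eq_right.1 this.symm
  obtain ⟨k, hk⟩ := hQ ⟨c, hcQ⟩
  have hk' : c ^ p ^ k = 1 := congrArg Subtype.val hk
  have hc1 : c = 1 := by
    have := pow_gcd_eq_one.2 ⟨hord, hk'⟩
    rwa [(Nat.Coprime.pow_right k hgp).gcd_eq_one, pow_one] at this
  exact (commutatorElement_eq_one_iff_mul_comm.1 hc1).symm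

end Cfsg.Agent.Lib.ConjFunctor.KCentral
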