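import Cfsg.Agent.Lib.ConjFunctor.LocalInst
import Cfsg.Agent.Lib.Cores.Basic

/-!
# Isomorphism-invariant functors on sections

`SF 𝓦 p X`, `Tr 𝓦 p X`: the set `𝓦` of isomorphism-invariant functors controls strong fusion
(transfer) in the group `X`, for every Sylow subgroup. Transport along homomorphisms.
-/

set_option autoImplicit false
set_option linter.unusedSectionVars false

open Cfsg
open Cfsg.Agent.Lib.Fusion.Alperin
open Cfsg.Agent.Lib.ConjFunctor.Basic
open Cfsg.Agent.Lib.ConjFunctor.Reach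
open Cfsg.Agent.Lib.ConjFunctor.Local

namespace Cfsg.Agent.Lib.ConjFunctor.Section

universe u

/-- An isomorphism-invariant functor commutes with homomorphisms injective on the subgroup. -/
theorem map_inducedFunctor {p : ℕ} {W : ∀ (Q : Type u) [Group Q], Subgroup Q}
    (hW : IsCharPFunctor.{u} p W) {X Y : Type u} [Group X] [Group Y] (f : X →* Y) (P : Subgroup X)
    [Finite P] (hP : IsPGroup p P) (hf : P ⊓ f.ker = ⊥) :
    inducedFunctor W (P.map f) = (inducedFunctor W P).map f := by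
  have hbij : Function.Bijective (f.subgroupMap P) := by
    refine ⟨(injective_iff_map_eq_one _).2 fun x hx => ?_, MonoidHom.subgroupMap_surjective f P⟩
    have h2 : f (x : X) = 1 := congrArg Subtype.val hx
    have h1 : (x : X) ∈ P ⊓ f.ker := Subgroup.mem_inf.2 ⟨x.2, MonoidHom.mem_ker.2 h2⟩
    rw [hf, Subgroup.mem_bot] at h1
    exact Subtype.ext h1
  let e := MulEquiv.ofBijective (f.subgroupMap P) hbij
  show (W ↥(P.map f)).map (P.map f).subtype = ((W ↥P).map P.subtype).map f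
  rw [← hW.2 P (P.map f) hP e, Subgroup.map_map, Subgroup.map_map]
  rfl

theorem map_inducedFunctor_of_injective {p : ℕ} {W : ∀ (Q : Type u) [Group Q], Subgroup Q}
    (hW : IsCharPFunctor.{u} p W) {X Y : Type u} [Group X] [Group Y] (f : X →* Y)
    (hf : Function.Injective f) (P : Subgroup X) [Finite P] (hP : IsPGroup p P) :
    inducedFunctor W (P.map f) = (inducedFunctor W P).map f :=
  map_inducedFunctor hW f P hP (by rw [(MonoidHom.ker_eq_bot_iff f).2 hf, inf_bot_eq])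

theorem isConjugacyFunctor_induced {p : ℕ} {W : ∀ (Q : Type u) [Group Q], Subgroup Q}
    (hW : IsCharPFunctor.{u} p W) {X : Type u} [Group X] [Finite X] :
    IsConjugacyFunctor p (inducedFunctor (G := X) W) := by
  intro P hP
  refine ⟨Subgroup.map_subtype_le _, fun h1 h2 => ?_, fun g =>
    map_inducedFunctor_of_injective hW _ (MulAut.conj g).injective P hP⟩
  have : Nontrivial P := (Subgroup.nontrivial_iff_ne_bot _).2 h1
  exact hW.1 P hP this ((Subgroup.map_eq_bot_iff_of_injective _ P.subtype_injective).1 h2)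

/-- The functors of `𝓦` on the group `X`. -/
def indSet (𝓦 : Set (∀ (Q : Type u) [Group Q], Subgroup Q)) (X : Type u) [Group X] :
    Set (Subgroup X → Subgroup X) :=
  (fun W => inducedFunctor (G := X) W) '' 𝓦

theorem isConjugacyFunctor_indSet {p : ℕ} {𝓦 : Set (∀ (Q : Type u) [Group Q], Subgroup Q)}
    (h𝓦 : ∀ W ∈ 𝓦, IsCharPFunctor.{u} p W) {X : Type u} [Group X] [Finite X] :
    ∀ W ∈ indSet 𝓦 X, IsConjugacyFunctor p W := by
  rintro _ ⟨W, hW, rfl⟩
  exact isConjugacyFunctor_induced (h𝓦 W hW)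

theorem equi_indSet {p : ℕ} {𝓦 : Set (∀ (Q : Type u) [Group Q], Subgroup Q)}
    (h𝓦 : ∀ W ∈ 𝓦, IsCharPFunctor.{u} p W) {X : Type u} [Group X] [Finite X] :
    Equi p (nFam (indSet 𝓦 X)) :=
  equi_nFam (isConjugacyFunctor_indSet h𝓦)

/-- Control of strong fusion by `𝓦` in the group `X`. -/
def SF (𝓦 : Set (∀ (Q : Type u) [Group Q], Subgroup Q)) (p : ℕ) (X : Type u) [Group X] : Prop :=
  ∀ S : Sylow p X, SFAt (nFam (indSet 𝓦 X)) ⊤ (S : Subgroup X)

/-- Control of transfer by `𝓦` in the group `X`. -/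
def Tr (𝓦 : Set (∀ (Q : Type u) [Group Q], Subgroup Q)) (p : ℕ) (X : Type u) [Group X] : Prop :=
  ∀ S : Sylow p X, TrAt (nFam (indSet 𝓦 X)) ⊤ (S : Subgroup X)

variable {p : ℕ} [Fact p.Prime] {𝓦 : Set (∀ (Q : Type u) [Group Q], Subgroup Q)}
variable {X Y : Type u} [Group X] [Group Y] [Finite X] [Finite Y]

theorem sf_iff (h𝓦 : ∀ W ∈ 𝓦, IsCharPFunctor.{u} p W) :
    SF 𝓦 p X ↔ FamilyControlsStrongFusionIn p (indSet 𝓦 X) ⊤ := by
  constructor
  · intro h
    exact familySF_iff.2 ⟨_, isSyl_top (default : Sylow p X), h _⟩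
  · intro h S
    obtain ⟨T, hT, h'⟩ := familySF_iff.1 h
    exact h'.of_isSyl (equi_indSet h𝓦) hT (isSyl_top S)

theorem tr_iff (h𝓦 : ∀ W ∈ 𝓦, IsCharPFunctor.{u} p W) :
    Tr 𝓦 p X ↔ FamilyControlsTransferIn p (indSet 𝓦 X) ⊤ := by
  constructor
  · intro h
    exact familyTr_iff.2 ⟨_, isSyl_top (default : Sylow p X), h _⟩
  · intro h S
    obtain ⟨T, hT, h'⟩ := familyTr_iff.1 h
    exact h'.of_isSyl (equi_indSet h𝓦) hT (isSyl_top S)

theorem image_cimg {f : X →* Y} (g : X) (A : Set X) : f '' cimg g A = cimg (f g) (f '' A) := by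
  unfold cimg
  rw [Set.image_image, Set.image_image]
  exact Set.image_congr fun a _ => by simp

/-- Chains are carried by homomorphisms. -/
theorem chain_map (f : X →* Y) {Z : Set X} {T : Subgroup X} {A : Set X} {h : X}
    (c : Chain Z T A h) : Chain (f '' Z) (T.map f) (f '' A) (f h) := by
  induction c with
  | @refl h' hA e =>
    refine .refl (Set.image_mono hA) ?_
    rintro _ ⟨a, ha, rfl⟩
    rw [← map_inv, ← map_mul, ← map_mul, e a ha]
  | @step x g h' _ hx hT e ih =>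
    refine .step ih ⟨x, hx, rfl⟩ ?_ ?_
    · rw [← map_mul, ← image_cimg]; exact Set.image_mono hT
    · rintro _ ⟨a, ha, rfl⟩
      rw [← map_inv f h', ← map_mul, ← map_inv, ← map_mul, ← map_mul, e a ha]
      simp

theorem map_normalizer_le (f : X →* Y) (A : Subgroup X) :
    (Subgroup.normalizer (A : Set X)).map f ≤ Subgroup.normalizer (A.map f : Set Y) := by
  rintro _ ⟨n, hn, rfl⟩
  refine mem_normalizer_of_forall ?_
  rintro _ ⟨a, ha, rfl⟩
  exact ⟨n * a * n⁻¹, (Subgroup.mem_normalizer_iff.1 hn a).1 ha, by simp⟩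

theorem image_stepSet (h𝓦 : ∀ W ∈ 𝓦, IsCharPFunctor.{u} p W) (f : X →* Y) {H T : Subgroup X}
    (hT : IsPGroup p T) (hinj : T ⊓ f.ker = ⊥) :
    f '' stepSet (nFam (indSet 𝓦 X)) H T ⊆
      stepSet (nFam (indSet 𝓦 Y)) (H.map f) (T.map f) := by
  rintro _ ⟨x, hx, rfl⟩
  obtain ⟨_, ⟨W, hW, rfl⟩, hxH, hxW⟩ := mem_stepSet_nFam.1 hx
  refine mem_stepSet_nFam.2 ⟨_, ⟨W, hW, rfl⟩, ⟨x, hxH, rfl⟩, ?_⟩
  simp only [map_inducedFunctor (h𝓦 W hW) f T hT hinj]
  exact map_normalizer_le f _ ⟨x, hxW, rfl⟩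

/-- Control in a group gives control in its image under an injective homomorphism. -/
theorem sfAt_map (h𝓦 : ∀ W ∈ 𝓦, IsCharPFunctor.{u} p W) (f : X →* Y) (hf : Function.Injective f)
    {T : Subgroup X} (hT : IsPGroup p T) (h : SFAt (nFam (indSet 𝓦 X)) ⊤ T) :
    SFAt (nFam (indSet 𝓦 Y)) f.range (T.map f) := by
  rintro A _ ⟨x, rfl⟩ hA hxA
  obtain ⟨A', -, rfl⟩ : ∃ A', A' ⊆ (T : Set X) ∧ f '' A' = A :=
    ⟨f ⁻¹' A ∩ T, Set.inter_subset_right, Set.ext fun y => ⟨fun ⟨a, ha, he⟩ => he ▸ ha.1,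
      fun hy => by obtain ⟨a, ha, rfl⟩ := hA hy; exact ⟨a, ⟨hy, ha⟩, rfl⟩⟩⟩
  have hA' : A' ⊆ (T : Set X) := fun a ha => by
    obtain ⟨b, hb, he⟩ := hA ⟨a, ha, rfl⟩
    rwa [← hf he]
  have hxA' : cimg x A' ⊆ (T : Set X) := fun a ha => by
    obtain ⟨b, hb, he⟩ := hxA (by rw [← image_cimg]; exact ⟨a, ha, rfl⟩ : f a ∈ cimg (f x) (f '' A'))
    rwa [← hf he]
  have := chain_map f (h A' x trivial hA' hxA')
  refine this.weaken ((image_stepSet h𝓦 f hT ?_).trans ?_) le_rfl
  · rw [(MonoidHom.ker_eq_bot_iff f).2 hf, inf_bot_eq]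
  · rw [MonoidHom.range_eq_map]

theorem trAt_map (h𝓦 : ∀ W ∈ 𝓦, IsCharPFunctor.{u} p W) (f : X →* Y) (hf : Function.Injective f)
    {T : Subgroup X} (hT : IsPGroup p T) (h : TrAt (nFam (indSet 𝓦 X)) ⊤ T) :
    TrAt (nFam (indSet 𝓦 Y)) f.range (T.map f) := by
  refine trAt_of_le ?_
  rw [MonoidHom.range_eq_map, ← Subgroup.map_commutator, ← Subgroup.map_inf _ _ _ hf, h, trGen_nFam,
    trGen_nFam, Subgroup.map_iSup]
  refine iSup_le fun F => ?_
  rw [Subgroup.map_iSup]
  refine iSup_le fun hF => ?_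
  obtain ⟨W, hW, rfl⟩ := hF
  refine le_trans ?_ (le_biSup (fun F : Subgroup Y → Subgroup Y => T.map f ⊓
    ⁅(⊤ : Subgroup X).map f ⊓ Subgroup.normalizer (F (T.map f) : Set Y),
      (⊤ : Subgroup X).map f ⊓ Subgroup.normalizer (F (T.map f) : Set Y)⁆) ⟨W, hW, rfl⟩)
  rw [Subgroup.map_inf _ _ _ hf, Subgroup.map_commutator]
  have hle : ((⊤ : Subgroup X) ⊓ Subgroup.normalizer ((inducedFunctor W T : Subgroup X) : Set X)).map f ≤
      (⊤ : Subgroup X).map f ⊓
        Subgroup.normalizer ((inducedFunctor W (T.map f) : Subgroup Y) : Set Y) := by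
    refine le_inf (Subgroup.map_mono le_top) ?_
    rw [map_inducedFunctor_of_injective (h𝓦 W hW) f hf T hT]
    exact (Subgroup.map_mono inf_le_right).trans (map_normalizer_le f _)
  exact inf_le_inf_left _ (Subgroup.commutator_mono hle hle)

/-- Control in the group `↥H` gives control in `H`. -/
theorem sfAt_subgroup (h𝓦 : ∀ W ∈ 𝓦, IsCharPFunctor.{u} p W) {H T : Subgroup X}
    (hT : IsSyl p T H) (h : SF 𝓦 p H) : SFAt (nFam (indSet 𝓦 X)) H T := by
  have := sfAt_map h𝓦 H.subtype H.subtype_injective hT.toSylowOf.2 (h hT.toSylowOf)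
  rwa [H.range_subtype, hT.coe_toSylowOf, Subgroup.map_subgroupOf_eq_of_le hT.le] at this

theorem trAt_subgroup (h𝓦 : ∀ W ∈ 𝓦, IsCharPFunctor.{u} p W) {H T : Subgroup X}
    (hT : IsSyl p T H) (h : Tr 𝓦 p H) : TrAt (nFam (indSet 𝓦 X)) H T := by
  have := trAt_map h𝓦 H.subtype H.subtype_injective hT.toSylowOf.2 (h hT.toSylowOf)
  rwa [H.range_subtype, hT.coe_toSylowOf, Subgroup.map_subgroupOf_eq_of_le hT.le] at this

theorem sf_congr (h𝓦 : ∀ W ∈ 𝓦, IsCharPFunctor.{u} p W) (e : X ≃* Y) (h : SF 𝓦 p X) :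
    SF 𝓦 p Y := by
  intro S
  let S₀ : Sylow p X := default
  have := sfAt_map h𝓦 e.toMonoidHom e.injective S₀.2 (h S₀)
  rw [MonoidHom.range_eq_top.2 e.surjective] at this
  refine this.of_isSyl (equi_indSet h𝓦) ?_ (isSyl_top S)
  have h2 := isSyl_top (S₀.mapSurjective e.surjective (f := e.toMonoidHom))
  exact h2

theorem tr_congr (h𝓦 : ∀ W ∈ 𝓦, IsCharPFunctor.{u} p W) (e : X ≃* Y) (h : Tr 𝓦 p X) :
    Tr 𝓦 p Y := by
  intro S
  let S₀ : Sylow p X := default
  have := trAt_map h𝓦 e.toMonoidHom e.injective S₀.2 (h S₀)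
  rw [MonoidHom.range_eq_top.2 e.surjective] at this
  refine this.of_isSyl (equi_indSet h𝓦) ?_ (isSyl_top S)
  have h2 := isSyl_top (S₀.mapSurjective e.surjective (f := e.toMonoidHom))
  exact h2

/-! ### Sections -/

/-- `X` is a section of `G`. -/
def IsSection (X : Type u) [Group X] (G : Type u) [Group G] : Prop :=
  ∃ (K : Subgroup G) (f : K →* X), Function.Surjective f

theorem IsSection.refl (G : Type u) [Group G] : IsSection G G :=
  ⟨⊤, (⊤ : Subgroup G).subtype, fun g => ⟨⟨g, trivial⟩, rfl⟩⟩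

theorem IsSection.quotient {G : Type u} [Group G] {X : Type u} [Group X] (h : IsSection X G)
    {Y : Type u} [Group Y] (f : X →* Y) (hf : Function.Surjective f) : IsSection Y G := by
  obtain ⟨K, g, hg⟩ := h
  exact ⟨K, f.comp g, hf.comp hg⟩

theorem IsSection.subgroup {G : Type u} [Group G] {X : Type u} [Group X] (h : IsSection X G)
    (H : Subgroup X) : IsSection H G := by
  obtain ⟨K, g, hg⟩ := h
  let e := Subgroup.equivMapOfInjective (H.comap g) K.subtype K.subtype_injective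
  exact ⟨(H.comap g).map K.subtype, (g.subgroupComap H).comp e.symm.toMonoidHom,
    (g.subgroupComap_surjective_of_surjective H hg).comp e.symm.surjective⟩

/-- A section is isomorphic to a quotient `K ⧸ R.subgroupOf K`. -/
theorem IsSection.exists_iso {G : Type u} [Group G] {X : Type u} [Group X] (h : IsSection X G) :
    ∃ (K R : Subgroup G) (_ : (R.subgroupOf K).Normal), Nonempty (↥K ⧸ R.subgroupOf K ≃* X) := by
  obtain ⟨K, f, hf⟩ := h
  have he : (f.ker.map K.subtype).subgroupOf K = f.ker :=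
    Subgroup.comap_map_eq_self_of_injective K.subtype_injective _
  have hn : ((f.ker.map K.subtype).subgroupOf K).Normal := by rw [he]; infer_instance
  exact ⟨K, f.ker.map K.subtype, hn,
    ⟨(QuotientGroup.quotientMulEquivOfEq he).trans (QuotientGroup.quotientKerEquivOfSurjective f hf)⟩⟩

theorem isSection_quot {G : Type u} [Group G] (K R : Subgroup G) [(R.subgroupOf K).Normal] :
    IsSection (↥K ⧸ R.subgroupOf K) G :=
  ⟨K, QuotientGroup.mk' _, QuotientGroup.mk'_surjective _⟩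

/-- `C(O_p(X)) ≤ O_p(X)`. -/
def Constrained (p : ℕ) (X : Type u) [Group X] : Prop :=
  Subgroup.centralizer ((pCore p X : Subgroup X) : Set X) ≤ pCore p X

theorem constrained_congr (e : X ≃* Y) (h : Constrained p X) : Constrained p Y := by
  intro y hy
  obtain ⟨x, rfl⟩ := e.surjective y
  rw [← Cores.map_pCore_equiv e] at hy ⊢
  refine ⟨x, h (Subgroup.mem_centralizer_iff.2 fun a ha => e.injective ?_), rfl⟩
  have := Subgroup.mem_centralizer_iff.1 hy (e a) ⟨a, ha, rfl⟩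
  simpa using this

end Cfsg.Agent.Lib.ConjFunctor.Section
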