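import Cfsg.Agent.Lib.ConjFunctor.KInf
import Cfsg.Agent.Lib.ConjFunctor.Section

/-!
# The K-infinity subgroups as isomorphism-invariant functors
-/

set_option autoImplicit false
set_option linter.unusedSectionVars false

open Cfsg

namespace Cfsg.Agent.Lib.ConjFunctor.KFunctor

universe u

variable {p : ℕ}

theorem center_le_kInf (P : Type u) [Group P] :
    Subgroup.center P ≤ kInfLower P ∧ Subgroup.center P ≤ kInfUpper P := by
  have h : IsMulCommutative (Subgroup.center P) := inferInstance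
  exact ⟨(KInf.le_even_of_abelian h 0).trans (le_iSup (kSeqEven P) 0),
    le_iInf fun n => KInf.le_odd_of_abelian h n⟩

theorem isCharP_aux [hp : Fact p.Prime] {W : ∀ (Q : Type u) [Group Q], Subgroup Q}
    (hZ : ∀ (Q : Type u) [Group Q], Subgroup.center Q ≤ W Q)
    (hiso : ∀ (Q R : Type u) [Group Q] [Group R] [Finite R] (e : Q ≃* R),
      (W Q).map e.toMonoidHom = W R) : IsCharPFunctor.{u} p W := by
  refine ⟨fun Q _ _ hQ hnt h => ?_, fun Q R _ _ _ _ e => ?_⟩
  · haveI := hnt
    exact (Subgroup.nontrivial_iff_ne_bot _).1 hQ.center_nontrivial (le_bot_iff.1 (h ▸ hZ Q))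
  · haveI : Finite R := Finite.of_equiv Q e.toEquiv
    exact hiso Q R e

theorem isCharP_lower [Fact p.Prime] : IsCharPFunctor.{u} p @kInfLower :=
  isCharP_aux (fun Q _ => (center_le_kInf Q).1) fun _ _ _ _ _ e => (KInf.kInf_map_equiv e).1

theorem isCharP_upper [Fact p.Prime] : IsCharPFunctor.{u} p @kInfUpper :=
  isCharP_aux (fun Q _ => (center_le_kInf Q).2) fun _ _ _ _ _ e => (KInf.kInf_map_equiv e).2

theorem zc_le {W : ∀ (Q : Type u) [Group Q], Subgroup Q}
    (hZ : ∀ (Q : Type u) [Group Q], Subgroup.center Q ≤ W Q) {G : Type u} [Group G]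
    (P : Subgroup G) : P ⊓ Subgroup.centralizer (P : Set G) ≤ inducedFunctor W P := by
  intro x hx
  obtain ⟨hxP, hxC⟩ := Subgroup.mem_inf.1 hx
  refine ⟨⟨x, hxP⟩, hZ _ (Subgroup.mem_center_iff.2 fun y => Subtype.ext ?_), rfl⟩
  exact Subgroup.mem_centralizer_iff.1 hxC _ y.2

theorem normal_induced {W : ∀ (Q : Type u) [Group Q], Subgroup Q} (hW : IsCharPFunctor.{u} p W)
    {G : Type u} [Group G] [Finite G] (T : Subgroup G) [T.Normal] (hT : IsPGroup p T) :
    (inducedFunctor W T).Normal := by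
  haveI : (W ↥T).Characteristic := Subgroup.characteristic_iff_map_eq.2 fun e => hW.2 _ _ hT e
  exact Cores.normal_map_subtype T (W ↥T)

end Cfsg.Agent.Lib.ConjFunctor.KFunctor
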