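import Cfsg.Prelude.Def_LocalEven
import Cfsg.Prelude.Def_Amalgam
import Cfsg.Agent.Lib.ConjFunctor.KFunctor
import Cfsg.Agent.Lib.ConjFunctor.Main
import Cfsg.Agent.Lib.ConjFunctor.Failure
import Cfsg.Agent.Lib.ConjFunctor.WellPlaced
import Cfsg.Agent.Lib.ConjFunctor.Chief
import Cfsg.Agent.S1983

/-!
# Control of transfer and fusion by the K-infinity subgroups
-/

set_option autoImplicit false
set_option linter.unusedSectionVars false

open Cfsg

namespace Cfsg.Agent.Lib.ConjFunctor.KControl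

universe u

variable {p : ℕ} [hp : Fact p.Prime]

/-- Both K-infinity functors. -/
def IsK (W : ∀ (Q : Type u) [Group Q], Subgroup Q) : Prop := W = @kInfLower.{u} ∨ W = @kInfUpper.{u}

theorem IsK.charP {W : ∀ (Q : Type u) [Group Q], Subgroup Q} (h : IsK W) :
    IsCharPFunctor.{u} p W := by
  rcases h with rfl | rfl
  · exact KFunctor.isCharP_lower
  · exact KFunctor.isCharP_upper

theorem iterCommutator_le_of_le {X : Type u} [Group X] {U V K : Subgroup X} [V.Normal] {m n : ℕ}
    (h : iterCommutator U K m ≤ V) (hmn : m ≤ n) : iterCommutator U K n ≤ V := by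
  induction hmn with
  | refl => exact h
  | step _ ih => exact (Subgroup.commutator_mono ih le_top).trans (Subgroup.commutator_le_left V ⊤)

theorem exists_element {W : ∀ (Q : Type u) [Group Q], Subgroup Q} (h : IsK W) {X : Type u} [Group X]
    [Finite X] (S : Sylow p X) (hn : ¬ (inducedFunctor W (S : Subgroup X)).Normal) :
    ∃ g : X, g ∈ (S : Subgroup X) ∧ g ∉ pCore p X ∧
      (∀ U V : Subgroup X, IsChiefFactor U V → U ≤ pCore p X →
        iterCommutator U (Subgroup.zpowers g) 4 ≤ V) ∧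
      ⁅⁅pCore p X ⊓ Subgroup.centralizer (pCore p X : Set X), Subgroup.zpowers g⁆,
        Subgroup.zpowers g⁆ = ⊥ ∧
      (Subgroup.centralizer (pCore p X : Set X) ≤ pCore p X →
        ∃ (N : Subgroup X) (_ : N.Normal), ¬ IsNormalizerPStable p (X ⧸ N)) := by
  refine Cfsg.Agent.S1983.result S ?_
  rcases h with rfl | rfl
  exacts [Or.inl hn, Or.inr hn]

/-- The K-infinity subgroups control transfer for `p ≥ 5`. -/
theorem tr_kInf {W : ∀ (Q : Type u) [Group Q], Subgroup Q} (h : IsK W) (h5 : 5 ≤ p)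
    (G : Type u) [Group G] [Finite G] : Section.Tr {W} p G := by
  have h𝓦 : ∀ V ∈ ({W} : Set (∀ (Q : Type u) [Group Q], Subgroup Q)), IsCharPFunctor.{u} p V := by
    rintro V rfl; exact h.charP
  refine Failure.tr_induction (G := G) h𝓦 (fun K R _ hsub hquot => ?_) G (Section.IsSection.refl G)
  by_contra hfail
  obtain ⟨S⟩ := (inferInstance : Nonempty (Sylow p (↥K ⧸ R.subgroupOf K)))
  have hn : ¬ (inducedFunctor (G := (↥K ⧸ R.subgroupOf K)) W
      (S : Subgroup (↥K ⧸ R.subgroupOf K))).Normal := fun hn =>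
    Failure.not_trAt h𝓦 hfail S
      (Failure.trAt_of_normalizer_eq_top S (W := W) rfl (Subgroup.normalizer_eq_top_iff.2 hn))
  obtain ⟨g, hg, hgP, hdeg, -⟩ := exists_element h S hn
  refine Failure.not_smallDegree h𝓦 (Set.singleton_nonempty W) hsub hquot hfail S hg hgP
    fun U V hUV hU => ?_
  haveI := hUV.2.2.1
  exact iterCommutator_le_of_le (hdeg U V hUV hU) (by omega)

theorem stable_congr {X Y : Type u} [Group X] [Group Y] [Finite X] (e : X ≃* Y)
    (h : IsNormalizerPStable p X) : IsNormalizerPStable p Y := by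
  haveI : Finite Y := Finite.of_equiv X e.toEquiv
  intro P hP g hg hq
  obtain ⟨g, rfl⟩ := e.surjective g
  set Q : Subgroup X := P.comap e.toMonoidHom with hQ
  have hQP : Q.map e.toMonoidHom = P := Subgroup.map_comap_eq_self_of_surjective e.surjective P
  have hnorm : ∀ x : X, x ∈ Subgroup.normalizer (Q : Set X) ↔
      e x ∈ Subgroup.normalizer (P : Set Y) := fun x => by
    rw [← hQP, ← Subgroup.map_equiv_normalizer_eq Q e]
    exact (Subgroup.mem_map_iff_mem e.injective).symm
  have hcent : ∀ x : X, x ∈ Subgroup.centralizer (Q : Set X) →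
      e x ∈ Subgroup.centralizer (P : Set Y) := fun x hx => by
    rw [← hQP, Subgroup.mem_centralizer_iff]
    rintro _ ⟨q, hq', rfl⟩
    show e q * e x = e x * e q
    rw [← map_mul, ← map_mul, Subgroup.mem_centralizer_iff.1 hx q hq']
  haveI : ((Subgroup.centralizer (P : Set Y)).subgroupOf
      (Subgroup.normalizer (P : Set Y))).Normal := inferInstance
  have hQq : ⁅⁅Q, Subgroup.zpowers g⁆, Subgroup.zpowers g⁆ = ⊥ := by
    refine (Subgroup.map_eq_bot_iff_of_injective _ (f := e.toMonoidHom) e.injective).1 ?_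
    rw [Subgroup.map_commutator, Subgroup.map_commutator, MonoidHom.map_zpowers, hQP]
    exact hq
  have hmem := h Q (hP.comap_of_injective _ e.injective) g ((hnorm g).2 hg) hQq
  let ψ : Subgroup.normalizer (Q : Set X) →* Subgroup.normalizer (P : Set Y) :=
    (e.toMonoidHom.comp (Subgroup.normalizer (Q : Set X)).subtype).codRestrict _
      fun x => (hnorm x).1 x.2
  have hψs : Function.Surjective ψ := fun y => by
    obtain ⟨x, hx⟩ := e.surjective (y : Y)
    exact ⟨⟨x, (hnorm x).2 (hx ▸ y.2)⟩, Subtype.ext hx⟩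
  let φ := QuotientGroup.map ((Subgroup.centralizer (Q : Set X)).subgroupOf _)
    ((Subgroup.centralizer (P : Set Y)).subgroupOf _) ψ fun x hx => hcent _ hx
  have hφs : Function.Surjective φ := fun y => by
    obtain ⟨y, rfl⟩ := QuotientGroup.mk'_surjective _ y
    obtain ⟨x, rfl⟩ := hψs y
    exact ⟨QuotientGroup.mk' _ x, rfl⟩
  haveI := Subgroup.Normal.map (inferInstance : (pCore p _).Normal) φ hφs
  exact Cores.le_pCore ((Cores.pCore_isPGroup p).map φ) ⟨_, hmem, rfl⟩

/-- The K-infinity subgroups control strong fusion when all sections are `p`-stable. -/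
theorem sf_kInf {W : ∀ (Q : Type u) [Group Q], Subgroup Q} (h : IsK W)
    {G : Type u} [Group G] [Finite G]
    (hst : ∀ (K R : Subgroup G) [(R.subgroupOf K).Normal],
      IsNormalizerPStable p (↥K ⧸ R.subgroupOf K))
    (X : Type u) [Group X] [Finite X] (hX : Section.IsSection X G) : Section.SF {W} p X := by
  have h𝓦 : ∀ V ∈ ({W} : Set (∀ (Q : Type u) [Group Q], Subgroup Q)), IsCharPFunctor.{u} p V := by
    rintro V rfl; exact h.charP
  refine Main.sf_of_loc h𝓦 (fun K R _ hc T A g _ hA hgA => ?_) X hX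
  refine Reach.Chain.single
    (Local.mem_stepSet_nFam.2 ⟨_, ⟨W, rfl, rfl⟩, trivial, ?_⟩) hA hgA
  have hn : (inducedFunctor W (T : Subgroup (↥K ⧸ R.subgroupOf K))).Normal := by
    by_contra hn
    obtain ⟨-, -, -, -, -, hbad⟩ := exists_element h T hn
    obtain ⟨N, hN, hns⟩ := hbad hc
    haveI := hN
    obtain ⟨K', R', hR', ⟨e⟩⟩ := ((Section.isSection_quot K R).quotient (QuotientGroup.mk' N)
      (QuotientGroup.mk'_surjective N)).exists_iso
    exact hns (stable_congr e (hst K' R'))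
  rw [Subgroup.normalizer_eq_top_iff.2 hn]
  trivial

theorem controlsStrongFusion_of_sf {W : ∀ (Q : Type u) [Group Q], Subgroup Q}
    (hW : IsCharPFunctor.{u} p W) {G : Type u} [Group G] [Finite G] (h : Section.SF {W} p G)
    (S : Sylow p G) : ControlsStrongFusion p (inducedFunctor W (S : Subgroup G)) := by
  refine ⟨S, Basic.w_le (Section.isConjugacyFunctor_induced hW) S.2, fun A hA => ⟨hA, fun g hgA => ?_⟩⟩
  obtain ⟨x, hx, hxe⟩ := (h S A g trivial hA hgA).collapse
    (N := Subgroup.normalizer (inducedFunctor W (S : Subgroup G) : Set G)) (fun y hy => by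
    obtain ⟨V, hV, hy⟩ := Local.mem_stepSet_nFam.1 hy
    obtain ⟨_, rfl, rfl⟩ := hV
    exact hy.2)
  exact ⟨x, hx, fun a ha => (hxe a ha).symm⟩

/-- The central `p`-core of a subgroup. -/
theorem pCoreOf_inf_centralizer {G : Type u} [Group G] (H : Subgroup G) :
    pCoreOf p H ⊓ Subgroup.centralizer (pCoreOf p H : Set G) =
      (pCore p H ⊓ Subgroup.centralizer (pCore p H : Set H)).map H.subtype := by
  ext x
  constructor
  · intro hx
    obtain ⟨h1, hC⟩ := Subgroup.mem_inf.1 hx
    obtain ⟨y, hy, rfl⟩ := h1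
    refine ⟨y, Subgroup.mem_inf.2 ⟨hy, Subgroup.mem_centralizer_iff.2 fun z hz => ?_⟩, rfl⟩
    exact Subtype.ext (Subgroup.mem_centralizer_iff.1 hC _ ⟨z, hz, rfl⟩)
  · rintro ⟨y, hy, rfl⟩
    refine Subgroup.mem_inf.2 ⟨⟨y, (Subgroup.mem_inf.1 hy).1, rfl⟩,
      Subgroup.mem_centralizer_iff.2 ?_⟩
    rintro _ ⟨z, hz, rfl⟩
    exact congrArg Subtype.val (Subgroup.mem_centralizer_iff.1 (Subgroup.mem_inf.1 hy).2 z hz)

theorem exists_quadratic_local {W : ∀ (Q : Type u) [Group Q], Subgroup Q} (h : IsK W)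
    {G : Type u} [Group G] [Finite G] {H T : Subgroup G} (hT : Basic.IsSyl p T H)
    (hn : ¬ H ≤ Subgroup.normalizer ((inducedFunctor W T : Subgroup G) : Set G)) :
    ∃ g : G, g ∈ T ∧ g ∉ pCoreOf p H ∧
      ⁅⁅pCoreOf p H ⊓ Subgroup.centralizer (pCoreOf p H : Set G), Subgroup.zpowers g⁆,
        Subgroup.zpowers g⁆ = ⊥ := by
  have hTs : (hT.toSylowOf : Subgroup H).map H.subtype = T := by
    rw [hT.coe_toSylowOf, Subgroup.map_subgroupOf_eq_of_le hT.le]
  obtain ⟨g, hg, hgP, -, hq, -⟩ := exists_element h hT.toSylowOf fun hnorm => hn (by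
    have e := Section.map_inducedFunctor_of_injective (h.charP (p := p)) H.subtype H.subtype_injective
      _ hT.toSylowOf.2
    rw [hTs] at e
    rw [e]
    have h1 := Subgroup.le_normalizer_map (H := inducedFunctor W (hT.toSylowOf : Subgroup H)) H.subtype
    rwa [Subgroup.normalizer_eq_top_iff.2 hnorm, ← MonoidHom.range_eq_map, H.range_subtype] at h1)
  rw [hT.coe_toSylowOf] at hg
  refine ⟨g, hg, ?_, ?_⟩
  · rintro ⟨y, hy, hyg⟩
    exact hgP (Subtype.ext hyg ▸ hy)
  · rw [pCoreOf_inf_centralizer, ← Subgroup.coe_subtype, ← MonoidHom.map_zpowers,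
      ← Subgroup.map_commutator, ← Subgroup.map_commutator, hq, Subgroup.map_bot]

end Cfsg.Agent.Lib.ConjFunctor.KControl
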