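import Cfsg.Agent.Lib.ConjFunctor.Chief
import Cfsg.Agent.Lib.Fusion.Alperin

/-!
# Complete reducibility of a chief factor for subgroups subnormal by a `p`-group
-/

set_option autoImplicit false
set_option linter.unusedSectionVars false

open Cfsg
open Cfsg.Agent.Lib.Fusion.Alperin

open scoped commutatorElement

namespace Cfsg.Agent.Lib.ConjFunctor.Semisimple

variable {G : Type*} [Group G] [Finite G] {U V : Subgroup G}

/-- A subgroup between `V` and `U` normalized by `K`. -/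
def Inv (U V K R : Subgroup G) : Prop := V ≤ R ∧ R ≤ U ∧ K ≤ Subgroup.normalizer (R : Set G)

/-- A minimal such subgroup above `V`. -/
def Simple (U V K R : Subgroup G) : Prop :=
  Inv U V K R ∧ V < R ∧ ∀ R', Inv U V K R' → R' ≤ R → R' = V ∨ R' = R

/-- `U / V` is generated by `K`-simple subgroups. -/
def SS (U V K : Subgroup G) : Prop := U ≤ sSup {R | Simple U V K R}

theorem le_normalizer_of_between (hab : ⁅U, U⁆ ≤ V) {R : Subgroup G} (hVR : V ≤ R) (hRU : R ≤ U) :
    U ≤ Subgroup.normalizer (R : Set G) := by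
  intro u hu
  refine mem_normalizer_of_conjS_eq (Subgroup.eq_of_le_of_card_ge ?_ (card_conjS u R).ge)
  rintro _ ⟨r, hr, rfl⟩
  show u * r * u⁻¹ ∈ R
  rw [show u * r * u⁻¹ = ⁅u, r⁆ * r by group]
  exact mul_mem (hVR (hab (Subgroup.commutator_mem_commutator hu (hRU hr)))) hr

theorem mem_normalizer_sSup {F : Set (Subgroup G)} {k : G} (h : ∀ R ∈ F, conjS k R ∈ F) :
    k ∈ Subgroup.normalizer ((sSup F : Subgroup G) : Set G) := by
  refine mem_normalizer_of_conjS_eq (Subgroup.eq_of_le_of_card_ge ?_ (card_conjS k _).ge)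
  rw [conjS, Subgroup.map_le_iff_le_comap]
  exact sSup_le fun R hR => Subgroup.map_le_iff_le_comap.1 (le_sSup (h R hR))

theorem ss_top (h : IsChiefFactor U V) : SS U V ⊤ := by
  obtain ⟨hVU, hUn, hVn, hmin⟩ := h
  refine le_sSup ⟨⟨hVU.le, le_rfl, Subgroup.le_normalizer_of_normal⟩, hVU, fun R hR hRU => ?_⟩
  exact hmin R (Subgroup.normalizer_eq_top_iff.1 (top_le_iff.1 hR.2.2)) hR.1 hRU

theorem ss_of_normal (hU : U.Normal) (hV : V.Normal) {K K₁ : Subgroup G} (hKK : K ≤ K₁)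
    (hK₁ : K₁ ≤ Subgroup.normalizer (K : Set G)) (h : SS U V K₁) : SS U V K := by
  refine h.trans (sSup_le fun R₁ hR₁ => ?_)
  obtain ⟨⟨hVR₁, hR₁U, hK₁R₁⟩, hlt, hmin⟩ := hR₁
  obtain ⟨R, ⟨hR, hVR, hRR₁⟩, hRmin⟩ := (Set.toFinite
      {R : Subgroup G | Inv U V K R ∧ V < R ∧ R ≤ R₁}).exists_minimal
    ⟨R₁, ⟨hVR₁, hR₁U, hKK.trans hK₁R₁⟩, hlt, le_rfl⟩
  have hRs : Simple U V K R := by
    refine ⟨hR, hVR, fun R' hR' hle => ?_⟩
    by_cases he : R' = V
    · exact Or.inl he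
    · exact Or.inr (le_antisymm hle
        (hRmin ⟨hR', lt_of_le_of_ne hR'.1 (Ne.symm he), hle.trans hRR₁⟩ hle))
  set F : Set (Subgroup G) := {R | Simple U V K R ∧ R ≤ R₁} with hF
  have hconj : ∀ k ∈ K₁, ∀ R ∈ F, conjS k R ∈ F := by
    intro k hk R hR
    obtain ⟨⟨⟨hVR, hRU, hKR⟩, hVR', hRmin⟩, hRle⟩ := hR
    have eV : ∀ g : G, conjS g V = V := fun g =>
      conjS_eq_of_mem_normalizer (Subgroup.le_normalizer_of_normal (H := V) (K := ⊤) trivial)
    have eU : ∀ g : G, conjS g U = U := fun g =>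
      conjS_eq_of_mem_normalizer (Subgroup.le_normalizer_of_normal (H := U) (K := ⊤) trivial)
    have hinv : ∀ g ∈ K₁, ∀ R : Subgroup G, Inv U V K R → Inv U V K (conjS g R) := by
      intro g hg R ⟨h1, h2, h3⟩
      refine ⟨(eV g).symm.le.trans (conjS_mono h1), (conjS_mono h2).trans (eU g).le, ?_⟩
      rw [← conjS_eq_of_mem_normalizer (hK₁ hg), ← conjS_normalizer]
      exact conjS_mono h3
    refine ⟨⟨hinv k hk R ⟨hVR, hRU, hKR⟩, ?_, fun R' hR' hle => ?_⟩, ?_⟩
    · refine lt_of_le_of_ne ((eV k).symm.le.trans (conjS_mono hVR)) fun he => hVR'.ne ?_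
      have h1 := congrArg (conjS k⁻¹) he
      rwa [conjS_inv_conjS, eV] at h1
    · have h2 : conjS k⁻¹ R' ≤ R := (conjS_mono hle).trans (conjS_inv_conjS k R).le
      rcases hRmin _ (hinv k⁻¹ (inv_mem hk) R' hR') h2 with h3 | h3
      · refine Or.inl ?_
        rw [← eV k, ← h3, ← conjS_mul, mul_inv_cancel, conjS_one]
      · refine Or.inr ?_
        rw [← h3, ← conjS_mul, mul_inv_cancel, conjS_one]
    · exact (conjS_mono hRle).trans (conjS_eq_of_mem_normalizer (hK₁R₁ hk)).le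
  have hSup : Inv U V K₁ (sSup F) :=
    ⟨hVR.le.trans (le_sSup (show R ∈ F from ⟨hRs, hRR₁⟩)),
      sSup_le fun R hR => hR.2.trans hR₁U, fun k hk => mem_normalizer_sSup (hconj k hk)⟩
  rcases hmin _ hSup (sSup_le fun R hR => hR.2) with h1 | h1
  · exact absurd ((le_sSup (show R ∈ F from ⟨hRs, hRR₁⟩)).trans h1.le) hVR.not_ge
  · rw [← h1]
    exact sSup_le_sSup fun R hR => hR.1

/-- Subgroups between `L` and `N`, both normal with `N / L` a `p`-group, act completely reducibly. -/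
theorem ss_of_pGroup {p : ℕ} [Fact p.Prime] (h : IsChiefFactor U V) {N L : Subgroup G} [N.Normal]
    [L.Normal] (hNL : IsPGroup p (N.map (QuotientGroup.mk' L))) {K : Subgroup G} (hLK : L ≤ K)
    (hKN : K ≤ N) : SS U V K := by
  induction hd : Nat.card N - Nat.card K using Nat.strong_induction_on generalizing K with
  | _ n ih =>
    subst hd
    rcases eq_or_ne K N with rfl | hne
    · exact ss_of_normal h.2.1 h.2.2.1 le_top Subgroup.le_normalizer_of_normal (ss_top h)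
    set π := QuotientGroup.mk' L with hπ
    have hcK : (K.map π).comap π = K := by
      rw [Subgroup.comap_map_eq, hπ, QuotientGroup.ker_mk', sup_eq_left.2 hLK]
    have hlt : K.map π < N.map π := by
      refine lt_of_le_of_ne (Subgroup.map_mono hKN) fun he => hne (le_antisymm hKN ?_)
      rw [← hcK, he]
      exact Subgroup.le_comap_map π N
    have hlt' := lt_inf_normalizer hNL hlt
    obtain ⟨y, hy, hyK⟩ := SetLike.exists_of_lt hlt'
    obtain ⟨hyN, hy'⟩ := Subgroup.mem_inf.1 hy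
    obtain ⟨n', hn', rfl⟩ := hyN
    set K₁ := N ⊓ Subgroup.normalizer (K : Set G) with hK₁
    have hKK₁ : K < K₁ := by
      refine lt_of_le_not_ge (le_inf hKN Subgroup.le_normalizer) fun hle => hyK ⟨n', hle ?_, rfl⟩
      refine Subgroup.mem_inf.2 ⟨hn', mem_normalizer_of_conjS_eq
        (Subgroup.eq_of_le_of_card_ge ?_ (card_conjS n' K).ge)⟩
      rintro _ ⟨k, hk, rfl⟩
      rw [← hcK, Subgroup.mem_comap]
      have h1 := (Subgroup.mem_normalizer_iff.1 hy' (π k)).1 ⟨k, hk, rfl⟩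
      simpa using h1
    refine ss_of_normal h.2.1 h.2.2.1 hKK₁.le inf_le_right
      (ih (Nat.card N - Nat.card K₁) ?_ (K := K₁) (hLK.trans hKK₁.le) inf_le_left rfl)
    have h1 : Nat.card K < Nat.card K₁ := by
      refine lt_of_le_of_ne (Subgroup.card_le_of_le hKK₁.le) fun he => hKK₁.ne ?_
      exact Subgroup.eq_of_le_of_card_ge hKK₁.le he.ge
    have h2 : Nat.card K₁ ≤ Nat.card N := Subgroup.card_le_of_le inf_le_left
    omega

/-- Invariant subgroups have invariant complements. -/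
theorem exists_complement (hab : ⁅U, U⁆ ≤ V) (hVU : V ≤ U) {K : Subgroup G} [hVn : V.Normal]
    (hss : SS U V K) {R : Subgroup G} (hR : Inv U V K R) :
    ∃ R', Inv U V K R' ∧ R ⊓ R' ≤ V ∧ R ⊔ R' = U := by
  obtain ⟨R', ⟨hR', hcap⟩, hmax⟩ := (Set.toFinite
      {R' : Subgroup G | Inv U V K R' ∧ R ⊓ R' ≤ V}).exists_maximal
    ⟨V, ⟨le_rfl, hVU, Subgroup.le_normalizer_of_normal⟩, inf_le_right⟩
  refine ⟨R', hR', hcap, le_antisymm (sup_le hR.2.1 hR'.2.1) (hss.trans (sSup_le fun Si hSi => ?_))⟩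
  by_contra hle
  obtain ⟨⟨hVS, hSU, hKS⟩, hVS', hSmin⟩ := hSi
  have hnorm : ∀ {A B : Subgroup G}, Inv U V K A → Inv U V K B → Inv U V K (A ⊔ B) := by
    intro A B hA hB
    refine ⟨hA.1.trans le_sup_left, sup_le hA.2.1 hB.2.1, fun k hk => ?_⟩
    apply mem_normalizer_of_conjS_eq
    rw [conjS, Subgroup.map_sup]
    exact congrArg₂ (· ⊔ ·) (conjS_eq_of_mem_normalizer (hA.2.2 hk))
      (conjS_eq_of_mem_normalizer (hB.2.2 hk))
  have hRR : Inv U V K (R ⊔ R') := hnorm hR hR'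
  have hint : Si ⊓ (R ⊔ R') ≤ V := by
    have hinv : Inv U V K (Si ⊓ (R ⊔ R')) := by
      refine ⟨le_inf hVS hRR.1, inf_le_left.trans hSU, fun k hk => ?_⟩
      apply mem_normalizer_of_conjS_eq
      rw [conjS, Subgroup.map_inf _ _ _ (MulAut.conj k).injective]
      exact congrArg₂ (· ⊓ ·) (conjS_eq_of_mem_normalizer (hKS hk))
        (conjS_eq_of_mem_normalizer (hRR.2.2 hk))
    rcases hSmin _ hinv inf_le_left with h1 | h1
    · exact h1.le
    · exact absurd (h1.ge.trans inf_le_right) hle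
  have hbig : R ⊓ (R' ⊔ Si) ≤ V := by
    intro x hx
    obtain ⟨hxR, hx'⟩ := Subgroup.mem_inf.1 hx
    have hSn : Si ≤ Subgroup.normalizer (R' : Set G) :=
      hSU.trans (le_normalizer_of_between hab hR'.1 hR'.2.1)
    rw [sup_comm, ← SetLike.mem_coe, Subgroup.coe_mul_of_left_le_normalizer_right _ _ hSn] at hx'
    obtain ⟨s, hs, r, hr, rfl⟩ := hx'
    have h1 : s ∈ Si ⊓ (R ⊔ R') := by
      refine Subgroup.mem_inf.2 ⟨hs, ?_⟩
      have := mul_mem (le_sup_left (b := R') hxR) (le_sup_right (a := R) (inv_mem hr))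
      rwa [mul_inv_cancel_right] at this
    exact hcap (Subgroup.mem_inf.2 ⟨hxR, mul_mem (hR'.1 (hint h1)) hr⟩)
  refine hle (le_trans ?_ (le_sup_right (a := R)))
  exact le_sup_right.trans (hmax ⟨hnorm hR' ⟨hVS, hSU, hKS⟩, hbig⟩ le_sup_left)

end Cfsg.Agent.Lib.ConjFunctor.Semisimple
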