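import Cfsg.Agent.Lib.ConjFunctor.Degree
import Cfsg.Agent.Lib.ConjFunctor.Semisimple
import Cfsg.Agent.Lib.ConjFunctor.KFunctor
import Cfsg.Agent.Lib.Transfer.PResidual

/-!
# A non-normal K-infinity subgroup forces small degree on a critical subgroup of `O_p`
-/

set_option autoImplicit false
set_option linter.unusedSectionVars false

open Cfsg
open Cfsg.Agent.Lib.Fusion.Alperin
open Cfsg.Agent.Lib.ConjFunctor.Chief
open Cfsg.Agent.Lib.ConjFunctor.Degree

open scoped commutatorElement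

namespace Cfsg.Agent.Lib.ConjFunctor.KTest

variable {G : Type*} [Group G] [Finite G]

theorem dd_eq (g x : G) : dd g x = ⁅g, x⁆ := (commutatorElement_def g x).symm

theorem dd_eq_one_of_comm {g x : G} (h : g * x = x * g) : dd g x = 1 :=
  (dd_eq g x).trans (commutatorElement_eq_one_iff_mul_comm.2 h)

theorem dd_mul_left (x y u : G) : dd (x * y) u = x * dd y u * x⁻¹ * dd x u := by simp [dd, mul_assoc]

/-- Elements acting trivially on every chief factor inside `N`. -/
def trivOn (N : Subgroup G) : Subgroup G where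
  carrier := {x | ∀ U V : Subgroup G, IsChiefFactor U V → U ≤ N → ∀ u ∈ U, dd x u ∈ V}
  one_mem' := fun _ V _ _ u _ => by
    rw [dd_eq_one_of_comm (by simp : (1 : G) * u = u * 1)]; exact one_mem V
  mul_mem' := fun {x y} hx hy U V h hUN u hu => by
    rw [dd_mul_left]
    exact mul_mem (h.2.2.1.conj_mem _ (hy U V h hUN u hu) x) (hx U V h hUN u hu)
  inv_mem' := fun {x} hx U V h hUN u hu => by
    rw [show dd x⁻¹ u = x⁻¹ * (dd x u)⁻¹ * x by simp [dd, mul_assoc]]
    exact h.2.2.1.conj_mem' _ (inv_mem (hx U V h hUN u hu)) x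

theorem trivOn_normal (N : Subgroup G) : (trivOn N).Normal :=
  ⟨fun x hx h U V hUV hUN u hu => by
    rw [show dd (h * x * h⁻¹) u = h * dd x (h⁻¹ * u * h) * h⁻¹ by simp [dd, mul_assoc]]
    exact hUV.2.2.1.conj_mem _ (hx U V hUV hUN _ (hUV.2.1.conj_mem' u hu h)) h⟩

variable {p : ℕ} [hp : Fact p.Prime]

/-- A coprime element trivial on all chief factors inside `N` centralizes `N`. -/
theorem centralizes_of_trivOn {N : Subgroup G} [hN : N.Normal] (hNp : IsPGroup p N) {x : G}
    (hx : x ∈ trivOn N) (hcop : (orderOf x).Coprime p) : x ∈ Subgroup.centralizer (N : Set G) := by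
  suffices H : ∀ n, ∀ M : Subgroup G, M.Normal → M ≤ N → Nat.card M ≤ n → ∀ u ∈ M, dd x u = 1 by
    refine Subgroup.mem_centralizer_iff.2 fun u hu => ?_
    have h1 := H _ N hN le_rfl le_rfl u hu
    rw [dd_eq, commutatorElement_eq_one_iff_mul_comm] at h1
    exact h1.symm
  intro n
  induction n with
  | zero => exact fun M _ _ hc => absurd hc (Nat.not_le.2 Nat.card_pos)
  | succ n ih =>
    intro M hM hMN hc u hu
    rcases eq_or_ne M ⊥ with rfl | hne
    · rw [Subgroup.mem_bot.1 hu]; simp [dd]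
    haveI := hM
    obtain ⟨V, -, hV⟩ := exists_chief_top (bot_lt_iff_ne_bot.2 hne : (⊥ : Subgroup G) < M)
    have hVn : Nat.card V ≤ n := by
      have h1 : Nat.card V < Nat.card M := by
        refine lt_of_le_of_ne (Subgroup.card_le_of_le hV.1.le) fun he => hV.1.ne ?_
        exact Subgroup.eq_of_le_of_card_ge hV.1.le he.ge
      omega
    set z := dd x u with hz
    have hzV : z ∈ V := hx M V hV hMN u hu
    have hxz : x * z * x⁻¹ = z := by
      have h1 := ih V hV.2.2.1 (hV.1.le.trans hMN) hVn z hzV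
      exact mul_inv_eq_one.1 h1
    have hzu : x * u * x⁻¹ = z * u := (inv_mul_cancel_right _ _).symm
    have hpow : ∀ k : ℕ, x ^ k * u * (x ^ k)⁻¹ = z ^ k * u := by
      intro k
      induction k with
      | zero => simp
      | succ k ihk =>
        calc x ^ (k + 1) * u * (x ^ (k + 1))⁻¹ = x * (x ^ k * u * (x ^ k)⁻¹) * x⁻¹ := by
              rw [pow_succ']; group
          _ = x * (z ^ k * u) * x⁻¹ := by rw [ihk]
          _ = (x * z * x⁻¹) ^ k * (x * u * x⁻¹) := by rw [conj_pow]; group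
          _ = z ^ k * (z * u) := by rw [hxz, hzu]
          _ = z ^ (k + 1) * u := by rw [← mul_assoc, ← pow_succ]
    have h1 : z ^ orderOf x = 1 := by
      have h2 := hpow (orderOf x)
      rw [pow_orderOf_eq_one, one_mul, inv_one, mul_one] at h2
      exact (mul_eq_right.1 h2.symm)
    obtain ⟨k, hk⟩ := hNp ⟨z, hMN (hV.1.le hzV)⟩
    exact orderOf_eq_one_iff.1 (Nat.eq_one_of_dvd_coprimes (hcop.pow_right k)
      (orderOf_dvd_of_pow_eq_one h1)
      (orderOf_dvd_of_pow_eq_one (by simpa using congrArg Subtype.val hk)))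

/-- The hypotheses on `A ≤ T = O_p(G)`. -/
structure Crit (p : ℕ) (A : Subgroup G) : Prop where
  normal : A.Normal
  le : A ≤ pCore p G
  two : ⁅A, A⁆ ≤ Subgroup.centralizer (A : Set G)
  comm : ⁅pCore p G, A⁆ ≤ A ⊓ Subgroup.centralizer (A : Set G)
  faithful : ∀ φ : MulAut ↥(pCore p G), (orderOf φ).Coprime p →
    (∀ a : ↥(pCore p G), (a : G) ∈ A → φ a = a) → φ = 1

/-- The conclusion wanted of `g`. -/
def Good (p : ℕ) (S : Subgroup G) (A : Subgroup G) (g : G) : Prop :=
  g ∈ S ∧ g ∉ pCore p G ∧ (∀ a ∈ A, (dd g)^[3] a ∈ A ⊓ Subgroup.centralizer (A : Set G)) ∧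
    (∀ z ∈ A ⊓ Subgroup.centralizer (A : Set G), (dd g)^[2] z = 1) ∧
    (Subgroup.centralizer (pCore p G : Set G) ≤ pCore p G → ∃ U V : Subgroup G,
      IsChiefFactor U V ∧ U ≤ A ∧ (∀ u ∈ U, (dd g)^[2] u ∈ V) ∧ ∃ u ∈ U, dd g u ∉ V)

section

variable {S : Sylow p G} {A : Subgroup G} (hA : Crit p A)

include hA

theorem exists_factor (hcon : Subgroup.centralizer (pCore p G : Set G) ≤ pCore p G) {g : G}
    (hg : g ∉ pCore p G) :
    ∃ U V : Subgroup G, IsChiefFactor U V ∧ U ≤ A ∧ ∃ u ∈ U, dd g u ∉ V := by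
  by_contra hno
  simp only [not_exists, not_and, not_not] at hno
  haveI := trivOn_normal A
  haveI := hA.normal
  refine hg (Cores.le_pCore (N := trivOn A) (fun x => ?_) (fun U V h hUA u hu => hno U V h hUA u hu : g ∈ trivOn A))
  obtain ⟨a, b, -, hb, hab, -, ⟨k, hk⟩, hbc⟩ :=
    Transfer.PResidual.exists_pPart_mul_pPrimePart (p := p) (x : G) (isOfFinOrder_of_finite _)
  have hbA := centralizes_of_trivOn ((Cores.pCore_isPGroup p).to_le hA.le)
    ((Subgroup.zpowers_le.2 x.2) hb) hbc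
  set φ : MulAut ↥(pCore p G) := MulAut.conjNormal b with hφ
  have h1 : φ = 1 := by
    refine hA.faithful φ (hbc.coprime_dvd_left (orderOf_map_dvd _ b)) fun c hc => Subtype.ext ?_
    rw [hφ, MulAut.conjNormal_apply, ← Subgroup.mem_centralizer_iff.1 hbA c hc, mul_inv_cancel_right]
  have hbT : b ∈ pCore p G := hcon (Subgroup.mem_centralizer_iff.2 fun c hc => by
    have h2 : ((φ ⟨c, hc⟩ : ↥(pCore p G)) : G) = c := by rw [h1]; rfl
    rw [hφ, MulAut.conjNormal_apply, mul_inv_eq_iff_eq_mul] at h2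
    exact h2.symm)
  obtain ⟨j, hj⟩ := Cores.pCore_isPGroup p ⟨b, hbT⟩
  have hb1 : b = 1 := orderOf_eq_one_iff.1 (Nat.eq_one_of_dvd_coprimes (hbc.pow_right j) dvd_rfl
    (orderOf_dvd_of_pow_eq_one (by simpa using congrArg Subtype.val hj)))
  refine ⟨k, Subtype.ext ?_⟩
  show (x : G) ^ p ^ k = 1
  rw [← hab, hb1, mul_one, hk]

theorem good_of_quadratic {g : G} (hg : g ∈ (S : Subgroup G)) (hgT : g ∉ pCore p G)
    (h1 : ∀ a ∈ A, (dd g)^[2] a ∈ A ⊓ Subgroup.centralizer (A : Set G))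
    (h2 : ∀ z ∈ A ⊓ Subgroup.centralizer (A : Set G), (dd g)^[2] z = 1) :
    Good p (S : Subgroup G) A g := by
  haveI := hA.normal
  set Z := A ⊓ Subgroup.centralizer (A : Set G) with hZ
  haveI : Z.Normal := inferInstance
  refine ⟨hg, hgT, fun a ha => ?_, h2, fun hcon => ?_⟩
  · rw [Function.iterate_succ_apply']
    exact dd_mem g (h1 a ha)
  obtain ⟨U, V, hUV, hUA, u, hu, huV⟩ := exists_factor hA hcon hgT
  refine ⟨U, V, hUV, hUA, ?_, u, hu, huV⟩
  have hUn := hUV.2.1
  have hVn := hUV.2.2.1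
  have hab : ⁅U, U⁆ ≤ V :=
    (chief_elementary hUV ((Cores.pCore_isPGroup p).to_le (hUA.trans hA.le))).1
  rcases hUV.2.2.2 ((U ⊓ Z) ⊔ V) inferInstance le_sup_right (sup_le inf_le_left hUV.1.le) with h | h
  · intro w hw
    exact h.le (le_sup_left (b := V) (Subgroup.mem_inf.2 ⟨dd_iter_mem g hw 2, h1 w (hUA hw)⟩))
  · intro w hw
    have hle : U ≤ layerKer U V g hab 2 := by
      conv_lhs => rw [← h]
      refine sup_le (fun z hz => ⟨(Subgroup.mem_inf.1 hz).1, ?_⟩) (le_layerKer U V g hab hUV.1.le 2)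
      rw [h2 z (Subgroup.mem_inf.1 hz).2]
      exact one_mem V
    exact (hle hw).2

theorem not_mem_center_of {g a : G} (ha : a ∈ A)
    (h : ⁅a, g⁆ ∉ A ⊓ Subgroup.centralizer (A : Set G)) : g ∉ pCore p G := fun hg => h (by
  rw [← commutatorElement_inv]
  exact inv_mem (hA.comm (Subgroup.commutator_mem_commutator hg ha)))

variable (hno : ∀ g, ¬ Good p (S : Subgroup G) A g)

include hno

/-- `A` is in every lower family. -/
theorem mem_lo {Q : Subgroup G} (hQ : Q ≤ (S : Subgroup G)) : A ∈ kLowerStarFamily Q := by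
  haveI := hA.normal
  refine ⟨hA.two, Subgroup.le_normalizer_of_normal, fun B hB hBQ hAB hcom _ => ?_⟩
  refine Subgroup.commutator_le.2 fun a ha g hg => ?_
  by_contra hne
  refine hno g (good_of_quadratic hA (hQ (hBQ hg)) (not_mem_center_of hA ha hne) (fun c hc => ?_)
    fun z hz => ?_)
  · have hw : dd g c ∈ B := by
      rw [show dd g c = g * (c * g⁻¹ * c⁻¹) by simp [dd, mul_assoc]]
      exact mul_mem hg ((Subgroup.mem_normalizer_iff.1 (hAB hc) _).1 (inv_mem hg))
    refine Subgroup.mem_inf.2 ⟨dd_iter_mem g hc 2, Subgroup.mem_centralizer_iff.2 fun e he => ?_⟩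
    have hmem : (dd g)^[2] c ∈ ⁅B, B⁆ := by
      rw [Function.iterate_succ_apply', Function.iterate_one, dd_eq]
      exact Subgroup.commutator_mem_commutator hg hw
    have h1 := Subgroup.commutator_mem_commutator he hmem
    rw [hcom, Subgroup.mem_bot, commutatorElement_eq_one_iff_mul_comm] at h1
    exact h1
  · have h1 : dd g z ∈ A ⊓ Subgroup.centralizer (A : Set G) := dd_mem g hz
    rename_i hquad
    have h2 : ⁅⁅z, g⁆, g⁆ ∈ (⊥ : Subgroup G) := hquad ▸ Subgroup.commutator_mem_commutator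
      (Subgroup.commutator_mem_commutator hz hg) hg
    rw [Subgroup.mem_bot, commutatorElement_eq_one_iff_mul_comm] at h2
    rw [Function.iterate_succ_apply', Function.iterate_one]
    refine dd_eq_one_of_comm ?_
    have h3 : dd g z = ⁅z, g⁆⁻¹ := by rw [commutatorElement_inv, dd_eq]
    rw [h3]
    exact ((Commute.inv_left (h2 : Commute ⁅z, g⁆ g)).symm).eq

/-- Members of an upper family above `A` lie in `T`. -/
theorem up_le {Q B : Subgroup G} (hB : B ∈ kUpperStarFamily Q) (hAQ : A ≤ Q)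
    (hBS : B ≤ (S : Subgroup G)) : B ≤ pCore p G := by
  haveI := hA.normal
  intro b hb
  by_contra hbT
  have h : ∀ a ∈ A, (dd b)^[2] a = 1 := fun a ha => by
    have h1 : dd b a ∈ B ⊓ Subgroup.centralizer (B : Set G) := by
      rw [dd_eq]
      exact hB.2 (Subgroup.commutator_mem_commutator hb (hAQ ha))
    rw [Function.iterate_succ_apply', Function.iterate_one]
    exact dd_eq_one_of_comm (Subgroup.mem_centralizer_iff.1 (Subgroup.mem_inf.1 h1).2 b hb)
  refine hno b (good_of_quadratic hA (hBS hb) hbT (fun a ha => ?_) fun z hz => h z (Subgroup.mem_inf.1 hz).1)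
  rw [h a ha]
  exact one_mem _

/-- Members of a lower family above `A` lie in `T`. -/
theorem lo_le {Q B : Subgroup G} (hB : B ∈ kLowerStarFamily Q) (hAQ : A ≤ Q)
    (hBS : B ≤ (S : Subgroup G)) : B ≤ pCore p G := by
  haveI := hA.normal
  obtain ⟨hB2, hQN, htest⟩ := hB
  set ZA := A ⊓ Subgroup.centralizer (A : Set G) with hZA
  set ZB := B ⊓ Subgroup.centralizer (B : Set G) with hZB
  have hAN : A ≤ Subgroup.normalizer (B : Set G) := hAQ.trans hQN
  have hBB : ⁅B, B⁆ ≤ ZB := le_inf (Subgroup.commutator_le_self B) hB2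
  have hABm : ∀ b ∈ B, ∀ a ∈ A, dd b a ∈ B := fun b hb a ha => by
    rw [show dd b a = b * (a * b⁻¹ * a⁻¹) by simp [dd, mul_assoc]]
    exact mul_mem hb ((Subgroup.mem_normalizer_iff.1 (hAN ha) _).1 (inv_mem hb))
  have hZBN : ∀ a ∈ A, ∀ z ∈ ZB, a * z * a⁻¹ ∈ ZB := by
    intro a ha z hz
    have h1 : conjS a ZB = ZB := by
      rw [hZB, Basic.conjS_inf, Basic.conjS_centralizer, conjS_eq_of_mem_normalizer (hAN ha)]
    exact h1 ▸ conj_mem_conjS hz
  -- `Z(B) ≤ T`
  have hZBT : ZB ≤ pCore p G := by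
    intro z hz
    by_contra hzT
    have h : ∀ a ∈ A, (dd z)^[2] a = 1 := fun a ha => by
      have h1 : dd z a ∈ ZB := by
        rw [show dd z a = z * (a * z⁻¹ * a⁻¹) by simp [dd, mul_assoc]]
        exact mul_mem hz (hZBN a ha _ (inv_mem hz))
      rw [Function.iterate_succ_apply', Function.iterate_one]
      exact dd_eq_one_of_comm
        (Subgroup.mem_centralizer_iff.1 (Subgroup.mem_inf.1 h1).2 z (Subgroup.mem_inf.1 hz).1)
    refine hno z (good_of_quadratic hA (hBS (Subgroup.mem_inf.1 hz).1) hzT (fun a ha => ?_)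
      fun w hw => h w (Subgroup.mem_inf.1 hw).1)
    rw [h a ha]
    exact one_mem _
  have hquadA : ∀ A' : Subgroup G, A' ≤ A → ⁅⁅ZB, A'⁆, A'⁆ = ⊥ := by
    intro A' hA'
    rw [Subgroup.commutator_eq_bot_iff_le_centralizer]
    refine (Subgroup.commutator_mono hZBT hA').trans (hA.comm.trans inf_le_right) |>.trans ?_
    exact Subgroup.centralizer_le (SetLike.coe_subset_coe.2 hA')
  -- `[B, Z(A)] ≤ Z(B)`
  have hZAcomm : ⁅B, ZA⁆ ≤ ZB := by
    refine htest ZA ?_ (inf_le_left.trans hAQ) Subgroup.le_normalizer_of_normal ?_ (hquadA ZA inf_le_left)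
    · exact (Subgroup.commutator_le_self ZA).trans (inf_le_right.trans
        (Subgroup.centralizer_le (SetLike.coe_subset_coe.2 inf_le_left)))
    · have h : ⁅ZA, ZA⁆ = ⊥ := by
        rw [Subgroup.commutator_eq_bot_iff_le_centralizer]
        exact inf_le_right.trans (Subgroup.centralizer_le (SetLike.coe_subset_coe.2 inf_le_left))
      rw [h, Subgroup.commutator_bot_right]
  have hZquad : ∀ b ∈ B, ∀ z ∈ ZA, (dd b)^[2] z = 1 := fun b hb z hz => by
    have h1 : dd b z ∈ ZB := by rw [dd_eq]; exact hZAcomm (Subgroup.commutator_mem_commutator hb hz)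
    rw [Function.iterate_succ_apply', Function.iterate_one]
    exact dd_eq_one_of_comm (Subgroup.mem_centralizer_iff.1 (Subgroup.mem_inf.1 h1).2 b hb)
  have hcubic : ∀ b ∈ B, ∀ a ∈ A, (dd b)^[3] a = 1 := fun b hb a ha => by
    have h2 : (dd b)^[2] a ∈ ZB := by
      rw [Function.iterate_succ_apply', Function.iterate_one, dd_eq b (dd b a)]
      exact hBB (Subgroup.commutator_mem_commutator hb (hABm b hb a ha))
    rw [Function.iterate_succ_apply']
    exact dd_eq_one_of_comm (Subgroup.mem_centralizer_iff.1 (Subgroup.mem_inf.1 h2).2 b hb)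
  intro b₀ hb₀
  by_contra hb₀T
  -- otherwise some factor is quadratic
  have hbad : ∀ b ∈ B, b ∉ pCore p G → ∀ U V : Subgroup G, IsChiefFactor U V → U ≤ A →
      (∀ u ∈ U, (dd b)^[2] u ∈ V) → (∀ u ∈ U, dd b u ∈ V) ∧ Subgroup.centralizer (pCore p G : Set G) ≤ pCore p G := by
    intro b hb hbT U V hUV hUA hq
    refine ⟨fun u hu => ?_, ?_⟩
    all_goals
      by_contra hne
      refine hno b ⟨hBS hb, hbT, fun a ha => by rw [hcubic b hb a ha]; exact one_mem _,
        fun z hz => hZquad b hb z hz, fun hcon => ?_⟩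
    · exact ⟨U, V, hUV, hUA, hq, u, hu, hne⟩
    · exact absurd hcon hne
  have hcon : Subgroup.centralizer (pCore p G : Set G) ≤ pCore p G := by
    by_contra hne
    exact hno b₀ ⟨hBS hb₀, hb₀T, fun a ha => by rw [hcubic b₀ hb₀ a ha]; exact one_mem _,
      fun z hz => hZquad b₀ hb₀ z hz, fun hcon => absurd hcon hne⟩
  have hTp : IsPGroup p (pCore p G) := Cores.pCore_isPGroup p
  haveI hZAn : ZA.Normal := inferInstance
  -- `B` is trivial on the factors inside `Z(A)`
  set CZ := trivOn ZA with hCZ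
  haveI : CZ.Normal := trivOn_normal ZA
  have hBCZ : B ≤ CZ := by
    intro b hb U V hUV hUZ u hu
    by_cases hbT : b ∈ pCore p G
    · have h1 := commutator_le_of_chief hTp hUV (hUZ.trans (inf_le_left.trans hA.le))
      have h2 := h1 (Subgroup.commutator_mem_commutator hu hbT)
      rw [show dd b u = ⁅u, b⁆⁻¹ by rw [commutatorElement_inv, dd_eq]]
      exact inv_mem h2
    · refine (hbad b hb hbT U V hUV (hUZ.trans inf_le_left) fun w hw => ?_).1 u hu
      rw [hZquad b hb w (hUZ hw)]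
      exact one_mem V
  -- the `p'`-part of the action on `Z(A)`
  set L := Subgroup.normalClosure {x : G | x ∈ CZ ∧ (orderOf x).Coprime p} with hL
  have hLCZ : L ≤ CZ := Subgroup.normalClosure_le_normal fun x hx => hx.1
  haveI : L.Normal := Subgroup.normalClosure_normal
  have hLZA : L ≤ Subgroup.centralizer (ZA : Set G) :=
    Subgroup.normalClosure_le_normal fun x hx =>
      centralizes_of_trivOn (hTp.to_le (inf_le_left.trans hA.le)) hx.1 hx.2
  have hquot : IsPGroup p (CZ.map (QuotientGroup.mk' L)) := by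
    rintro ⟨_, x, hx, rfl⟩
    obtain ⟨a, b, -, hb, hab, -, ⟨k, hk⟩, hbc⟩ :=
      Transfer.PResidual.exists_pPart_mul_pPrimePart (p := p) x (isOfFinOrder_of_finite _)
    have hb1 : QuotientGroup.mk' L b = 1 := (QuotientGroup.eq_one_iff b).2
      (Subgroup.subset_normalClosure ⟨(Subgroup.zpowers_le.2 hx) hb, hbc⟩)
    refine ⟨k, Subtype.ext ?_⟩
    show (QuotientGroup.mk' L x) ^ p ^ k = 1
    rw [← hab, map_mul, hb1, mul_one, ← map_pow, hk, map_one]
  -- the subgroup `A_B`
  set Z₀ := ZA ⊓ Subgroup.centralizer (B : Set G) with hZ₀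
  have hZAA : ∀ z ∈ ZA, ∀ a ∈ A, a * z * a⁻¹ = z := fun z hz a ha => by
    rw [Subgroup.mem_centralizer_iff.1 (Subgroup.mem_inf.1 hz).2 a ha, mul_inv_cancel_right]
  have hAA : ∀ a ∈ A, ∀ c ∈ A, ⁅a, c⁆ ∈ ZA := fun a ha c hc =>
    Subgroup.mem_inf.2 ⟨Subgroup.commutator_le_self A (Subgroup.commutator_mem_commutator ha hc),
      hA.two (Subgroup.commutator_mem_commutator ha hc)⟩
  let AB : Subgroup G :=
    { carrier := {a | a ∈ A ∧ ∀ c ∈ A, ⁅a, c⁆ ∈ Z₀}
      one_mem' := ⟨one_mem A, fun c _ => by rw [commutatorElement_one_left]; exact one_mem _⟩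
      mul_mem' := fun {a a'} ha ha' => ⟨mul_mem ha.1 ha'.1, fun c hc => by
        rw [show ⁅a * a', c⁆ = a * ⁅a', c⁆ * a⁻¹ * ⁅a, c⁆ by group,
          hZAA _ (Subgroup.mem_inf.1 (ha'.2 c hc)).1 a ha.1]
        exact mul_mem (ha'.2 c hc) (ha.2 c hc)⟩
      inv_mem' := fun {a} ha => ⟨inv_mem ha.1, fun c hc => by
        rw [show ⁅a⁻¹, c⁆ = a⁻¹ * ⁅a, c⁆⁻¹ * a⁻¹⁻¹ by group,
          hZAA _ (inv_mem (Subgroup.mem_inf.1 (ha.2 c hc)).1) a⁻¹ (inv_mem ha.1)]
        exact inv_mem (ha.2 c hc)⟩ }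
  have hABA : AB ≤ A := fun a ha => ha.1
  have hABnorm : ∀ x : G, (∀ z ∈ Z₀, x * z * x⁻¹ ∈ Z₀) → x ∈ Subgroup.normalizer (AB : Set G) := by
    intro x hx
    refine Basic.mem_normalizer_of_forall fun a ha => ⟨hA.normal.conj_mem a ha.1 x, fun c hc => ?_⟩
    rw [show ⁅x * a * x⁻¹, c⁆ = x * ⁅a, x⁻¹ * c * x⁆ * x⁻¹ by group]
    exact hx _ (ha.2 _ (hA.normal.conj_mem' c hc x))
  have hBAB : B ≤ Subgroup.normalizer (AB : Set G) := fun b hb => hABnorm b fun z hz => by
    rw [Subgroup.mem_centralizer_iff.1 (Subgroup.mem_inf.1 hz).2 b hb, mul_inv_cancel_right]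
    exact hz
  have hLAB : L ≤ Subgroup.normalizer (AB : Set G) := fun l hl => hABnorm l fun z hz => by
    rw [← Subgroup.mem_centralizer_iff.1 (hLZA hl) z (Subgroup.mem_inf.1 hz).1, mul_inv_cancel_right]
    exact hz
  have hAB2 : ⁅AB, AB⁆ ≤ Z₀ := Subgroup.commutator_le.2 fun a ha c hc => ha.2 c (hABA hc)
  have hcomm : ⁅B, AB⁆ ≤ ZB := by
    refine htest AB ?_ (hABA.trans hAQ) hBAB ?_ (hquadA AB hABA)
    · exact hAB2.trans ((inf_le_left.trans inf_le_right).trans
        (Subgroup.centralizer_le (SetLike.coe_subset_coe.2 hABA)))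
    · refine le_bot_iff.1 ((Subgroup.commutator_mono le_rfl hAB2).trans (le_of_eq ?_))
      rw [Subgroup.commutator_comm, Subgroup.commutator_eq_bot_iff_le_centralizer]
      exact inf_le_right
  have hABquad : ∀ b ∈ B, ∀ a ∈ AB, (dd b)^[2] a = 1 := fun b hb a ha => by
    have h1 : dd b a ∈ ZB := by rw [dd_eq]; exact hcomm (Subgroup.commutator_mem_commutator hb ha)
    rw [Function.iterate_succ_apply', Function.iterate_one]
    exact dd_eq_one_of_comm (Subgroup.mem_centralizer_iff.1 (Subgroup.mem_inf.1 h1).2 b hb)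
  have hdd2 : ∀ b ∈ B, ∀ a ∈ A, (dd b)^[2] a ∈ AB := by
    intro b hb a ha
    set w := (dd b)^[2] a with hw
    have hwB : w ∈ ZB := by
      rw [hw, Function.iterate_succ_apply', Function.iterate_one, dd_eq b (dd b a)]
      exact hBB (Subgroup.commutator_mem_commutator hb (hABm b hb a ha))
    have hwA : w ∈ A := dd_iter_mem b ha 2
    have hwC : ∀ e ∈ B, e * w = w * e := fun e he =>
      Subgroup.mem_centralizer_iff.1 (Subgroup.mem_inf.1 hwB).2 e he
    refine ⟨hwA, fun c hc => Subgroup.mem_inf.2 ⟨hAA w hwA c hc,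
      Subgroup.mem_centralizer_iff.2 fun b' hb' => ?_⟩⟩
    set e := dd b' c with he
    have heA : e ∈ A := dd_mem b' hc
    have h1 : b' * ⁅w, c⁆ * b'⁻¹ = ⁅w, e * c⁆ := by
      rw [show b' * ⁅w, c⁆ * b'⁻¹ = ⁅b' * w * b'⁻¹, b' * c * b'⁻¹⁆ by group, hwC b' hb',
        mul_inv_cancel_right, he]
      simp [dd]
    have h2 : ⁅w, e * c⁆ = ⁅w, c⁆ := by
      rw [show ⁅w, e * c⁆ = ⁅w, e⁆ * (e * ⁅w, c⁆ * e⁻¹) by group,
        hZAA _ (hAA w hwA c hc) e heA,
        commutatorElement_eq_one_iff_mul_comm.2 (hwC e (hABm b' hb' c hc)).symm, one_mul]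
    rw [h2, mul_inv_eq_iff_eq_mul] at h1
    exact h1
  -- a nontrivial factor for `b₀`
  obtain ⟨U, V, hUV, hUA, u, hu, huV⟩ := exists_factor hA hcon hb₀T
  have hUn := hUV.2.1
  have hVn := hUV.2.2.1
  have hab : ⁅U, U⁆ ≤ V := (chief_elementary hUV (hTp.to_le (hUA.trans hA.le))).1
  have hss := Semisimple.ss_of_pGroup hUV (N := CZ) (L := L) hquot (K := L ⊔ B) le_sup_left
    (sup_le hLCZ hBCZ)
  have hR : Semisimple.Inv U V (L ⊔ B) ((AB ⊓ U) ⊔ V) := by
    refine ⟨le_sup_right, sup_le inf_le_right hUV.1.le, fun k hk => mem_normalizer_of_conjS_eq ?_⟩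
    rw [Basic.conjS_sup, Basic.conjS_inf, conjS_eq_of_mem_normalizer (sup_le hLAB hBAB hk),
      conjS_eq_of_mem_normalizer (Subgroup.le_normalizer_of_normal (H := U) (K := ⊤) trivial : k ∈ _),
      conjS_eq_of_mem_normalizer (Subgroup.le_normalizer_of_normal (H := V) (K := ⊤) trivial : k ∈ _)]
  obtain ⟨R', hR', hcap, hsup⟩ := Semisimple.exists_complement hab hUV.1.le hss hR
  have hall : U ≤ layerKer U V b₀ hab 2 := by
    conv_lhs => rw [← hsup]
    refine sup_le (sup_le (fun a ha => ⟨(Subgroup.mem_inf.1 ha).2, ?_⟩) (le_layerKer _ _ _ hab hUV.1.le 2))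
      fun r hr => ⟨hR'.2.1 hr, hcap (Subgroup.mem_inf.2 ⟨?_, ?_⟩)⟩
    · rw [hABquad b₀ hb₀ a (Subgroup.mem_inf.1 ha).1]
      exact one_mem V
    · exact le_sup_left (b := V) (Subgroup.mem_inf.2
        ⟨hdd2 b₀ hb₀ r (hUA (hR'.2.1 hr)), dd_iter_mem b₀ (hR'.2.1 hr) 2⟩)
    · have hinv : ∀ x ∈ R', dd b₀ x ∈ R' := fun x hx => mul_mem
        ((Subgroup.mem_normalizer_iff.1 (hR'.2.2 (le_sup_right (a := L) hb₀)) x).1 hx) (inv_mem hx)
      rw [Function.iterate_succ_apply', Function.iterate_one]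
      exact hinv _ (hinv r hr)
  exact huV ((hbad b₀ hb₀ hb₀T U V hUV hUA fun w hw => (hall hw).2).1 u hu)

end

/-- If no element is good, every term of the K-sequence of `S` lies in `T`. -/
theorem terms_le {S : Sylow p G} {A : Subgroup G} (hA : Crit p A)
    (hno : ∀ g, ¬ Good p (S : Subgroup G) A g) :
    ∀ n : ℕ, kSeqEven ↥(S : Subgroup G) n ≤ (pCore p G).subgroupOf S ∧
      kSeqOdd ↥(S : Subgroup G) (n + 1) ≤ (pCore p G).subgroupOf S := by
  set f := (S : Subgroup G).subtype with hf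
  have hfi : Function.Injective f := (S : Subgroup G).subtype_injective
  set A₀ := A.subgroupOf (S : Subgroup G) with hA₀
  have hAS : A ≤ (S : Subgroup G) := hA.le.trans (Cores.pCore_le_sylow S)
  have hAm : A₀.map f = A := Subgroup.map_subgroupOf_eq_of_le hAS
  have hback : ∀ X : Subgroup ↥(S : Subgroup G), X.map f ≤ pCore p G →
      X ≤ (pCore p G).subgroupOf S := fun X h x hx => h ⟨x, hx, rfl⟩
  have heven : ∀ n, A₀ ≤ kSeqOdd ↥(S : Subgroup G) n →
      kSeqEven ↥(S : Subgroup G) n ≤ (pCore p G).subgroupOf S := fun n hn =>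
    sSup_le fun B hB => hback B
      (lo_le hA hno ((KInf.lo_map hfi).2 hB) (hAm ▸ Subgroup.map_mono hn) (Subgroup.map_subtype_le B))
  have hlo : ∀ n, A₀ ≤ kSeqEven ↥(S : Subgroup G) n := fun n =>
    le_sSup ((KInf.lo_map hfi).1 (by rw [hAm]; exact mem_lo hA hno (Subgroup.map_subtype_le _)))
  have hodd : ∀ n, A₀ ≤ kSeqOdd ↥(S : Subgroup G) n := by
    intro n
    induction n with
    | zero => exact le_top
    | succ n ih =>
      refine le_sSup ((KInf.up_map hfi).1 ?_)
      rw [hAm]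
      refine ⟨hA.two, ?_⟩
      have h1 : (kSeqEven ↥(S : Subgroup G) n).map f ≤ pCore p G :=
        (Subgroup.map_mono (heven n ih)).trans (Subgroup.map_comap_le _ _)
      rw [Subgroup.commutator_comm]
      exact (Subgroup.commutator_mono h1 le_rfl).trans hA.comm
  refine fun n => ⟨heven n (hodd n), sSup_le fun B hB => hback B ?_⟩
  exact up_le hA hno ((KInf.up_map hfi).2 hB) (hAm ▸ Subgroup.map_mono (hlo n))
    (Subgroup.map_subtype_le B)

/-- The theorem. -/
theorem exists_good.{u} {H : Type u} [Group H] [Finite H] (S : Sylow p H) {A : Subgroup H}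
    (hA : Crit p A)
    (hK : ¬ (inducedFunctor kInfLower (S : Subgroup H)).Normal ∨
      ¬ (inducedFunctor kInfUpper (S : Subgroup H)).Normal) :
    ∃ g, Good p (S : Subgroup H) A g := by
  by_contra hno
  simp only [not_exists] at hno
  have hT := terms_le hA hno
  set f := Subgroup.inclusion (Cores.pCore_le_sylow (p := p) S) with hf
  have hrange : f.range = (pCore p H).subgroupOf (S : Subgroup H) := by
    rw [hf]; exact Subgroup.inclusion_range _
  obtain ⟨hL, hU⟩ := KInf.kInf_map_hom f (Subgroup.inclusion_injective _) fun n => by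
    rw [hrange]; exact hT n
  have hcomp : (S : Subgroup H).subtype.comp f = (pCore p H).subtype := rfl
  have hTp : IsPGroup p (pCore p H) := Cores.pCore_isPGroup p
  rcases hK with h | h
  · refine h ?_
    rw [inducedFunctor, ← hL, Subgroup.map_map, hcomp]
    exact KFunctor.normal_induced KFunctor.isCharP_lower (pCore p H) hTp
  · refine h ?_
    rw [inducedFunctor, ← hU, Subgroup.map_map, hcomp]
    exact KFunctor.normal_induced KFunctor.isCharP_upper (pCore p H) hTp

end Cfsg.Agent.Lib.ConjFunctor.KTest
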