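import Cfsg.Agent.Lib.ConjFunctor.Reach

/-!
# From local control to global control

`sfAt_top`, `trAt_top`: a set of control maps that controls strong fusion (transfer) in the
normalizers of admissible fully normalized subgroups of a Sylow subgroup controls it in the group.
-/

set_option autoImplicit false
set_option linter.unusedSectionVars false

open Cfsg
open Cfsg.Agent.Lib.Fusion.Alperin
open Cfsg.Agent.Lib.ConjFunctor.Basic
open Cfsg.Agent.Lib.ConjFunctor.Reach

open scoped commutatorElement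

namespace Cfsg.Agent.Lib.ConjFunctor.Local

variable {G : Type*} [Group G] {p : ℕ}

/-- The control map `Q ↦ N(W Q)`. -/
def nF (W : Subgroup G → Subgroup G) : Subgroup G → Subgroup G :=
  fun Q => Subgroup.normalizer (W Q : Set G)

/-- The control maps of a set of conjugacy functors. -/
def nFam (𝓦 : Set (Subgroup G → Subgroup G)) : Set (Subgroup G → Subgroup G) := nF '' 𝓦

theorem equi_nFam {𝓦 : Set (Subgroup G → Subgroup G)}
    (h : ∀ W ∈ 𝓦, IsConjugacyFunctor p W) : Equi p (nFam 𝓦) := by
  rintro _ ⟨W, hW, rfl⟩ Q hQ g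
  simp only [nF, w_conj (h W hW) hQ, conjS_normalizer]

theorem mem_stepSet_nFam {𝓦 : Set (Subgroup G → Subgroup G)} {H T : Subgroup G} {x : G} :
    x ∈ stepSet (nFam 𝓦) H T ↔
      ∃ W ∈ 𝓦, x ∈ H ⊓ Subgroup.normalizer ((W T : Subgroup G) : Set G) := by
  constructor
  · rintro ⟨hx, _, ⟨W, hW, rfl⟩, hx'⟩; exact ⟨W, hW, hx, hx'⟩
  · rintro ⟨W, hW, hx, hx'⟩; exact ⟨hx, _, ⟨W, hW, rfl⟩, hx'⟩

theorem familySF_iff {𝓦 : Set (Subgroup G → Subgroup G)} {H : Subgroup G} :
    FamilyControlsStrongFusionIn p 𝓦 H ↔ ∃ T, IsSyl p T H ∧ SFAt (nFam 𝓦) H T := by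
  constructor
  · rintro ⟨T, h1, h2, h3, h⟩
    refine ⟨T, ⟨h1, h2, h3⟩, fun A x hx hA hxA => ?_⟩
    obtain ⟨n, s, h0, hs, hi, hl⟩ := h A x hx hA hxA
    exact Chain.of_seq s h0 (fun i => mem_stepSet_nFam.2 (hs i)) hi hl
  · rintro ⟨T, hT, h⟩
    refine ⟨T, hT.le, hT.isP, hT.nd, fun A x hx hA hxA => ?_⟩
    obtain ⟨n, s, h0, hs, hi, hl⟩ := (h A x hx hA hxA).exists_seq
    exact ⟨n, s, h0, fun i => mem_stepSet_nFam.1 (hs i), hi, hl⟩

theorem trGen_nFam {𝓦 : Set (Subgroup G → Subgroup G)} {H T : Subgroup G} :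
    trGen (nFam 𝓦) H T = ⨆ W ∈ 𝓦,
      T ⊓ ⁅H ⊓ Subgroup.normalizer ((W T : Subgroup G) : Set G),
        H ⊓ Subgroup.normalizer ((W T : Subgroup G) : Set G)⁆ := by
  rw [trGen, nFam, iSup_image]
  rfl

theorem familyTr_iff {𝓦 : Set (Subgroup G → Subgroup G)} {H : Subgroup G} :
    FamilyControlsTransferIn p 𝓦 H ↔ ∃ T, IsSyl p T H ∧ TrAt (nFam 𝓦) H T := by
  constructor
  · rintro ⟨T, h1, h2, h3, h⟩
    exact ⟨T, ⟨h1, h2, h3⟩, by rw [TrAt, trGen_nFam]; exact h⟩
  · rintro ⟨T, hT, h⟩
    exact ⟨T, hT.le, hT.isP, hT.nd, by rw [TrAt, trGen_nFam] at h; exact h⟩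

/-- The standing hypotheses of the local-to-global argument. `Adm` singles out the subgroups whose
normalizers are inspected. -/
structure Ambient (p : ℕ) (S : Subgroup G) (Φ : Set (Subgroup G → Subgroup G))
    (Adm : Subgroup G → Prop) : Prop where
  equi : Equi p Φ
  conjClosed : ∀ (T : Subgroup G) (g : G), T ≤ S →
    conjS g (S ⊓ Subgroup.normalizer (T : Set G)) ≤ S → Adm T → Adm (conjS g T)
  base : ∀ R : Subgroup G, R ≤ S → R ≠ ⊥ → IsFullyNormalized p S R →
    ∀ n ∈ Subgroup.normalizer (R : Set G), ∃ R' : Subgroup G, R ≤ R' ∧ R' ≤ S ∧ Adm R' ∧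
      ∃ m ∈ Subgroup.normalizer (R' : Set G), ∀ a ∈ R, m * a * m⁻¹ = n * a * n⁻¹
  piece : ∀ T : Subgroup G, T ≤ S → Adm T →
    IsSyl p (S ⊓ Subgroup.normalizer (T : Set G)) (Subgroup.normalizer (T : Set G)) →
    ∀ Q : Subgroup G, Q = S ⊓ Subgroup.normalizer (T : Set G) → Q ≠ S → ∀ F ∈ Φ,
      F Q ≤ F S ∨ ∃ U : Subgroup G, U ≤ Q ∧ Adm U ∧
        S ⊓ Subgroup.normalizer (Q : Set G) ≤ Subgroup.normalizer (U : Set G) ∧
        F Q ≤ Subgroup.normalizer (U : Set G)

variable [Finite G] [Fact p.Prime]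

/-- Local control of strong fusion gives global control. -/
theorem sfAt_top (S : Sylow p G) {Φ : Set (Subgroup G → Subgroup G)} {Adm : Subgroup G → Prop}
    (hyp : Ambient p (S : Subgroup G) Φ Adm)
    (hloc : ∀ T : Subgroup G, T ≤ S → Adm T →
      IsSyl p ((S : Subgroup G) ⊓ Subgroup.normalizer (T : Set G)) (Subgroup.normalizer (T : Set G)) →
      ∃ Q, IsSyl p Q (Subgroup.normalizer (T : Set G)) ∧
        SFAt Φ (Subgroup.normalizer (T : Set G)) Q) :
    SFAt Φ ⊤ (S : Subgroup G) := by
  set X := stepSet Φ (⊤ : Subgroup G) (S : Subgroup G) with hX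
  let C : ℕ → Prop := fun k => ∀ (A : Subgroup G) (g : G), A ≤ S → conjS g A ≤ S →
    k ≤ Nat.card A → Chain X (S : Subgroup G) (A : Set G) g
  let L : ℕ → Prop := fun k => ∀ T : Subgroup G, T ≤ S → Adm T →
    k ≤ Nat.card ((S : Subgroup G) ⊓ Subgroup.normalizer (T : Set G) : Subgroup G) →
    ∀ y ∈ Subgroup.normalizer (T : Set G), ∀ A : Set G,
      A ⊆ ((S : Subgroup G) ⊓ Subgroup.normalizer (T : Set G) : Subgroup G) →
      cimg y A ⊆ ((S : Subgroup G) ⊓ Subgroup.normalizer (T : Set G) : Subgroup G) →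
      Chain X (S : Subgroup G) A y
  have local_chain : ∀ T : Subgroup G, T ≤ S → Adm T →
      IsSyl p ((S : Subgroup G) ⊓ Subgroup.normalizer (T : Set G))
        (Subgroup.normalizer (T : Set G)) →
      ∀ Q : Subgroup G, Q = (S : Subgroup G) ⊓ Subgroup.normalizer (T : Set G) →
      SFAt Φ (Subgroup.normalizer (T : Set G)) Q := by
    intro T hT hA hfn Q hQ
    obtain ⟨Q₀, hQ₀, h₀⟩ := hloc T hT hA hfn
    exact h₀.of_isSyl hyp.equi hQ₀ (hQ ▸ hfn)
  have key : ∀ d k, Nat.card (S : Subgroup G) < k + d → C k ∧ L k := by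
    intro d
    induction d with
    | zero =>
      intro k hk
      refine ⟨fun A g hA _ hc => ?_, fun T _ _ hc => ?_⟩
      · have := Subgroup.card_le_of_le hA; omega
      · have := Subgroup.card_le_of_le
          (inf_le_left : (S : Subgroup G) ⊓ Subgroup.normalizer (T : Set G) ≤ S)
        omega
    | succ d ih =>
      intro k hk
      have Lp : L (k + 1) := (ih (k + 1) (by omega)).2
      have hC : C k := by
        intro A g hA hgA hk'
        suffices H : ∀ (A : Subgroup G) (g : G), FusionChain p (S : Subgroup G) A g →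
            k ≤ Nat.card A → Chain X (S : Subgroup G) (A : Set G) g from
          H A g (alperin S A g hA hgA) hk'
        intro A g hc
        induction hc with
        | @base A R n hR hAR hn =>
          intro hk'
          by_cases hRb : R = ⊥
          · refine .refl (SetLike.coe_subset_coe.2 (hAR.trans hR.1)) fun a ha => ?_
            have h1 : a ∈ R := hAR ha
            rw [hRb, Subgroup.mem_bot] at h1
            subst h1; simp
          obtain ⟨R', hRR', hR'S, hR'A, m, hm, he⟩ := hyp.base R hR.1 hRb hR.2.1 n hn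
          refine Chain.congr (g := m) ?_ fun a ha => he a (hAR ha)
          set N := Subgroup.normalizer (R' : Set G) with hN
          have hR'Q : R' ≤ (S : Subgroup G) ⊓ N := le_inf hR'S Subgroup.le_normalizer
          have hAQ : (A : Set G) ⊆ ((S : Subgroup G) ⊓ N : Subgroup G) :=
            SetLike.coe_subset_coe.2 ((hAR.trans hRR').trans hR'Q)
          have hmA : cimg m (A : Set G) ⊆ ((S : Subgroup G) ⊓ N : Subgroup G) :=
            cimg_subset_of_le (SetLike.coe_subset_coe.2 (hAR.trans hRR'))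
              ((conjS_eq_of_mem_normalizer hm).le.trans hR'Q)
          rcases eq_or_ne R' (S : Subgroup G) with hRS | hRS
          · have hfn : IsSyl p ((S : Subgroup G) ⊓ N) N := by
              have hSN : (S : Subgroup G) ≤ N := hRS.ge.trans Subgroup.le_normalizer
              rw [inf_eq_left.2 hSN]
              exact (isSyl_top S).mono hSN le_top
            have h1 := local_chain R' hR'S hR'A hfn _ rfl (A : Set G) m hm hAQ hmA
            refine h1.weaken ?_ inf_le_left
            rintro x ⟨-, F, hF, hx⟩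
            refine ⟨Subgroup.mem_top x, F, hF, ?_⟩
            rwa [inf_eq_left.2 (hRS.ge.trans Subgroup.le_normalizer : (S : Subgroup G) ≤ N)] at hx
          · refine Lp R' hR'S hR'A ?_ m hm _ hAQ hmA
            have h1 := lt_inf_normalizer S.2 (lt_of_le_of_ne hR'S hRS)
            have h2 : Nat.card R' < Nat.card ((S : Subgroup G) ⊓ N : Subgroup G) :=
              lt_of_le_of_ne (Subgroup.card_le_of_le h1.le)
                fun he' => h1.ne (Subgroup.eq_of_le_of_card_ge h1.le he'.ge)
            have := Subgroup.card_le_of_le (hAR.trans hRR')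
            show k + 1 ≤ Nat.card ((S : Subgroup G) ⊓ N : Subgroup G)
            omega
        | @comp A g₁ g₂ _ _ ih₁ ih₂ =>
          intro hk'
          exact (ih₁ hk').comp (ih₂ (by rwa [card_conjS]))
      refine ⟨hC, ?_⟩
      intro T hT hTA hk' y hy A hA hyA
      obtain ⟨g, hgT, hgN, hfn⟩ := exists_fullySyl S T hT
      set N₀ := (S : Subgroup G) ⊓ Subgroup.normalizer (T : Set G) with hN₀
      set Q := (S : Subgroup G) ⊓ Subgroup.normalizer (conjS g T : Set G) with hQdef
      have hgN₀Q : conjS g N₀ ≤ Q :=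
        le_inf hgN (by rw [← conjS_normalizer]; exact conjS_mono inf_le_right)
      have hkQ : k ≤ Nat.card Q := by
        have := Subgroup.card_le_of_le hgN₀Q
        rw [card_conjS] at this; omega
      have hTA' : Adm (conjS g T) := hyp.conjClosed T g hT hgN hTA
      have hy' : g * y * g⁻¹ ∈ Subgroup.normalizer (conjS g T : Set G) := mem_normalizer_conjS hy
      have hgyg : cimg (g * y * g⁻¹) (cimg g A) = cimg g (cimg y A) := by
        rw [← cimg_mul, show g * y * g⁻¹ * g = g * y by group, cimg_mul]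
      have h1 := local_chain _ hgT hTA' hfn Q rfl (cimg g A) (g * y * g⁻¹) hy'
        (cimg_subset_of_le hA hgN₀Q) (by rw [hgyg]; exact cimg_subset_of_le hyA hgN₀Q)
      have h2 : Chain X (S : Subgroup G) (cimg g A) (g * y * g⁻¹) := by
        refine h1.bind inf_le_left fun x hx B hB hxB => ?_
        obtain ⟨-, F, hF, hxF⟩ := hx
        rcases eq_or_ne Q (S : Subgroup G) with hQS | hQS
        · exact Chain.single ⟨Subgroup.mem_top x, F, hF, hQS ▸ hxF⟩
            (hB.trans (SetLike.coe_subset_coe.2 inf_le_left))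
            (hxB.trans (SetLike.coe_subset_coe.2 inf_le_left))
        rcases hyp.piece _ hgT hTA' hfn Q rfl hQS F hF with hle | ⟨U, hUQ, hUA, hUN, hle⟩
        · exact Chain.single ⟨Subgroup.mem_top x, F, hF, hle hxF⟩
            (hB.trans (SetLike.coe_subset_coe.2 inf_le_left))
            (hxB.trans (SetLike.coe_subset_coe.2 inf_le_left))
        · have hlt := lt_inf_normalizer S.2 (lt_of_le_of_ne (inf_le_left : Q ≤ _) hQS)
          have hQU : Q ≤ (S : Subgroup G) ⊓ Subgroup.normalizer (U : Set G) :=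
            le_inf inf_le_left ((le_inf inf_le_left Subgroup.le_normalizer).trans hUN)
          refine Lp U (hUQ.trans inf_le_left) hUA ?_ x (hle hxF) B
            (hB.trans (SetLike.coe_subset_coe.2 hQU)) (hxB.trans (SetLike.coe_subset_coe.2 hQU))
          have h3 : Nat.card Q <
              Nat.card ((S : Subgroup G) ⊓ Subgroup.normalizer (Q : Set G) : Subgroup G) :=
            lt_of_le_of_ne (Subgroup.card_le_of_le hlt.le)
              fun he' => hlt.ne (Subgroup.eq_of_le_of_card_ge hlt.le he'.ge)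
          have h4 := Subgroup.card_le_of_le (le_inf inf_le_left hUN :
            (S : Subgroup G) ⊓ Subgroup.normalizer (Q : Set G) ≤
              (S : Subgroup G) ⊓ Subgroup.normalizer (U : Set G))
          omega
      have c1 : Chain X (S : Subgroup G) A g :=
        (hC N₀ g inf_le_left hgN hk').mono hA
      have c3 : Chain X (S : Subgroup G) (cimg (g * y * g⁻¹) (cimg g A)) g⁻¹ := by
        have := hC (conjS g N₀) g⁻¹ hgN (by rw [conjS_inv_conjS]; exact inf_le_left)
          (by rwa [card_conjS])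
        rw [hgyg]
        exact this.mono (cimg_mono hyA)
      have h4 : Chain X (S : Subgroup G) A (g * y * g⁻¹ * g) := c1.comp h2
      have h5 : Chain X (S : Subgroup G) A (g⁻¹ * (g * y * g⁻¹ * g)) := by
        refine h4.comp ?_
        rw [← cimg_mul] at c3
        exact c3
      simpa [mul_assoc] using h5
  intro A h _ hA hhA
  have hle : Subgroup.closure A ≤ S := (Subgroup.closure_le _).2 hA
  have hle' : conjS h (Subgroup.closure A) ≤ S := by
    rw [conjS, MonoidHom.map_closure]; exact (Subgroup.closure_le _).2 hhA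
  exact ((key (Nat.card (S : Subgroup G) + 1) 0 (by omega)).1 _ h hle hle' (Nat.zero_le _)).mono
    Subgroup.subset_closure

/-- Local control of transfer gives global control. -/
theorem trAt_top (S : Sylow p G) {Φ : Set (Subgroup G → Subgroup G)} {Adm : Subgroup G → Prop}
    (hyp : Ambient p (S : Subgroup G) Φ Adm)
    (hloc : ∀ T : Subgroup G, T ≤ S → Adm T →
      IsSyl p ((S : Subgroup G) ⊓ Subgroup.normalizer (T : Set G)) (Subgroup.normalizer (T : Set G)) →
      ∃ Q, IsSyl p Q (Subgroup.normalizer (T : Set G)) ∧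
        TrAt Φ (Subgroup.normalizer (T : Set G)) Q) :
    TrAt Φ ⊤ (S : Subgroup G) := by
  refine trAt_of_le ?_
  set M := trGen Φ (⊤ : Subgroup G) (S : Subgroup G) with hM
  let C : ℕ → Prop := fun k => ∀ (A : Subgroup G) (g : G), A ≤ S → conjS g A ≤ S →
    k ≤ Nat.card A → ∀ a ∈ A, g * a * g⁻¹ * a⁻¹ ∈ M
  let L : ℕ → Prop := fun k => ∀ T : Subgroup G, T ≤ S → Adm T →
    k ≤ Nat.card ((S : Subgroup G) ⊓ Subgroup.normalizer (T : Set G) : Subgroup G) →
    (S : Subgroup G) ⊓ Subgroup.normalizer (T : Set G) ⊓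
      ⁅Subgroup.normalizer (T : Set G), Subgroup.normalizer (T : Set G)⁆ ≤ M
  have local_eq : ∀ T : Subgroup G, T ≤ S → Adm T →
      IsSyl p ((S : Subgroup G) ⊓ Subgroup.normalizer (T : Set G))
        (Subgroup.normalizer (T : Set G)) →
      ∀ Q : Subgroup G, Q = (S : Subgroup G) ⊓ Subgroup.normalizer (T : Set G) →
      TrAt Φ (Subgroup.normalizer (T : Set G)) Q := by
    intro T hT hA hfn Q hQ
    obtain ⟨Q₀, hQ₀, h₀⟩ := hloc T hT hA hfn
    exact h₀.of_isSyl hyp.equi hQ₀ (hQ ▸ hfn)
  have topLe : ∀ T : Subgroup G, T ≤ S → Adm T →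
      IsSyl p ((S : Subgroup G) ⊓ Subgroup.normalizer (T : Set G))
        (Subgroup.normalizer (T : Set G)) →
      (S : Subgroup G) ⊓ Subgroup.normalizer (T : Set G) = (S : Subgroup G) →
      (S : Subgroup G) ⊓ ⁅Subgroup.normalizer (T : Set G), Subgroup.normalizer (T : Set G)⁆ ≤ M := by
    intro T hT hA hfn he
    rw [show (S : Subgroup G) ⊓ ⁅Subgroup.normalizer (T : Set G), Subgroup.normalizer (T : Set G)⁆ =
      trGen Φ (Subgroup.normalizer (T : Set G)) (S : Subgroup G) from
      local_eq T hT hA hfn _ he.symm]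
    exact iSup₂_mono fun F _ => inf_le_inf_left _
      (Subgroup.commutator_mono (inf_le_inf_right _ le_top) (inf_le_inf_right _ le_top))
  have key : ∀ d k, Nat.card (S : Subgroup G) < k + d → C k ∧ L k := by
    intro d
    induction d with
    | zero =>
      intro k hk
      refine ⟨fun A g hA _ hc => ?_, fun T _ _ hc => ?_⟩
      · have := Subgroup.card_le_of_le hA; omega
      · have := Subgroup.card_le_of_le
          (inf_le_left : (S : Subgroup G) ⊓ Subgroup.normalizer (T : Set G) ≤ S)
        omega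
    | succ d ih =>
      intro k hk
      have Lp : L (k + 1) := (ih (k + 1) (by omega)).2
      have hC : C k := by
        intro A g hA hgA hk'
        suffices H : ∀ (A : Subgroup G) (g : G), FusionChain p (S : Subgroup G) A g →
            k ≤ Nat.card A → ∀ a ∈ A, g * a * g⁻¹ * a⁻¹ ∈ M from
          H A g (alperin S A g hA hgA) hk'
        intro A g hc
        induction hc with
        | @base A R n hR hAR hn =>
          intro hk' a ha
          by_cases hRb : R = ⊥
          · have h1 : a ∈ R := hAR ha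
            rw [hRb, Subgroup.mem_bot] at h1
            subst h1; simp
          obtain ⟨R', hRR', hR'S, hR'A, m, hm, he⟩ := hyp.base R hR.1 hRb hR.2.1 n hn
          rw [← he a (hAR ha)]
          set N := Subgroup.normalizer (R' : Set G) with hN
          have hR'Q : R' ≤ (S : Subgroup G) ⊓ N := le_inf hR'S Subgroup.le_normalizer
          have haR : a ∈ R' := hRR' (hAR ha)
          have hmem : m * a * m⁻¹ * a⁻¹ ∈ (S : Subgroup G) ⊓ N ⊓ ⁅N, N⁆ := by
            refine Subgroup.mem_inf.2 ⟨mul_mem (hR'Q ?_) (inv_mem (hR'Q haR)),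
              Subgroup.commutator_mem_commutator hm (Subgroup.le_normalizer haR)⟩
            exact (Subgroup.mem_normalizer_iff.1 hm a).1 haR
          rcases eq_or_ne R' (S : Subgroup G) with hRS | hRS
          · have hSN : (S : Subgroup G) ≤ N := hRS.ge.trans Subgroup.le_normalizer
            have hfn : IsSyl p ((S : Subgroup G) ⊓ N) N := by
              rw [inf_eq_left.2 hSN]
              exact (isSyl_top S).mono hSN le_top
            exact topLe R' hR'S hR'A hfn (inf_eq_left.2 hSN) ⟨hmem.1.1, hmem.2⟩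
          · refine Lp R' hR'S hR'A ?_ hmem
            have h1 := lt_inf_normalizer S.2 (lt_of_le_of_ne hR'S hRS)
            have h2 : Nat.card R' < Nat.card ((S : Subgroup G) ⊓ N : Subgroup G) :=
              lt_of_le_of_ne (Subgroup.card_le_of_le h1.le)
                fun he' => h1.ne (Subgroup.eq_of_le_of_card_ge h1.le he'.ge)
            have := Subgroup.card_le_of_le (hAR.trans hRR')
            show k + 1 ≤ Nat.card ((S : Subgroup G) ⊓ N : Subgroup G)
            omega
        | @comp A g₁ g₂ _ _ ih₁ ih₂ =>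
          intro hk' a ha
          have := mul_mem (ih₂ (by rwa [card_conjS]) _ (conj_mem_conjS (g := g₁) ha)) (ih₁ hk' a ha)
          rwa [show g₂ * (g₁ * a * g₁⁻¹) * g₂⁻¹ * (g₁ * a * g₁⁻¹)⁻¹ * (g₁ * a * g₁⁻¹ * a⁻¹) =
            g₂ * g₁ * a * (g₂ * g₁)⁻¹ * a⁻¹ by group] at this
      refine ⟨hC, ?_⟩
      intro T hT hTA hk' z hz
      obtain ⟨g, hgT, hgN, hfn⟩ := exists_fullySyl S T hT
      set N₀ := (S : Subgroup G) ⊓ Subgroup.normalizer (T : Set G) with hN₀
      set N := Subgroup.normalizer (conjS g T : Set G) with hNdef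
      set Q := (S : Subgroup G) ⊓ N with hQdef
      have hgN₀Q : conjS g N₀ ≤ Q :=
        le_inf hgN (by rw [hNdef, ← conjS_normalizer]; exact conjS_mono inf_le_right)
      have hkQ : k ≤ Nat.card Q := by
        have := Subgroup.card_le_of_le hgN₀Q
        rw [card_conjS] at this; omega
      have hTA' : Adm (conjS g T) := hyp.conjClosed T g hT hgN hTA
      have hQM : Q ⊓ ⁅N, N⁆ ≤ M := by
        rcases eq_or_ne Q (S : Subgroup G) with hQS | hQS
        · rw [hQS]; exact topLe _ hgT hTA' hfn hQS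
        rw [show Q ⊓ ⁅N, N⁆ = trGen Φ N Q from local_eq _ hgT hTA' hfn Q rfl]
        refine iSup₂_le fun F hF => ?_
        rcases hyp.piece _ hgT hTA' hfn Q rfl hQS F hF with hle | ⟨U, hUQ, hUA, hUN, hle⟩
        · refine le_trans ?_ (le_trGen hF)
          exact inf_le_inf inf_le_left (Subgroup.commutator_mono (inf_le_inf le_top hle)
            (inf_le_inf le_top hle))
        · have hlt := lt_inf_normalizer S.2 (lt_of_le_of_ne (inf_le_left : Q ≤ _) hQS)
          have hQU : Q ≤ (S : Subgroup G) ⊓ Subgroup.normalizer (U : Set G) :=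
            le_inf inf_le_left ((le_inf inf_le_left Subgroup.le_normalizer).trans hUN)
          refine le_trans ?_ (Lp U (hUQ.trans inf_le_left) hUA ?_)
          · exact inf_le_inf hQU (Subgroup.commutator_mono (inf_le_right.trans hle)
              (inf_le_right.trans hle))
          have h3 : Nat.card Q <
              Nat.card ((S : Subgroup G) ⊓ Subgroup.normalizer (Q : Set G) : Subgroup G) :=
            lt_of_le_of_ne (Subgroup.card_le_of_le hlt.le)
              fun he' => hlt.ne (Subgroup.eq_of_le_of_card_ge hlt.le he'.ge)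
          have h4 := Subgroup.card_le_of_le (le_inf inf_le_left hUN :
            (S : Subgroup G) ⊓ Subgroup.normalizer (Q : Set G) ≤
              (S : Subgroup G) ⊓ Subgroup.normalizer (U : Set G))
          omega
      have h1 : g * z * g⁻¹ ∈ Q ⊓ ⁅N, N⁆ := by
        refine ⟨hgN₀Q (conj_mem_conjS hz.1), ?_⟩
        have h2 := conj_mem_conjS (g := g) hz.2
        rwa [conjS_commutator, conjS_normalizer] at h2
      have := mul_mem (inv_mem (hC N₀ g inf_le_left hgN hk' z hz.1)) (hQM h1)
      rwa [show (g * z * g⁻¹ * z⁻¹)⁻¹ * (g * z * g⁻¹) = z by group] at this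
  have hfoc : (S : Subgroup G) ⊓ ⁅(⊤ : Subgroup G), ⊤⁆ =
      Subgroup.focalSubgroup (S : Subgroup G) := by
    rw [← commutator_def, inf_comm]
    exact Subgroup.commutator_inf_eq_focalSubgroup S
  rw [hfoc, Subgroup.focalSubgroup_def, Subgroup.closure_le]
  rintro _ ⟨hmem, x, hx, u, rfl⟩
  have hux : conjS u (Subgroup.zpowers x) ≤ S := by
    rw [conjS, MonoidHom.map_zpowers]
    refine Subgroup.zpowers_le.2 ?_
    have := mul_mem (inv_mem hmem) hx
    rwa [show ⁅x, u⁆⁻¹ * x = u * x * u⁻¹ by group] at this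
  have h := (key (Nat.card (S : Subgroup G) + 1) 0 (by omega)).1 (Subgroup.zpowers x) u
    (Subgroup.zpowers_le.2 hx) hux (Nat.zero_le _) x (Subgroup.mem_zpowers x)
  have := inv_mem h
  rwa [show (u * x * u⁻¹ * x⁻¹)⁻¹ = ⁅x, u⁆ by group] at this

end Cfsg.Agent.Lib.ConjFunctor.Local
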