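import Cfsg.Agent.Lib.ConjFunctor.Local

/-!
# The two standard instances of the local-to-global argument

* all nontrivial subgroups, with normalizers of conjugacy functor values;
* subgroups containing `Z(S)`, with `N(W Q)` and `C(V Q)` for `W ⊇ Z` and a central functor `V`.
-/

set_option autoImplicit false
set_option linter.unusedSectionVars false

open Cfsg
open Cfsg.Agent.Lib.Fusion.Alperin
open Cfsg.Agent.Lib.ConjFunctor.Basic
open Cfsg.Agent.Lib.ConjFunctor.Reach
open Cfsg.Agent.Lib.ConjFunctor.Local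

namespace Cfsg.Agent.Lib.ConjFunctor.LocalInst

variable {G : Type*} [Group G] [Finite G] {p : ℕ} [Fact p.Prime]

/-- The standard instance. -/
theorem ambient_nFam (S : Sylow p G) {𝓦 : Set (Subgroup G → Subgroup G)}
    (h𝓦 : ∀ W ∈ 𝓦, IsConjugacyFunctor p W) :
    Ambient p (S : Subgroup G) (nFam 𝓦) (fun T => T ≠ ⊥) where
  equi := equi_nFam h𝓦
  conjClosed T g _ _ h := fun h' => h (conjS_eq_bot_iff.1 h')
  base R hR hR1 _ n hn := ⟨R, le_rfl, hR, hR1, n, hn, fun _ _ => rfl⟩
  piece T hT hT1 _ Q hQ _ F hF := by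
    obtain ⟨W, hW, rfl⟩ := hF
    have hQp : IsPGroup p Q := S.2.to_le (hQ ▸ inf_le_left)
    have hQ1 : Q ≠ ⊥ := fun h => hT1 (le_bot_iff.1 (h ▸ hQ ▸ le_inf hT Subgroup.le_normalizer))
    exact Or.inr ⟨W Q, w_le (h𝓦 W hW) hQp, w_ne_bot (h𝓦 W hW) hQp hQ1,
      inf_le_right.trans (normalizer_le_normalizer_w (h𝓦 W hW) hQp), le_rfl⟩

/-- The centre of a subgroup, inside the group. -/
def zOf (H : Subgroup G) : Subgroup G := H ⊓ Subgroup.centralizer (H : Set G)

theorem zOf_conjS (g : G) (H : Subgroup G) : zOf (conjS g H) = conjS g (zOf H) := by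
  rw [zOf, zOf, conjS_inf, conjS_centralizer]

theorem zOf_isPGroup (S : Sylow p G) : IsPGroup p (zOf (S : Subgroup G)) := S.2.to_le inf_le_left

/-- `T` contains `Z(S)` after every embedding of `N_S(T)` into `S`. -/
def ZAdm (S T : Subgroup G) : Prop :=
  ∀ g : G, conjS g (S ⊓ Subgroup.normalizer (T : Set G)) ≤ S → zOf S ≤ conjS g T

theorem ZAdm.le {S T : Subgroup G} (h : ZAdm S T) : zOf S ≤ T := by
  have := h 1 (by rw [conjS_one]; exact inf_le_left)
  rwa [conjS_one] at this

/-- The control maps `N(W Q)` and `C(V Q)`. -/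
def pairFam (W V : Subgroup G → Subgroup G) : Set (Subgroup G → Subgroup G) :=
  {nF W, fun Q => Subgroup.centralizer (V Q : Set G)}

theorem ambient_pair (S : Sylow p G) (hS : (S : Subgroup G) ≠ ⊥) {W V : Subgroup G → Subgroup G}
    (hW : IsConjugacyFunctor p W) (hV : IsConjugacyFunctor p V)
    (hWZ : ∀ H : Subgroup G, IsPGroup p H → zOf H ≤ W H)
    (hVmono : ∀ H K : Subgroup G, IsPGroup p H → IsPGroup p K → H ≠ ⊥ → K ≠ ⊥ →
      zOf H ≤ zOf K → V H ≤ V K) :
    Ambient p (S : Subgroup G) (pairFam W V) (ZAdm (S : Subgroup G)) where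
  equi F hF Q hQ g := by
    rcases hF with rfl | rfl
    · simp only [nF, w_conj hW hQ, conjS_normalizer]
    · simp only [w_conj hV hQ, conjS_centralizer]
  conjClosed T g hT hgN h k hk := by
    rw [← conjS_mul]
    refine h (k * g) ?_
    rw [conjS_mul]
    refine (conjS_mono (le_inf hgN ?_)).trans hk
    rw [← conjS_normalizer]
    exact conjS_mono inf_le_right
  base R hR _ hfn n hn := by
    set C := Subgroup.centralizer (R : Set G) with hC
    set D := (S : Subgroup G) ⊓ C with hD
    set N := Subgroup.normalizer (R : Set G) with hN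
    have hCN : C ≤ N := Subgroup.centralizer_le_normalizer (R : Set G)
    have hNC : N ≤ Subgroup.normalizer (C : Set G) := fun x hx =>
      mem_normalizer_of_conjS_eq (by rw [conjS_centralizer, conjS_eq_of_mem_normalizer hx])
    have hT := (isFullyNormalized_iff S.2).1 hfn
    have hDT : (S : Subgroup G) ⊓ N ⊓ C = D := by
      rw [inf_assoc, inf_eq_right.2 hCN]
    have hDC : IsSyl p D C := by
      have := hT.inf_normal hNC
      rwa [inf_eq_right.2 hCN, hDT] at this
    obtain ⟨c, hc, m, hm, rfl⟩ := hT.frattini hCN hNC hn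
    rw [hDT] at hm
    refine ⟨R ⊔ D, le_sup_left, sup_le hR inf_le_left, ?_, m, ?_, ?_⟩
    · intro g hg
      have hgD : conjS g D ≤ S :=
        (conjS_mono (le_inf inf_le_left (le_sup_right.trans Subgroup.le_normalizer))).trans hg
      have hgR : conjS g R ≤ S :=
        (conjS_mono (le_inf hR (le_sup_left.trans Subgroup.le_normalizer))).trans hg
      have h1 := hDC.conj g
      rw [conjS_centralizer] at h1
      have h2 : (S : Subgroup G) ⊓ Subgroup.centralizer (conjS g R : Set G) = conjS g D :=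
        h1.eq_of_le (S.2.to_le inf_le_left) inf_le_right (le_inf hgD h1.le)
      refine le_trans ?_ (conjS_mono le_sup_right)
      rw [← h2]
      exact le_inf inf_le_left (inf_le_right.trans (Subgroup.centralizer_le hgR))
    · apply mem_normalizer_of_conjS_eq
      rw [conjS_sup, conjS_eq_of_mem_normalizer hm.1, conjS_eq_of_mem_normalizer hm.2]
    · intro a ha
      have h1 := Subgroup.mem_centralizer_iff.1 hc _ ((Subgroup.mem_normalizer_iff.1 hm.1 a).1 ha)
      calc m * a * m⁻¹ = (m * a * m⁻¹) * c * c⁻¹ := by group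
        _ = c * (m * a * m⁻¹) * c⁻¹ := by rw [h1]
        _ = c * m * a * (c * m)⁻¹ := by group
  piece T hT hTA hfn Q hQ hQS F hF := by
    have hQp : IsPGroup p Q := S.2.to_le (hQ ▸ inf_le_left)
    have hQle : Q ≤ S := hQ ▸ inf_le_left
    have hZQ : zOf (S : Subgroup G) ≤ Q :=
      hTA.le.trans (hQ ▸ le_inf hT Subgroup.le_normalizer)
    have hZ1 : zOf (S : Subgroup G) ≠ ⊥ := by
      intro h
      have : Nontrivial (S : Subgroup G) := (Subgroup.nontrivial_iff_ne_bot _).2 hS
      have := S.2.center_nontrivial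
      obtain ⟨⟨z, hz⟩, hz1⟩ := exists_ne (1 : Subgroup.center (S : Subgroup G))
      apply hz1
      have hmem : (z : G) ∈ zOf (S : Subgroup G) :=
        ⟨z.2, Subgroup.mem_centralizer_iff.2 fun y hy =>
          congrArg Subtype.val (Subgroup.mem_center_iff.1 hz ⟨y, hy⟩)⟩
      rw [h, Subgroup.mem_bot] at hmem
      exact Subtype.ext (Subtype.ext hmem)
    rcases hF with rfl | rfl
    · refine Or.inr ⟨W Q, w_le hW hQp, fun g hg => ?_,
        inf_le_right.trans (normalizer_le_normalizer_w hW hQp), le_rfl⟩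
      have hgQ : conjS g Q ≤ S :=
        (conjS_mono (le_inf hQle (le_normalizer_w hW hQp))).trans hg
      have hgT : conjS g T ≤ conjS g Q := conjS_mono (hQ ▸ le_inf hT Subgroup.le_normalizer)
      have h1 : IsSyl p (conjS g Q) (Subgroup.normalizer (conjS g T : Set G)) := by
        rw [← conjS_normalizer]
        exact (show IsSyl p Q _ from hQ ▸ hfn).conj g
      have h2 : (S : Subgroup G) ⊓ Subgroup.normalizer (conjS g T : Set G) = conjS g Q :=
        h1.eq_of_le (S.2.to_le inf_le_left) inf_le_right (le_inf hgQ h1.le)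
      have h3 : zOf (S : Subgroup G) ≤ zOf (conjS g Q) := by
        refine le_inf ?_ (inf_le_right.trans (Subgroup.centralizer_le hgQ))
        rw [← h2]
        exact le_inf inf_le_left ((inf_le_right.trans
          (Subgroup.centralizer_le (hgT.trans hgQ))).trans
          (Subgroup.centralizer_le_normalizer _))
      exact h3.trans ((hWZ _ (hQp.map _)).trans (w_conj hW hQp g).le)
    · refine Or.inl (Subgroup.centralizer_le (hVmono _ _ S.2 hQp hS ?_ ?_))
      · exact fun h => hZ1 (le_bot_iff.1 (h ▸ hZQ))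
      · exact le_inf hZQ (inf_le_right.trans (Subgroup.centralizer_le hQle))

end Cfsg.Agent.Lib.ConjFunctor.LocalInst
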