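import Cfsg.Agent.Lib.ConjFunctor.PNilpotent
import Cfsg.Agent.Lib.ConjFunctor.DegreeAbelian
import Cfsg.Agent.Lib.ConjFunctor.CritExist

/-!
# A minimal counterexample has no element of small degree

In a minimal counterexample `X` the quotient by `P = O_p(X)` is `A ⋊ T` with `A` an abelian
`p'`-group on which `T` acts irreducibly, so an element of `T` outside `P` acts with the full
degree on every chief factor below `P` that it moves.
-/

set_option autoImplicit false
set_option linter.unusedSectionVars false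
set_option linter.style.haveILetI false

open Cfsg
open Cfsg.Agent.Lib.Transfer.PResidual
open Cfsg.Agent.Lib.Fusion.Alperin
open Cfsg.Agent.Lib.ConjFunctor.Basic

open scoped commutatorElement

namespace Cfsg.Agent.Lib.ConjFunctor.PNilDegree

universe u

variable {p : ℕ} [hp : Fact p.Prime] {X : Type u} [Group X] [Finite X]

/-- The top of a minimal counterexample is abelian. -/
theorem comm_pResidual {Y : Type u} [Group Y] [Finite Y] (hq : HasNormalPComplement p Y)
    (T : Sylow p Y) (hT : IsCoatom (T : Subgroup Y)) :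
    ∀ a ∈ pResidual p Y, ∀ b ∈ pResidual p Y, a * b = b * a := by
  set M := pResidual p Y with hM
  have hMp : ¬ p ∣ Nat.card M := hasNormalPComplement_iff_not_dvd.1 hq
  rcases eq_or_ne M ⊥ with h0 | h0
  · intro a ha b _; rw [h0, Subgroup.mem_bot] at ha; simp [ha]
  have hMT : ∀ N : Subgroup Y, N.Normal → N ≤ M → N ≠ ⊥ → N = M := by
    intro N hN hNM hN0
    have hlt : (T : Subgroup Y) < (T : Subgroup Y) ⊔ N := by
      refine lt_of_le_of_ne le_sup_left fun h => hN0 ?_
      exact le_bot_iff.1 ((disjoint_of_not_dvd hMp T.2) hNM (le_sup_right.trans h.ge))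
    have htop := hT.2 _ hlt
    refine le_antisymm hNM fun x hx => ?_
    have hx' : x ∈ ((((T : Subgroup Y) ⊔ N : Subgroup Y)) : Set Y) := by rw [htop]; trivial
    rw [Subgroup.mul_normal (T : Subgroup Y) N] at hx'
    obtain ⟨t, ht, n, hn, rfl⟩ := hx'
    have htM : t ∈ M := by simpa using M.mul_mem hx (M.inv_mem (hNM hn))
    have ht1 := Subgroup.disjoint_def.1 (disjoint_of_not_dvd hMp T.2) htM ht
    show t * n ∈ N
    rw [ht1, one_mul]
    exact hn
  obtain ⟨q, hq, hqd⟩ := Nat.exists_prime_and_dvd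
    (fun h => h0 ((Subgroup.card_eq_one).1 h) : Nat.card M ≠ 1)
  haveI := Fact.mk hq
  obtain ⟨R, hR⟩ := exists_isSyl (p := q) M
  -- a Sylow subgroup of `Y` normalizing some Sylow `q`-subgroup of `M`
  have hfr : ∀ y : Y, ∃ c ∈ M, ∃ m ∈ Subgroup.normalizer (R : Set Y), y = c * m := fun y => by
    have h2 : IsSyl q (conjS y R) M := by
      have := hR.conj y
      rwa [conjS_eq_of_mem_normalizer (Subgroup.le_normalizer_of_normal (H := M) (K := ⊤) trivial)]
        at this
    obtain ⟨c, hc, he⟩ := h2.exists_conj hR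
    exact ⟨c⁻¹, inv_mem hc, c * y, mem_normalizer_of_conjS_eq ((conjS_mul c y _).trans he), by simp⟩
  obtain ⟨T₁, hT₁⟩ : ∃ T₁ : Sylow p Y, (T₁ : Subgroup Y) ≤ Subgroup.normalizer (R : Set Y) := by
    obtain ⟨U, hU⟩ := exists_isSyl (p := p) (Subgroup.normalizer (R : Set Y))
    refine ⟨hU.isP.toSylow fun hd => ?_, hU.le⟩
    rw [← Subgroup.relIndex_mul_index hU.le] at hd
    rcases hp.out.dvd_mul.1 hd with hd | hd
    · exact hU.nd hd
    · refine hMp (hd.trans ?_)
      set N := Subgroup.normalizer (R : Set Y) with hN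
      have h2 : N ⊔ M = ⊤ := top_le_iff.1 fun y _ => by
        obtain ⟨c, hc, m, hm, rfl⟩ := hfr y
        exact mul_mem (le_sup_right (a := N) hc) (le_sup_left (b := M) hm)
      have h3 : M.relIndex N = M.index := by
        rw [← Subgroup.relIndex_sup_right (H := N) (K := M), h2, Subgroup.relIndex_top_right]
      have h4 := Subgroup.relIndex_mul_index (inf_le_right : M ⊓ N ≤ N)
      have h5 := Subgroup.relIndex_mul_index (inf_le_left : M ⊓ N ≤ M)
      rw [Subgroup.inf_relIndex_right, h3] at h4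
      rw [Subgroup.inf_relIndex_left, ← h4] at h5
      have h6 : N.relIndex M = N.index := Nat.eq_of_mul_eq_mul_right
        (Nat.pos_of_ne_zero Subgroup.index_ne_zero_of_finite) (h5.trans (mul_comm _ _))
      rw [← h6]
      exact Subgroup.relIndex_dvd_card _ _
  obtain ⟨g, hg⟩ := MulAction.exists_smul_eq Y T₁ T
  set R' := conjS g R with hR'
  have hTR : (T : Subgroup Y) ≤ Subgroup.normalizer (R' : Set Y) := by
    rw [← hg, hR', ← conjS_normalizer]
    exact conjS_mono hT₁
  have hR'M : R' ≤ M := (conjS_mono hR.le).trans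
    (conjS_eq_of_mem_normalizer (Subgroup.le_normalizer_of_normal (H := M) (K := ⊤) trivial)).le
  have hR'q : IsPGroup q R' := isPGroup_conjS hR.isP
  have hR0 : R' ≠ ⊥ := fun h => by
    have h1 : R = ⊥ := conjS_eq_bot_iff.1 h
    exact hR.nd (by rw [h1, Subgroup.relIndex_bot_left]; exact hqd)
  have hn : R'.Normal := by
    refine Subgroup.normalizer_eq_top_iff.1 (hT.2 _ (lt_of_le_of_ne hTR fun he => hR0 ?_))
    exact le_bot_iff.1 ((disjoint_of_not_dvd hMp T.2) hR'M (Subgroup.le_normalizer.trans he.ge))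
  have hM' := hMT R' hn hR'M hR0
  haveI : Nontrivial R' := (Subgroup.nontrivial_iff_ne_bot _).2 hR0
  haveI := hn
  haveI := Cores.normal_map_subtype R' (Subgroup.center R')
  have hZ := hMT _ this ((Subgroup.map_subtype_le _).trans hR'M) fun h =>
    (Subgroup.nontrivial_iff_ne_bot _).1 hR'q.center_nontrivial
      ((Subgroup.map_eq_bot_iff_of_injective _ R'.subtype_injective).1 h)
  intro a ha b hb
  rw [← hZ] at ha
  rw [← hM'] at hb
  obtain ⟨z, hz, rfl⟩ := ha
  exact congrArg Subtype.val (Subgroup.mem_center_iff.1 hz ⟨b, hb⟩).symm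

theorem false_of_degree {W : ∀ (Q : Type u) [Group Q], Subgroup Q}
    (hm : PNilpotent.MinCex p W X) (S : Sylow p X) {g : X} (hg : g ∈ (S : Subgroup X))
    (hgP : g ∉ pCore p X) {U V : Subgroup X} (hUV : IsChiefFactor U V) (hUP : U ≤ pCore p X)
    (hdeg : iterCommutator U (Subgroup.zpowers g) (p - 1) ≤ V)
    (hne : ¬ ⁅U, Subgroup.zpowers g⁆ ≤ V) : False := by
  haveI hUn := hUV.2.1
  haveI hVn := hUV.2.2.1
  set P := pCore p X with hP
  set π := QuotientGroup.mk' P with hπ
  have hπs := QuotientGroup.mk'_surjective P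
  set T : Sylow p (X ⧸ P) := S.mapSurjective hπs with hT
  have hTc : IsCoatom (T : Subgroup (X ⧸ P)) := by
    rw [hT, Sylow.coe_mapSurjective]
    refine ⟨fun h => (hm.coatom S).1 ?_, fun H hH => ?_⟩
    · have := congrArg (Subgroup.comap π) h
      rwa [Subgroup.comap_top, Subgroup.comap_map_eq, hπ, QuotientGroup.ker_mk',
        sup_eq_left.2 (Cores.pCore_le_sylow S)] at this
    · have h1 : (S : Subgroup X) < H.comap π := by
        refine lt_of_le_of_ne (Subgroup.map_le_iff_le_comap.1 hH.le) fun h => hH.ne ?_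
        rw [h, Subgroup.map_comap_eq_self_of_surjective hπs]
      rw [← Subgroup.map_comap_eq_self_of_surjective hπs H, (hm.coatom S).2 _ h1,
        Subgroup.map_top_of_surjective _ hπs]
  have hab := comm_pResidual hm.quot T hTc
  set A := pResidual p (X ⧸ P) with hA
  set M := A.comap π with hM
  have hAp : ¬ p ∣ Nat.card A := hasNormalPComplement_iff_not_dvd.1 hm.quot
  -- the action on `U / V`
  set ρ := QuotientGroup.mk' V with hρ
  have hρs := QuotientGroup.mk'_surjective V
  set Y := U.map ρ with hY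
  haveI hYn : Y.Normal := hUn.map ρ hρs
  have hUp : IsPGroup p U := (Cores.pCore_isPGroup p).to_le hUP
  have hYp : IsPGroup p Y := hUp.map ρ
  have hYmin : IsChiefFactor Y ⊥ := by
    refine ⟨bot_lt_iff_ne_bot.2 fun h => hUV.1.not_ge ?_, hYn, inferInstance, fun N hN _ hNY => ?_⟩
    · rwa [hY, Subgroup.map_eq_bot_iff, hρ, QuotientGroup.ker_mk'] at h
    · haveI := hN
      have e : (N.comap ρ).map ρ = N := Subgroup.map_comap_eq_self_of_surjective hρs N
      rcases hUV.2.2.2 (N.comap ρ) inferInstance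
        (fun v hv => Subgroup.mem_comap.2 (by
          rw [show ρ v = 1 from (QuotientGroup.eq_one_iff v).2 hv]; exact one_mem N))
        ((Subgroup.comap_mono hNY).trans (by
          rw [hY, Subgroup.comap_map_eq, hρ, QuotientGroup.ker_mk']; exact sup_le le_rfl hUV.1.le))
        with h | h
      · exact Or.inl (by rw [← e, h, hρ, QuotientGroup.map_mk'_self])
      · exact Or.inr (by rw [← e, h])
  set χ : X →* MulAut Y := (MulAut.conjNormal : X ⧸ V →* MulAut Y).comp ρ with hχ
  have hχv : ∀ (x : X) (y : Y), ((χ x y : Y) : X ⧸ V) = ρ x * y * (ρ x)⁻¹ := fun x y =>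
    MulAut.conjNormal_apply _ _
  have hχP : ∀ x ∈ P, χ x = 1 := by
    intro x hx
    haveI : (P.map ρ).Normal := (inferInstance : P.Normal).map ρ hρs
    have h1 := CritExist.le_centralizer_of_pGroup_action (D := P.map ρ) hYmin hYp
      (((Cores.pCore_isPGroup p).map ρ).map _) ⟨x, hx, rfl⟩
    refine MulEquiv.ext fun y => Subtype.ext ?_
    rw [hχv, MulAut.one_apply, ← Subgroup.mem_centralizer_iff.1 h1 y y.2, mul_inv_cancel_right]
  -- operators
  letI : CommGroup Y := { (inferInstance : Group Y) with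
    mul_comm := fun a b => Subtype.ext (by
      obtain ⟨u, hu, hue⟩ := a.2
      obtain ⟨w, hw, hwe⟩ := b.2
      have h1 : ⁅u, w⁆ ∈ V := (Chief.chief_elementary hUV hUp).1
        (Subgroup.commutator_mem_commutator hu hw)
      rw [← QuotientGroup.eq_one_iff] at h1
      show (a : X ⧸ V) * b = b * a
      rw [← commutatorElement_eq_one_iff_mul_comm, ← hue, ← hwe, ← map_commutatorElement]
      exact h1) }
  let φ : MulAut Y →* AddMonoid.End (Additive Y) :=
    { toFun := fun σ => MonoidHom.toAdditive (σ : Y →* Y)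
      map_one' := rfl
      map_mul' := fun _ _ => rfl }
  have hφinj : Function.Injective φ := fun σ τ h =>
    MulEquiv.ext fun u => congrArg Additive.toMul (DFunLike.congr_fun h (Additive.ofMul u))
  have hchar : (p : AddMonoid.End (Additive Y)) = 0 := by
    refine AddMonoidHom.ext fun y => ?_
    refine (AddMonoid.End.natCast_apply p y).trans (congrArg Additive.ofMul ?_)
    refine Subtype.ext ?_
    obtain ⟨u, hu, hue⟩ := (y.toMul).2
    rw [SubmonoidClass.coe_pow, ← hue, ← map_pow]
    exact (QuotientGroup.eq_one_iff _).2 ((Chief.chief_elementary hUV hUp).2 u hu)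
  set ψ : X →* AddMonoid.End (Additive Y) := φ.comp χ with hψ
  have hdd : (ψ g - 1) ^ (p - 1) = 0 := by
    have key : ∀ (n : ℕ) (u : X) (hu : u ∈ U),
        ∃ (hm : (fun y => g * y * g⁻¹ * y⁻¹)^[n] u ∈ U),
          ((ψ g - 1) ^ n) (Additive.ofMul (⟨ρ u, u, hu, rfl⟩ : Y)) =
            Additive.ofMul (⟨_, _, hm, rfl⟩ : Y) := by
      intro n u hu
      induction n with
      | zero => exact ⟨hu, rfl⟩
      | succ n ih =>
        obtain ⟨hm', he⟩ := ih
        rw [Function.iterate_succ_apply']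
        refine ⟨mul_mem (hUn.conj_mem _ hm' g) (inv_mem hm'), ?_⟩
        rw [pow_succ']
        show (ψ g - 1) (((ψ g - 1) ^ n) _) = _
        rw [he]
        apply congrArg Additive.ofMul
        apply Subtype.ext
        show ((χ g _ / _ : Y) : X ⧸ V) = _
        rw [div_eq_mul_inv, Subgroup.coe_mul, Subgroup.coe_inv, hχv]
        simp
        rfl
    refine AddMonoidHom.ext fun y => ?_
    obtain ⟨⟨_, u, hu, rfl⟩, rfl⟩ := Additive.ofMul.surjective y
    obtain ⟨hm', he⟩ := key (p - 1) u hu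
    refine Eq.trans he ?_
    refine congrArg Additive.ofMul (Subtype.ext ((QuotientGroup.eq_one_iff _).2 (hdeg ?_)))
    exact Chief.iter_mem_iterCommutator hu (p - 1)
  have hlift : ∀ {x y : X}, π x = π y → ψ x = ψ y := fun {x y} h => by
    obtain ⟨z, hz, rfl⟩ := (QuotientGroup.mk'_eq_mk' P).1 h
    rw [map_mul, show ψ z = 1 by rw [hψ, MonoidHom.comp_apply, hχP z hz, map_one], mul_one]
  let Sm : Submonoid (AddMonoid.End (Additive Y)) := M.toSubmonoid.map ψ
  have hcomm : ∀ a ∈ Sm, ∀ b ∈ Sm, a * b = b * a := by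
    rintro _ ⟨a, ha, rfl⟩ _ ⟨b, hb, rfl⟩
    rw [← map_mul, ← map_mul]
    exact hlift (by rw [map_mul, map_mul]; exact hab _ ha _ hb)
  have hpow : ∀ a ∈ Sm, a ^ Nat.card A = 1 := by
    rintro _ ⟨a, ha, rfl⟩
    rw [← map_pow, ← map_one ψ]
    refine hlift ?_
    rw [map_pow, map_one]
    exact orderOf_dvd_iff_pow_eq_one.1 (Subgroup.orderOf_dvd_natCard _ ha)
  have hconj : ∀ a ∈ Sm, ∃ a' ∈ Sm, ψ g * a = a' * ψ g := by
    rintro _ ⟨a, ha, rfl⟩
    refine ⟨ψ (g * a * g⁻¹), ⟨_, ?_, rfl⟩, by rw [← map_mul, ← map_mul, inv_mul_cancel_right]⟩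
    show π (g * a * g⁻¹) ∈ A
    rw [map_mul, map_mul, map_inv]
    exact pResidual_normal.conj_mem _ ha _
  have hcg := DegreeAbelian.commute_of_degree (M := Additive Y) hchar Sm hcomm hAp hpow (ψ g) hdd hconj
  -- the kernel in `M`
  set C := χ.ker ⊓ M with hC
  have hPM : P ≤ M := fun x hx => by
    show π x ∈ A
    rw [show π x = 1 from (QuotientGroup.eq_one_iff x).2 hx]
    exact one_mem A
  haveI : M.Normal := inferInstance
  have hCn : C.Normal := Subgroup.normal_inf_normal _ _
  have hgC : ∀ a ∈ M, ⁅g, a⁆ ∈ C := by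
    intro a ha
    refine Subgroup.mem_inf.2 ⟨?_, ?_⟩
    · rw [MonoidHom.mem_ker, map_commutatorElement, commutatorElement_eq_one_iff_mul_comm]
      exact hφinj (by rw [map_mul, map_mul]; exact hcg _ ⟨a, ha, rfl⟩)
    · rw [commutatorElement_def]
      exact M.mul_mem ((inferInstance : M.Normal).conj_mem a ha g) (M.inv_mem ha)
  have hMA : ∀ x : X ⧸ P, x ∈ A ↔ ∃ a ∈ M, π a = x := fun x => by
    constructor
    · intro hx
      obtain ⟨a, rfl⟩ := hπs x
      exact ⟨a, hx, rfl⟩
    · rintro ⟨a, ha, rfl⟩; exact ha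
  by_cases hCS : C ≤ (S : Subgroup X)
  · -- `g` centralizes `M / P`
    have hCP : C ≤ P := Cores.le_pCore (S.2.to_le hCS)
    let D : Subgroup (X ⧸ P) := (T : Subgroup (X ⧸ P)) ⊓ Subgroup.centralizer (A : Set (X ⧸ P))
    have hgD : π g ∈ D := by
      refine Subgroup.mem_inf.2 ⟨?_, Subgroup.mem_centralizer_iff.2 fun x hx => ?_⟩
      · rw [hT, Sylow.coe_mapSurjective]; exact ⟨g, hg, rfl⟩
      · obtain ⟨a, ha, rfl⟩ := (hMA x).1 hx
        have h1 : π ⁅g, a⁆ = 1 := (QuotientGroup.eq_one_iff _).2 (hCP (hgC a ha))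
        rw [map_commutatorElement, commutatorElement_eq_one_iff_mul_comm] at h1
        exact h1.symm
    haveI : (Subgroup.centralizer (A : Set (X ⧸ P))).Normal := Reduce.centralizer_normal A
    have hDn : D.Normal := by
      refine Subgroup.normalizer_eq_top_iff.1 (top_le_iff.1 ?_)
      rw [← sup_sylow_eq_top T]
      refine sup_le (fun a ha => Basic.mem_normalizer_of_forall fun d hd => ?_) ?_
      · rw [Subgroup.mem_centralizer_iff.1 (Subgroup.mem_inf.1 hd).2 a ha, mul_inv_cancel_right]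
        exact hd
      · intro t ht
        refine Basic.mem_normalizer_of_forall fun d hd => Subgroup.mem_inf.2 ⟨?_, ?_⟩
        · exact mul_mem (mul_mem ht (Subgroup.mem_inf.1 hd).1) (inv_mem ht)
        · exact (inferInstance : (Subgroup.centralizer (A : Set (X ⧸ P))).Normal).conj_mem _
            (Subgroup.mem_inf.1 hd).2 t
    haveI := hDn
    have h1 := Cores.le_pCore (T.2.to_le (inf_le_left : D ≤ T)) hgD
    rw [Cores.pCore_quotient_pCore, Subgroup.mem_bot] at h1
    exact hgP ((QuotientGroup.eq_one_iff g).1 h1)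
  · -- `M` centralizes `U / V`, so `X` acts through a `p`-group
    haveI := hCn
    have htop : (S : Subgroup X) ⊔ C = ⊤ :=
      (hm.coatom S).2 _ (lt_of_le_of_ne le_sup_left fun h => hCS (le_sup_right.trans h.ge))
    have hrange : IsPGroup p χ.range := by
      rintro ⟨_, x, rfl⟩
      have hx : x ∈ (((S : Subgroup X) ⊔ C : Subgroup X) : Set X) := by rw [htop]; trivial
      rw [Subgroup.mul_normal (S : Subgroup X) C] at hx
      obtain ⟨s, hs, c, hc, rfl⟩ := hx
      obtain ⟨k, hk⟩ := S.2 ⟨s, hs⟩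
      refine ⟨k, Subtype.ext ?_⟩
      show χ (s * c) ^ p ^ k = 1
      rw [map_mul, MonoidHom.mem_ker.1 (Subgroup.mem_inf.1 hc).1, mul_one, ← map_pow,
        show s ^ p ^ k = 1 by simpa using congrArg Subtype.val hk, map_one]
    have hcent := CritExist.le_centralizer_of_pGroup_action (D := ⊤) hYmin hYp (by
      refine hrange.to_le ?_
      rintro _ ⟨z, -, rfl⟩
      obtain ⟨x, rfl⟩ := hρs z
      exact ⟨x, rfl⟩)
    refine hne (Subgroup.commutator_le.2 fun u hu k _ => (QuotientGroup.eq_one_iff _).1 ?_)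
    show ρ ⁅u, k⁆ = 1
    rw [map_commutatorElement, commutatorElement_eq_one_iff_mul_comm]
    exact (Subgroup.mem_centralizer_iff.1 (hcent (Subgroup.mem_top (ρ k))) _ ⟨u, hu, rfl⟩)

end Cfsg.Agent.Lib.ConjFunctor.PNilDegree
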