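import Cfsg.Agent.Lib.ConjFunctor.Steps

/-!
# Reduction to constrained sections

If a set of isomorphism-invariant functors controls strong fusion (transfer) in every section `X` with
`C(O_p(X)) ≤ O_p(X)`, it does so in every section.
-/

set_option autoImplicit false
set_option linter.unusedSectionVars false

open Cfsg
open Cfsg.Agent.Lib.Fusion.Alperin
open Cfsg.Agent.Lib.ConjFunctor.Basic
open Cfsg.Agent.Lib.ConjFunctor.Reach
open Cfsg.Agent.Lib.ConjFunctor.Local
open Cfsg.Agent.Lib.ConjFunctor.Section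
open Cfsg.Agent.Lib.ConjFunctor.Steps

open scoped commutatorElement

namespace Cfsg.Agent.Lib.ConjFunctor.Reduce

universe u

variable {p : ℕ} [hp : Fact p.Prime] {𝓦 : Set (∀ (Q : Type u) [Group Q], Subgroup Q)}
variable {G : Type u} [Group G] [Finite G]

theorem card_quotient_lt {M : Subgroup G} [M.Normal] (hM : M ≠ ⊥) :
    Nat.card (G ⧸ M) < Nat.card G := by
  rw [Subgroup.card_eq_card_quotient_mul_card_subgroup M]
  exact lt_mul_of_one_lt_right Nat.card_pos (Subgroup.one_lt_card_iff_ne_bot M |>.2 hM)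

theorem card_subgroup_lt {H : Subgroup G} (hH : H ≠ ⊤) : Nat.card H < Nat.card G :=
  lt_of_le_of_ne (Subgroup.card_le_card_group H) fun h => hH (Subgroup.eq_top_of_card_eq H h)

theorem normalizer_ne_top {T : Subgroup G} (hcore : pCore p G = ⊥) (hT : IsPGroup p T) (hT1 : T ≠ ⊥) :
    Subgroup.normalizer (T : Set G) ≠ ⊤ := by
  intro h
  haveI := Subgroup.normalizer_eq_top_iff.1 h
  exact hT1 (le_bot_iff.1 (hcore ▸ Cores.le_pCore hT))

/-- For `O_{p'}(G) = 1` and `G` not constrained, `N(S ∩ C(O_p(G)))` is proper. -/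
theorem normalizer_inf_ne_top (hcore : pPrimeCore p G = ⊥) (hcon : ¬ Constrained p G)
    (S : Sylow p G) :
    Subgroup.normalizer
      (((S : Subgroup G) ⊓ Subgroup.centralizer (pCore p G : Set G) : Subgroup G) : Set G) ≠ ⊤ :=
  fun h => hcon (constrained_of_normal hcore S (Subgroup.normalizer_eq_top_iff.1 h))

theorem centralizer_normal (P : Subgroup G) [P.Normal] :
    (Subgroup.centralizer (P : Set G)).Normal := by
  rw [← Subgroup.normalizer_eq_top_iff, eq_top_iff]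
  intro g _
  apply mem_normalizer_of_conjS_eq
  rw [conjS_centralizer, conjS_eq_of_mem_normalizer (Subgroup.le_normalizer_of_normal
    (H := P) (K := ⊤) trivial)]

theorem sylow_le_normalizer_inf (S : Sylow p G) (C : Subgroup G) [C.Normal] :
    (S : Subgroup G) ≤ Subgroup.normalizer (((S : Subgroup G) ⊓ C : Subgroup G) : Set G) := by
  intro s hs
  apply mem_normalizer_of_conjS_eq
  rw [conjS_inf, conjS_eq_of_mem_normalizer (Subgroup.le_normalizer hs),
    conjS_eq_of_mem_normalizer (Subgroup.le_normalizer_of_normal (H := C) (K := ⊤) trivial)]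

/-- If `S` is not `O_p(G)`, each control subgroup of `G ⧸ O_p(G)` pulls back to a proper subgroup. -/
theorem preimage_proper (h𝓦 : ∀ W ∈ 𝓦, IsCharPFunctor.{u} p W) (S : Sylow p G)
    (hS : ¬ (S : Subgroup G) ≤ pCore p G) {W : ∀ (Q : Type u) [Group Q], Subgroup Q} (hW : W ∈ 𝓦) :
    (S : Subgroup G) ≤ (Subgroup.normalizer
        ((inducedFunctor W ((S : Subgroup G).map (QuotientGroup.mk' (pCore p G))) :
          Subgroup (G ⧸ pCore p G)) : Set (G ⧸ pCore p G))).comap (QuotientGroup.mk' (pCore p G)) ∧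
    (Subgroup.normalizer
        ((inducedFunctor W ((S : Subgroup G).map (QuotientGroup.mk' (pCore p G))) :
          Subgroup (G ⧸ pCore p G)) : Set (G ⧸ pCore p G))).comap (QuotientGroup.mk' (pCore p G)) ≠
      ⊤ := by
  set π := QuotientGroup.mk' (pCore p G) with hπ
  have hS' : IsPGroup p ((S : Subgroup G).map π) := S.2.map π
  have hc := isConjugacyFunctor_induced (h𝓦 W hW) (X := G ⧸ pCore p G)
  refine ⟨Subgroup.map_le_iff_le_comap.1 (le_normalizer_w hc hS'), fun h => ?_⟩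
  refine normalizer_ne_top (Cores.pCore_quotient_pCore p) (hS'.to_le (w_le hc hS'))
    (w_ne_bot hc hS' fun hb => hS ?_) ?_
  · rwa [Subgroup.map_eq_bot_iff, hπ, QuotientGroup.ker_mk'] at hb
  · rw [eq_top_iff, ← Subgroup.map_top_of_surjective π (QuotientGroup.mk'_surjective _), ← h]
    exact Subgroup.map_comap_le _ _

/-- A chain in `G ⧸ O_p(G)` lifts. -/
theorem lift_chain (h𝓦 : ∀ W ∈ 𝓦, IsCharPFunctor.{u} p W) (S : Sylow p G)
    (hS : ¬ (S : Subgroup G) ≤ pCore p G)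
    (hprop : ∀ H : Subgroup G, H ≠ ⊤ → (S : Subgroup G) ≤ H →
      SFAt (nFam (indSet 𝓦 G)) H (S : Subgroup G))
    (hq : SF 𝓦 p (G ⧸ pCore p G)) {A : Set G} {g : G} (hA : A ⊆ (S : Subgroup G))
    (hgA : cimg g A ⊆ (S : Subgroup G)) :
    ∃ y, Chain (topSteps 𝓦 (S : Subgroup G)) (S : Subgroup G) A y ∧
      ∀ a ∈ A, (g * a * g⁻¹) * (y * a * y⁻¹)⁻¹ ∈ pCore p G := by
  set P := pCore p G with hP
  set π := QuotientGroup.mk' P with hπ
  have hπs := QuotientGroup.mk'_surjective P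
  have hPS : P ≤ (S : Subgroup G) := Cores.pCore_le_sylow S
  suffices H : ∀ (B : Set (G ⧸ P)) (x : G ⧸ P),
      Chain (stepSet (nFam (indSet 𝓦 (G ⧸ P))) ⊤ ((S : Subgroup G).map π)) ((S : Subgroup G).map π) B x →
      π '' A = B → ∃ y, Chain (topSteps 𝓦 (S : Subgroup G)) (S : Subgroup G) A y ∧
        ∀ a ∈ A, π (y * a * y⁻¹) = x * π a * x⁻¹ by
    obtain ⟨y, hy, he⟩ := H _ (π g)
      (hq (S.mapSurjective hπs) (π '' A) (π g) trivial (Set.image_mono hA)
        (by rw [← image_cimg]; exact Set.image_mono hgA)) rfl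
    refine ⟨y, hy, fun a ha => (QuotientGroup.eq_one_iff _).1 ?_⟩
    change π ((g * a * g⁻¹) * (y * a * y⁻¹)⁻¹) = 1
    rw [map_mul, map_inv, he a ha]
    simp
  intro B x c
  induction c with
  | @refl x hB e =>
    intro hAB; subst hAB
    exact ⟨1, .refl hA (by simp), fun a ha => by simpa using (e _ ⟨a, ha, rfl⟩).symm⟩
  | @step x g₀ h' _ hx hT e ih =>
    intro hAB; subst hAB
    obtain ⟨y, hy, hey⟩ := ih rfl
    obtain ⟨_, ⟨W, hW, rfl⟩, -, hxW⟩ := mem_stepSet_nFam.1 hx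
    obtain ⟨hSH, hH⟩ := preimage_proper h𝓦 S hS hW
    obtain ⟨x₀, rfl⟩ := hπs x
    have hdst : cimg x₀ (cimg y A) ⊆ (S : Subgroup G) := by
      rintro _ ⟨_, ⟨a, ha, rfl⟩, rfl⟩
      have h2 : (π x₀ * g₀) * π a * (π x₀ * g₀)⁻¹ ∈ (S : Subgroup G).map π :=
        hT (mem_cimg ⟨a, ha, rfl⟩)
      have h3 : π (x₀ * (y * a * y⁻¹) * x₀⁻¹) ∈ (S : Subgroup G).map π := by
        rw [map_mul, map_mul, map_inv, hey a ha]; simpa [mul_assoc] using h2
      rw [← Subgroup.mem_comap, Subgroup.comap_map_eq, hπ, QuotientGroup.ker_mk',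
        sup_eq_left.2 hPS] at h3
      exact h3
    refine ⟨x₀ * y, hy.comp (chain_of_proper (hprop _ hH hSH) (Subgroup.mem_comap.2 hxW) hy.dst hdst),
      fun a ha => ?_⟩
    rw [← e (π a) ⟨a, ha, rfl⟩]
    calc π (x₀ * y * a * (x₀ * y)⁻¹) = π x₀ * π (y * a * y⁻¹) * (π x₀)⁻¹ := by simp [mul_assoc]
      _ = π x₀ * (g₀ * π a * g₀⁻¹) * (π x₀)⁻¹ := by rw [hey a ha]
      _ = π x₀ * g₀ * π a * (π x₀ * g₀)⁻¹ := by group

/-- With `G = S C(P)`, an element stabilizing `B > P > 1` for a fully normalized `B` acts on `B` as an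
element of `S`. -/
theorem exists_sylow_action (S : Sylow p G)
    (hSC : (S : Subgroup G) ⊔ Subgroup.centralizer (pCore p G : Set G) = ⊤) {B : Subgroup G}
    (hPB : pCore p G ≤ B) (hB : B ≤ (S : Subgroup G))
    (hfn : IsSyl p ((S : Subgroup G) ⊓ Subgroup.normalizer (B : Set G))
      (Subgroup.normalizer (B : Set G)))
    {x : G} (hx : ∀ b ∈ B, x * b * x⁻¹ * b⁻¹ ∈ pCore p G) :
    ∃ q ∈ (S : Subgroup G), ∀ b ∈ B, q * b * q⁻¹ = x * b * x⁻¹ := by
  set P := pCore p G with hP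
  haveI := centralizer_normal P
  set C := Subgroup.centralizer (P : Set G) with hC
  set π := QuotientGroup.mk' P with hπ
  set N := Subgroup.normalizer (B : Set G) with hN
  set D := N ⊓ (Subgroup.centralizer ((B.map π : Subgroup (G ⧸ P)) : Set (G ⧸ P))).comap π with hD
  have hmemC : ∀ g : G, (∀ b ∈ B, g * b * g⁻¹ * b⁻¹ ∈ P) →
      g ∈ (Subgroup.centralizer ((B.map π : Subgroup (G ⧸ P)) : Set (G ⧸ P))).comap π := by
    intro g hg
    rw [Subgroup.mem_comap, Subgroup.mem_centralizer_iff]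
    rintro _ ⟨b, hb, rfl⟩
    have h1 : π (g * b * g⁻¹ * b⁻¹) = 1 := (QuotientGroup.eq_one_iff _).2 (hg b hb)
    rw [map_mul, map_mul, map_mul, map_inv, map_inv, mul_inv_eq_one, mul_inv_eq_iff_eq_mul] at h1
    exact h1.symm
  have hxN : x ∈ N := by
    refine mem_normalizer_of_forall fun b hb => ?_
    have := mul_mem (hPB (hx b hb)) hb
    rwa [inv_mul_cancel_right] at this
  have hxD : x ∈ D := ⟨hxN, hmemC x hx⟩
  have hND : N ≤ Subgroup.normalizer (D : Set G) := by
    intro n hn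
    apply mem_normalizer_of_conjS_eq
    rw [hD, conjS_inf, conjS_eq_of_mem_normalizer (Subgroup.le_normalizer hn)]
    congr 1
    ext z
    rw [mem_conjS, Subgroup.mem_comap, Subgroup.mem_comap, map_mul, map_mul, map_inv]
    have hnB : π n ∈ Subgroup.normalizer ((B.map π : Subgroup (G ⧸ P)) : Set (G ⧸ P)) :=
      map_normalizer_le π B ⟨n, hn, rfl⟩
    have h2 := conjS_centralizer (π n) (B.map π)
    rw [conjS_eq_of_mem_normalizer hnB] at h2
    rw [← mem_conjS, h2]
  have hsyl : IsSyl p ((S : Subgroup G) ⊓ N ⊓ D) D := by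
    have h1 := hfn.inf_normal hND
    rwa [inf_eq_right.2 (inf_le_left : D ≤ N)] at h1
  have hres : pResidual p D ≤ (Subgroup.centralizer (B : Set G)).comap D.subtype := by
    refine Transfer.PResidual.pResidual_le_iff.2 fun d hd => ?_
    rw [Subgroup.mem_comap, Subgroup.mem_centralizer_iff]
    intro b hb
    have hdC : (d : G) ∈ C := by
      have hpq : IsPGroup p (G ⧸ C) := by
        have h1 := S.2.map (QuotientGroup.mk' C)
        have h2 : (S : Subgroup G).map (QuotientGroup.mk' C) = ⊤ := by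
          rw [← Subgroup.map_top_of_surjective _ (QuotientGroup.mk'_surjective C), ← hSC,
            Subgroup.map_sup, QuotientGroup.map_mk'_self, sup_bot_eq]
        rw [h2] at h1
        exact h1.of_equiv Subgroup.topEquiv
      refine (QuotientGroup.eq_one_iff (d : G)).1
        (Transfer.PResidual.eq_one_of_pGroup_of_coprime hpq (hd.coprime_dvd_left ?_))
      rw [← Subgroup.orderOf_coe d]
      exact orderOf_map_dvd (QuotientGroup.mk' C) (d : G)
    set e := (d : G) * b * (d : G)⁻¹ * b⁻¹ with he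
    have heP : e ∈ P := by
      have h1 := Subgroup.mem_centralizer_iff.1 d.2.2 (π b) ⟨b, hb, rfl⟩
      have h1' : π (d : G) * π b = π b * π (d : G) := h1.symm
      refine (QuotientGroup.eq_one_iff _).1 ?_
      change π e = 1
      rw [he, map_mul, map_mul, map_mul, map_inv, map_inv, h1']
      group
    have hde : (d : G) * e * (d : G)⁻¹ = e := by
      rw [← Subgroup.mem_centralizer_iff.1 hdC e heP, mul_inv_cancel_right]
    have hpow : ∀ n : ℕ, (d : G) ^ n * b * ((d : G) ^ n)⁻¹ = e ^ n * b := by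
      intro n
      induction n with
      | zero => simp
      | succ n ih =>
        calc (d : G) ^ (n + 1) * b * ((d : G) ^ (n + 1))⁻¹
            = (d : G) * ((d : G) ^ n * b * ((d : G) ^ n)⁻¹) * (d : G)⁻¹ := by
              rw [pow_succ']; group
          _ = (d : G) * (e ^ n * b) * (d : G)⁻¹ := by rw [ih]
          _ = ((d : G) * e * (d : G)⁻¹) ^ n * ((d : G) * b * (d : G)⁻¹) := by
              rw [conj_pow]; group
          _ = e ^ (n + 1) * b := by rw [hde, pow_succ, he]; group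
    have h1 : e ^ orderOf (d : G) = 1 := by
      have := hpow (orderOf (d : G))
      rw [pow_orderOf_eq_one] at this
      simpa using this.symm
    have h2 : (⟨e, heP⟩ : P) = 1 := by
      refine Transfer.PResidual.eq_one_of_pGroup_of_coprime (Cores.pCore_isPGroup p)
        (hd.coprime_dvd_left ?_)
      apply orderOf_dvd_of_pow_eq_one
      exact Subtype.ext (by simpa using h1)
    have h3 : e = 1 := congrArg Subtype.val h2
    rw [he, mul_inv_eq_one, mul_inv_eq_iff_eq_mul] at h3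
    exact h3.symm
  obtain ⟨k, hk, z, hz, hkz⟩ := Transfer.PResidual.exists_mul_sylow hsyl.toSylowOf ⟨x, hxD⟩
  have hz' : (z : G) ∈ (S : Subgroup G) ⊓ N ⊓ D := hz
  refine ⟨z, hz'.1.1, fun b hb => ?_⟩
  have hzb : (z : G) * b * (z : G)⁻¹ ∈ B := (Subgroup.mem_normalizer_iff.1 hz'.1.2 b).1 hb
  have h1 := Subgroup.mem_centralizer_iff.1 (hres hk) _ hzb
  have hx' : x = (k : G) * z := (congrArg Subtype.val hkz).symm
  rw [hx']
  calc (z : G) * b * (z : G)⁻¹ = (z : G) * b * (z : G)⁻¹ * k * (k : G)⁻¹ := by group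
    _ = (k : G) * ((z : G) * b * (z : G)⁻¹) * (k : G)⁻¹ := by rw [show (z : G) * b * (z : G)⁻¹ * k = k * ((z : G) * b * (z : G)⁻¹) from h1]
    _ = (k : G) * z * b * ((k : G) * z)⁻¹ := by group

/-- A normal `p`-subgroup on which `G` acts as `S` meets `G'` inside `S'`. -/
theorem inf_commutator_le (S : Sylow p G) (P : Subgroup G) [P.Normal] (hPS : P ≤ (S : Subgroup G))
    (hSC : (S : Subgroup G) ⊔ Subgroup.centralizer (P : Set G) = ⊤) :
    P ⊓ commutator G ≤ ⁅(S : Subgroup G), (S : Subgroup G)⁆ := by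
  classical
  haveI := centralizer_normal P
  let φ : (S : Subgroup G) →* Abelianization (S : Subgroup G) := Abelianization.of
  intro x hx
  have hker : MonoidHom.transfer φ x = 1 := Abelianization.commutator_subset_ker _ hx.2
  let xS : (S : Subgroup G) := ⟨x, hPS hx.1⟩
  have hconj : ∀ (g : G) (k : ℕ) (hm : g⁻¹ * x ^ k * g ∈ (S : Subgroup G)),
      φ ⟨g⁻¹ * x ^ k * g, hm⟩ = φ xS ^ k := by
    intro g k hm
    have hg : g ∈ (((S : Subgroup G) ⊔ Subgroup.centralizer (P : Set G) : Subgroup G) : Set G) := by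
      rw [hSC]; trivial
    rw [Subgroup.mul_normal] at hg
    obtain ⟨s, hs, c, hc, rfl⟩ := hg
    have hy : s⁻¹ * x ^ k * s ∈ P :=
      Subgroup.Normal.conj_mem' inferInstance _ (pow_mem hx.1 k) s
    have h1 : (s * c)⁻¹ * x ^ k * (s * c) = s⁻¹ * x ^ k * s := by
      have h2 := Subgroup.mem_centralizer_iff.1 hc _ hy
      calc (s * c)⁻¹ * x ^ k * (s * c) = c⁻¹ * ((s⁻¹ * x ^ k * s) * c) := by group
        _ = c⁻¹ * (c * (s⁻¹ * x ^ k * s)) := by rw [h2]
        _ = s⁻¹ * x ^ k * s := by group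
    have h3 : (⟨(s * c)⁻¹ * x ^ k * (s * c), hm⟩ : (S : Subgroup G)) =
        (⟨s, hs⟩ : (S : Subgroup G))⁻¹ * xS ^ k * ⟨s, hs⟩ := Subtype.ext (by simpa [xS] using h1)
    rw [h3, map_mul, map_mul, map_inv, map_pow, inv_mul_cancel_comm]
  have hval : MonoidHom.transfer φ x = φ xS ^ (S : Subgroup G).index := by
    have : Fintype (Quotient (MulAction.orbitRel (Subgroup.zpowers x) (G ⧸ (S : Subgroup G)))) :=
      Fintype.ofFinite _
    rw [MonoidHom.transfer_eq_prod_quotient_orbitRel_zpowers_quot,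
      Subgroup.index_eq_sum_minimalPeriod (S : Subgroup G) x, ← Finset.prod_pow_eq_pow_sum]
    exact Finset.prod_congr rfl fun q _ => hconj _ _ _
  rw [hker] at hval
  obtain ⟨n, hn⟩ := S.2 xS
  have h2 : φ xS = 1 := by
    apply orderOf_eq_one_iff.1
    refine Nat.eq_one_of_dvd_coprimes
      ((hp.out.coprime_iff_not_dvd.2 S.not_dvd_index).pow_left n) ?_
      (orderOf_dvd_of_pow_eq_one hval.symm)
    exact orderOf_dvd_of_pow_eq_one (by rw [← map_pow, hn, map_one])
  have h3 : xS ∈ commutator (S : Subgroup G) := (QuotientGroup.eq_one_iff xS).1 h2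
  rw [← Subgroup.map_subtype_commutator]
  exact ⟨xS, h3, rfl⟩

theorem sf_step' (h𝓦 : ∀ W ∈ 𝓦, IsCharPFunctor.{u} p W)
    (hsub : ∀ H : Subgroup G, H ≠ ⊤ → SF 𝓦 p H)
    (hqp : pPrimeCore p G ≠ ⊥ → SF 𝓦 p (G ⧸ pPrimeCore p G))
    (hqc : pCore p G ≠ ⊥ → ∀ S : Sylow p G,
      (S : Subgroup G) ⊔ Subgroup.centralizer (pCore p G : Set G) = ⊤ → SF 𝓦 p (G ⧸ pCore p G))
    (hcon : Constrained p G → SF 𝓦 p G) : SF 𝓦 p G := by
  by_cases hcore : pPrimeCore p G = ⊥
  swap
  · exact sf_of_quotient h𝓦 _ (Cores.not_dvd_card_pPrimeCore p) (hqp hcore)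
  by_cases hc : Constrained p G
  · exact hcon hc
  intro S
  by_cases hP1 : pCore p G = ⊥
  · refine sfAt_top S (LocalInst.ambient_nFam S (isConjugacyFunctor_indSet h𝓦))
      fun T hT hT1 hfn => ⟨_, hfn, sfAt_subgroup h𝓦 hfn (hsub _ ?_)⟩
    exact normalizer_ne_top hP1 (S.2.to_le hT) hT1
  intro A h _ hA hhA
  haveI := centralizer_normal (pCore p G)
  set C := Subgroup.centralizer ((pCore p G : Subgroup G) : Set G) with hC
  have hN0 := normalizer_inf_ne_top hcore hc S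
  have hprop : ∀ H : Subgroup G, H ≠ ⊤ → (S : Subgroup G) ≤ H →
      SFAt (nFam (indSet 𝓦 G)) H (S : Subgroup G) := fun H hH hSH =>
    sfAt_subgroup h𝓦 ((isSyl_top S).mono hSH le_top) (hsub H hH)
  by_cases hSC : (S : Subgroup G) ⊔ C = ⊤
  swap
  · obtain ⟨c, hcC, n, hn, rfl, hnA⟩ := exists_decomp S (C := C) hA hhA
    refine (chain_of_proper (hprop _ hN0 (sylow_le_normalizer_inf S C)) hn hA hnA).comp
      (chain_of_proper (hprop _ hSC le_sup_left) (le_sup_right (a := (S : Subgroup G)) hcC) hnA ?_)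
    rw [← cimg_mul]; exact hhA
  -- `G = S C`
  have hS : ¬ (S : Subgroup G) ≤ pCore p G := fun hle => by
    have he : (S : Subgroup G) = pCore p G := le_antisymm hle (Cores.pCore_le_sylow S)
    refine hc (constrained_of_normal hcore S ?_)
    rw [he]; infer_instance
  have hq : SF 𝓦 p (G ⧸ pCore p G) := hqc hP1 S hSC
  set P := pCore p G with hP
  set B := Subgroup.closure A ⊔ P with hB
  have hBS : B ≤ (S : Subgroup G) := sup_le ((Subgroup.closure_le _).2 hA) (Cores.pCore_le_sylow S)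
  have hhB : conjS h B ≤ (S : Subgroup G) := by
    rw [hB, conjS_sup, conjS_eq_of_mem_normalizer
      (Subgroup.le_normalizer_of_normal (H := P) (K := ⊤) trivial)]
    refine sup_le ?_ (Cores.pCore_le_sylow S)
    rw [conjS, MonoidHom.map_closure]
    exact (Subgroup.closure_le _).2 hhA
  suffices H : Chain (topSteps 𝓦 (S : Subgroup G)) (S : Subgroup G) (B : Set G) h from
    H.mono (Subgroup.subset_closure.trans (SetLike.coe_subset_coe.2 le_sup_left))
  obtain ⟨k, hkB, -, hfn⟩ := exists_fullySyl S B hBS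
  -- a chain carrying `B` to its fully normalized conjugate
  obtain ⟨y, hy, hye⟩ := lift_chain h𝓦 S hS hprop hq (SetLike.coe_subset_coe.2 hBS)
    (cimg_subset_of_le Set.Subset.rfl hkB)
  have hyB : conjS y B = conjS k B := by
    refine Subgroup.eq_of_le_of_card_ge ?_ (by rw [card_conjS, card_conjS])
    rintro _ ⟨b, hb, rfl⟩
    have hPk : P ≤ conjS k B := by
      conv_lhs => rw [← conjS_eq_of_mem_normalizer
        (Subgroup.le_normalizer_of_normal (H := P) (K := ⊤) trivial : k ∈ _)]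
      exact conjS_mono le_sup_right
    have h2 := mul_mem (inv_mem (hPk (hye b hb))) (conj_mem_conjS (g := k) hb)
    rwa [show ((k * b * k⁻¹) * (y * b * y⁻¹)⁻¹)⁻¹ * (k * b * k⁻¹) = y * b * y⁻¹ by group] at h2
  obtain ⟨z, hz, hze⟩ := lift_chain h𝓦 S hS hprop hq (SetLike.coe_subset_coe.2 hBS)
    (cimg_subset_of_le Set.Subset.rfl hhB)
  set x := z⁻¹ * h with hx
  have hxB : ∀ b ∈ B, x * b * x⁻¹ * b⁻¹ ∈ P := by
    intro b hb
    have h1 := (pCore_normal p G).conj_mem' _ (hze b hb) z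
    rwa [show z⁻¹ * ((h * b * h⁻¹) * (z * b * z⁻¹)⁻¹) * z = x * b * x⁻¹ * b⁻¹ by rw [hx]; group] at h1
  have hxB' : ∀ b ∈ B, x * b * x⁻¹ ∈ B := fun b hb => by
    have := mul_mem (le_sup_right (a := Subgroup.closure A) (hxB b hb)) hb
    rwa [inv_mul_cancel_right] at this
  set B' := conjS k B with hB'
  have hPk : pCore p G ≤ B' := (conjS_eq_of_mem_normalizer
    (Subgroup.le_normalizer_of_normal (H := P) (K := ⊤) trivial : k ∈ _)).symm.le.trans
    (conjS_mono le_sup_right)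
  obtain ⟨q, hq', hqe⟩ := exists_sylow_action S hSC (B := B') hPk hkB hfn (x := y * x * y⁻¹) (by
    intro b hb
    rw [← hyB, mem_conjS] at hb
    have h1 := (pCore_normal p G).conj_mem _ (hxB _ hb) y
    rwa [show y * (x * (y⁻¹ * b * y) * x⁻¹ * (y⁻¹ * b * y)⁻¹) * y⁻¹ =
      y * x * y⁻¹ * b * (y * x * y⁻¹)⁻¹ * b⁻¹ by group] at h1)
  -- chains for `y`, `q`, `y⁻¹`, `z`
  have hSne : (S : Subgroup G) ≠ ⊤ := fun he => hc <| constrained_of_normal hcore S <| by
    rw [he, top_inf_eq]; infer_instance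
  have c2 : Chain (topSteps 𝓦 (S : Subgroup G)) (S : Subgroup G) (cimg y (B : Set G)) q := by
    refine chain_of_proper (hprop _ hSne le_rfl) hq'
      (cimg_subset_of_le Set.Subset.rfl (hyB.le.trans hkB)) ?_
    exact cimg_subset_self (cimg_subset_of_le Set.Subset.rfl (hyB.le.trans hkB))
      (Subgroup.le_normalizer hq')
  have e2 : ∀ b ∈ B, q * y * b * (q * y)⁻¹ = y * x * b * (y * x)⁻¹ := by
    intro b hb
    have := hqe (y * b * y⁻¹) (hyB ▸ conj_mem_conjS hb)
    calc q * y * b * (q * y)⁻¹ = q * (y * b * y⁻¹) * q⁻¹ := by group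
      _ = y * x * y⁻¹ * (y * b * y⁻¹) * (y * x * y⁻¹)⁻¹ := this
      _ = y * x * b * (y * x)⁻¹ := by group
  have c12 : Chain (topSteps 𝓦 (S : Subgroup G)) (S : Subgroup G) (B : Set G) (q * y) :=
    hy.comp c2
  have c12' : Chain (topSteps 𝓦 (S : Subgroup G)) (S : Subgroup G) (B : Set G) (y * x) :=
    c12.congr e2
  -- the chain inverse to `y` up to an element acting trivially modulo `P`
  have e3 : cimg (y * x) (B : Set G) ⊆ (B' : Set G) := by
    rw [cimg_mul]
    refine (cimg_mono (?_ : cimg x (B : Set G) ⊆ B)).trans (cimg_subset_of_le Set.Subset.rfl hyB.le)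
    rintro _ ⟨b, hb, rfl⟩; exact hxB' b hb
  have c4 : Chain (topSteps 𝓦 (S : Subgroup G)) (S : Subgroup G) (cimg (y * x) (B : Set G)) y⁻¹ := by
    refine (?_ : Chain (topSteps 𝓦 (S : Subgroup G)) (S : Subgroup G) (B' : Set G) y⁻¹).mono e3
    rw [show B' = conjS y B from hyB.symm, ← cimg_coe]
    exact hy.symm inv_mem_stepSet
  have c124 := c12'.comp c4
  rw [inv_mul_cancel_left] at c124
  have c5 : Chain (topSteps 𝓦 (S : Subgroup G)) (S : Subgroup G) (cimg x (B : Set G)) z := by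
    refine hz.mono ?_
    rintro _ ⟨b, hb, rfl⟩; exact hxB' b hb
  have := c124.comp c5
  rwa [hx, mul_inv_cancel_left] at this

theorem sf_step (h𝓦 : ∀ W ∈ 𝓦, IsCharPFunctor.{u} p W)
    (hsub : ∀ H : Subgroup G, H ≠ ⊤ → SF 𝓦 p H)
    (hquot : ∀ (N : Subgroup G) [N.Normal], N ≠ ⊥ → SF 𝓦 p (G ⧸ N))
    (hcon : Constrained p G → SF 𝓦 p G) : SF 𝓦 p G :=
  sf_step' h𝓦 hsub (fun h => hquot _ h) (fun h _ _ => hquot _ h) hcon

/-- `S ∩ G'` lies in every subgroup containing the elements `h a h⁻¹ a⁻¹` with both ends in `S`. -/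
theorem inf_commutator_le_of_moves (S : Sylow p G) {K : Subgroup G}
    (h : ∀ a ∈ (S : Subgroup G), ∀ x : G, x * a * x⁻¹ ∈ (S : Subgroup G) → x * a * x⁻¹ * a⁻¹ ∈ K) :
    (S : Subgroup G) ⊓ ⁅(⊤ : Subgroup G), ⊤⁆ ≤ K := by
  rw [inf_comm, show ⁅(⊤ : Subgroup G), ⊤⁆ = commutator G from rfl,
    Subgroup.commutator_inf_eq_focalSubgroup, Subgroup.focalSubgroup_def, Subgroup.closure_le]
  rintro z ⟨hz, a, ha, x, rfl⟩
  have h1 : x * a * x⁻¹ ∈ (S : Subgroup G) := by
    have e : x * a * x⁻¹ = (a⁻¹ * ⁅a, x⁆)⁻¹ := by rw [commutatorElement_def]; group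
    rw [e]
    exact inv_mem (mul_mem (inv_mem ha) hz)
  have e : ⁅a, x⁆ = (x * a * x⁻¹ * a⁻¹)⁻¹ := by rw [commutatorElement_def]; group
  rw [e]
  exact inv_mem (h a ha x h1)

/-- `h a h⁻¹ a⁻¹` is a commutator. -/
theorem moved_mem_commutator {H : Subgroup G} {a x : G} (ha : a ∈ H) (hx : x ∈ H) :
    x * a * x⁻¹ * a⁻¹ ∈ ⁅H, H⁆ := by
  rw [← commutatorElement_def]; exact Subgroup.commutator_mem_commutator hx ha

/-- The transfer analogue of `lift_chain`. -/
theorem inf_commutator_le_sup (h𝓦 : ∀ W ∈ 𝓦, IsCharPFunctor.{u} p W) (S : Sylow p G)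
    (hS : ¬ (S : Subgroup G) ≤ pCore p G) {M : Subgroup G} (hMG : M ≤ ⁅(⊤ : Subgroup G), ⊤⁆)
    (hM : ∀ H : Subgroup G, H ≠ ⊤ → (S : Subgroup G) ≤ H → (S : Subgroup G) ⊓ ⁅H, H⁆ ≤ M)
    (hq : Tr 𝓦 p (G ⧸ pCore p G)) :
    (S : Subgroup G) ⊓ ⁅(⊤ : Subgroup G), ⊤⁆ ≤ M ⊔ (pCore p G ⊓ ⁅(⊤ : Subgroup G), ⊤⁆) := by
  set P := pCore p G with hP
  set π := QuotientGroup.mk' P with hπ
  have hπs := QuotientGroup.mk'_surjective P
  have hPS : P ≤ (S : Subgroup G) := Cores.pCore_le_sylow S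
  intro z hz
  have h1 : π z ∈ (S : Subgroup G).map π ⊓ ⁅(⊤ : Subgroup (G ⧸ P)), ⊤⁆ := by
    refine ⟨⟨z, hz.1, rfl⟩, ?_⟩
    have h2 := Subgroup.mem_map_of_mem π hz.2
    rwa [Subgroup.map_commutator, Subgroup.map_top_of_surjective π hπs] at h2
  have he : TrAt (nFam (indSet 𝓦 (G ⧸ P))) ⊤ ((S : Subgroup G).map π) := hq (S.mapSurjective hπs)
  rw [he, trGen_nFam] at h1
  obtain ⟨m, hm, hmz⟩ : π z ∈ M.map π := by
    refine (iSup₂_le fun F hF => ?_ : _ ≤ M.map π) h1
    obtain ⟨W, hW, rfl⟩ := hF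
    obtain ⟨hSH, hH⟩ := preimage_proper h𝓦 S hS hW
    rintro q ⟨⟨s, hs, rfl⟩, hq1⟩
    set H := (Subgroup.normalizer ((inducedFunctor W ((S : Subgroup G).map π) : Subgroup (G ⧸ P)) :
      Set (G ⧸ P))).comap π with hHdef
    have hq2 : π s ∈ ⁅H, H⁆.map π := by
      rw [Subgroup.map_commutator, hHdef, Subgroup.map_comap_eq_self_of_surjective hπs]
      simp only [top_inf_eq] at hq1
      exact hq1
    obtain ⟨w, hw, hws⟩ := hq2
    obtain ⟨q, hq', hqs⟩ := (QuotientGroup.mk'_eq_mk' P).1 hws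
    have hwS : w ∈ (S : Subgroup G) := by
      have := mul_mem hs (inv_mem (hPS hq'))
      rwa [← hqs, mul_inv_cancel_right] at this
    exact ⟨w, hM H hH hSH ⟨hwS, hw⟩, hws⟩
  obtain ⟨q, hq', hqz⟩ := (QuotientGroup.mk'_eq_mk' P).1 hmz
  rw [← hqz]
  refine mul_mem (le_sup_left (a := M) hm) (le_sup_right (a := M) ⟨hq', ?_⟩)
  have := mul_mem (inv_mem (hMG hm)) hz.2
  rwa [← hqz, inv_mul_cancel_left] at this

theorem tr_step (h𝓦 : ∀ W ∈ 𝓦, IsCharPFunctor.{u} p W)
    (hsub : ∀ H : Subgroup G, H ≠ ⊤ → Tr 𝓦 p H)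
    (hquot : ∀ (N : Subgroup G) [N.Normal], N ≠ ⊥ → Tr 𝓦 p (G ⧸ N))
    (hcon : Constrained p G → Tr 𝓦 p G) : Tr 𝓦 p G := by
  by_cases hcore : pPrimeCore p G = ⊥
  swap
  · exact tr_of_quotient h𝓦 _ (Cores.not_dvd_card_pPrimeCore p) (hquot _ hcore)
  by_cases hc : Constrained p G
  · exact hcon hc
  intro S
  by_cases hP1 : pCore p G = ⊥
  · refine trAt_top S (LocalInst.ambient_nFam S (isConjugacyFunctor_indSet h𝓦))
      fun T hT hT1 hfn => ⟨_, hfn, trAt_subgroup h𝓦 hfn (hsub _ ?_)⟩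
    exact normalizer_ne_top hP1 (S.2.to_le hT) hT1
  refine trAt_of_le ?_
  haveI := centralizer_normal (pCore p G)
  set C := Subgroup.centralizer ((pCore p G : Subgroup G) : Set G) with hC
  set M := trGen (nFam (indSet 𝓦 G)) ⊤ (S : Subgroup G) with hM
  have hprop : ∀ H : Subgroup G, H ≠ ⊤ → (S : Subgroup G) ≤ H →
      (S : Subgroup G) ⊓ ⁅H, H⁆ ≤ M := fun H hH hSH =>
    inf_commutator_le_of_proper (trAt_subgroup h𝓦 ((isSyl_top S).mono hSH le_top) (hsub H hH))
  by_cases hSC : (S : Subgroup G) ⊔ C = ⊤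
  swap
  · refine inf_commutator_le_of_moves S fun a ha x hx => ?_
    obtain ⟨c, hc', n, hn, rfl, hna⟩ := exists_decomp S (C := C) (A := {a}) (h := x)
      (Set.singleton_subset_iff.2 ha) (by rintro _ ⟨_, rfl, rfl⟩; exact hx)
    have hb : n * a * n⁻¹ ∈ (S : Subgroup G) := hna ⟨a, rfl, rfl⟩
    have e : c * n * a * (c * n)⁻¹ * a⁻¹ =
        (c * (n * a * n⁻¹) * c⁻¹ * (n * a * n⁻¹)⁻¹) * (n * a * n⁻¹ * a⁻¹) := by group
    rw [e]
    refine mul_mem (hprop _ hSC le_sup_left (Subgroup.mem_inf.2 ⟨?_, moved_mem_commutator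
      (le_sup_left (b := C) hb) (le_sup_right (a := (S : Subgroup G)) hc')⟩))
      (hprop _ (normalizer_inf_ne_top hcore hc S) (sylow_le_normalizer_inf S C)
        (Subgroup.mem_inf.2
          ⟨mul_mem hb (inv_mem ha), moved_mem_commutator (sylow_le_normalizer_inf S C ha) hn⟩))
    have : c * (n * a * n⁻¹) * c⁻¹ = c * n * a * (c * n)⁻¹ := by group
    exact mul_mem (this ▸ hx) (inv_mem hb)
  -- `G = S C`
  have hS : ¬ (S : Subgroup G) ≤ pCore p G := fun hle => by
    have he : (S : Subgroup G) = pCore p G := le_antisymm hle (Cores.pCore_le_sylow S)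
    refine hc (constrained_of_normal hcore S ?_)
    rw [he]; infer_instance
  have hSne : (S : Subgroup G) ≠ ⊤ := fun he => hc <| constrained_of_normal hcore S <| by
    rw [he, top_inf_eq]; infer_instance
  refine (inf_commutator_le_sup h𝓦 S hS (trGen_le.trans inf_le_right) hprop (hquot _ hP1)).trans
    (sup_le le_rfl ?_)
  refine le_trans (le_inf ?_ ?_) (hprop _ hSne le_rfl)
  · exact inf_le_left.trans (Cores.pCore_le_sylow S)
  · exact inf_commutator_le S _ (Cores.pCore_le_sylow S) hSC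

/-! ### Induction over sections -/

theorem sf_main (h𝓦 : ∀ W ∈ 𝓦, IsCharPFunctor.{u} p W)
    (hcon : ∀ (X : Type u) [Group X] [Finite X], IsSection X G → Constrained p X → SF 𝓦 p X)
    (X : Type u) [Group X] [Finite X] (hX : IsSection X G) : SF 𝓦 p X := by
  induction hn : Nat.card X using Nat.strong_induction_on generalizing X with
  | _ n ih =>
    subst hn
    refine sf_step h𝓦 (fun H hH => ih _ (card_subgroup_lt hH) H (hX.subgroup H) rfl)
      (fun N _ hN => ih _ (card_quotient_lt hN) _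
        (hX.quotient (QuotientGroup.mk' N) (QuotientGroup.mk'_surjective N)) rfl)
      (hcon X hX)

theorem tr_main (h𝓦 : ∀ W ∈ 𝓦, IsCharPFunctor.{u} p W)
    (hcon : ∀ (X : Type u) [Group X] [Finite X], IsSection X G → Constrained p X → Tr 𝓦 p X)
    (X : Type u) [Group X] [Finite X] (hX : IsSection X G) : Tr 𝓦 p X := by
  induction hn : Nat.card X using Nat.strong_induction_on generalizing X with
  | _ n ih =>
    subst hn
    refine tr_step h𝓦 (fun H hH => ih _ (card_subgroup_lt hH) H (hX.subgroup H) rfl)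
      (fun N _ hN => ih _ (card_quotient_lt hN) _
        (hX.quotient (QuotientGroup.mk' N) (QuotientGroup.mk'_surjective N)) rfl)
      (hcon X hX)

end Cfsg.Agent.Lib.ConjFunctor.Reduce
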