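import Cfsg.Prelude.Def_Transfer
import Cfsg.Prelude.Def_LocalEven
import Cfsg.Agent.Lib.ConjFunctor.Reduce
import Cfsg.Agent.Lib.ConjFunctor.Chief
import Cfsg.Agent.Lib.ConjFunctor.CritExist
import Cfsg.Agent.Lib.ConjFunctor.DegreeAbelian
import Cfsg.Agent.Lib.Transfer.Frobenius
import Cfsg.Agent.Lib.Frobenius.PComplement

/-!
# Normal `p`-complements from the normalizer of a functor value

A minimal group in which `N(W S)` has a normal `p`-complement and which has none itself.
-/

set_option autoImplicit false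
set_option linter.unusedSectionVars false
set_option linter.style.haveILetI false

open Cfsg
open Cfsg.Agent.Lib.Transfer.PResidual
open Cfsg.Agent.Lib.Frobenius.PComplement
open Cfsg.Agent.Lib.Fusion.Alperin
open Cfsg.Agent.Lib.ConjFunctor.Basic

namespace Cfsg.Agent.Lib.ConjFunctor.PNilpotent

universe u

variable {p : ℕ} [hp : Fact p.Prime] (W : ∀ (Q : Type u) [Group Q], Subgroup Q)

/-- `N(W P)` has a normal `p`-complement. -/
def Hyp (p : ℕ) {X : Type u} [Group X] (P : Subgroup X) : Prop :=
  HasNormalPComplement p ↥(Subgroup.normalizer ((inducedFunctor W P : Subgroup X) : Set X))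

variable {W} (hW : IsCharPFunctor.{u} p W)

theorem hyp_map {X Y : Type u} [Group X] [Group Y] [Finite X] [Finite Y] (f : X →* Y)
    (hf : Function.Injective f) {P : Subgroup X} (hP : IsPGroup p P) (hW : IsCharPFunctor.{u} p W)
    (h : Hyp W p (P.map f)) : Hyp W p P := by
  refine hnpc_of_map_le f hf ?_ h
  rw [Section.map_inducedFunctor_of_injective hW f hf P hP]
  exact Subgroup.le_normalizer_map f

theorem hyp_sylow (hW : IsCharPFunctor.{u} p W) {X : Type u} [Group X] [Finite X] (P P' : Sylow p X)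
    (h : Hyp W p (P : Subgroup X)) : Hyp W p (P' : Subgroup X) := by
  obtain ⟨g, rfl⟩ := MulAction.exists_smul_eq X P P'
  refine hyp_map (MulAut.conj g⁻¹).toMonoidHom (MulAut.conj g⁻¹).injective (g • P).2 hW ?_
  have e : (((g • P : Sylow p X) : Subgroup X).map (MulAut.conj g⁻¹).toMonoidHom) = P := by
    show (((P : Subgroup X).map (MulAut.conj g).toMonoidHom).map (MulAut.conj g⁻¹).toMonoidHom) = P
    rw [Subgroup.map_map, show (MulAut.conj g⁻¹).toMonoidHom.comp (MulAut.conj g).toMonoidHom =
      MonoidHom.id X from by ext x; simp [mul_assoc], Subgroup.map_id]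
  rwa [e]

theorem hyp_of_isSyl (hW : IsCharPFunctor.{u} p W) {X : Type u} [Group X] [Finite X] {H T : Subgroup X}
    (hT : IsSyl p T H) (h : Hyp W p T) : Hyp W p (hT.toSylowOf : Subgroup H) := by
  refine hyp_map H.subtype H.subtype_injective hT.toSylowOf.2 hW ?_
  rwa [hT.coe_toSylowOf, Subgroup.map_subgroupOf_eq_of_le hT.le]

/-- The facts about a minimal counterexample. -/
structure MinCex (p : ℕ) [Fact p.Prime] (W : ∀ (Q : Type u) [Group Q], Subgroup Q) (X : Type u)
    [Group X] [Finite X] : Prop where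
  not_hnpc : ¬ HasNormalPComplement p X
  constrained : Subgroup.centralizer (pCore p X : Set X) ≤ pCore p X
  quot : HasNormalPComplement p (X ⧸ pCore p X)
  coatom : ∀ T : Sylow p X, IsCoatom (T : Subgroup X)
  not_normal : ∀ T : Sylow p X, ¬ (inducedFunctor W (T : Subgroup X)).Normal

section Step

variable {X : Type u} [Group X] [Finite X] (hW : IsCharPFunctor.{u} p W)
include hW

theorem pPrimeCore_eq_bot (hG : ¬ HasNormalPComplement p X) (P : Sylow p X)
    (hP : Hyp W p (P : Subgroup X))
    (hquot : ∀ (N : Subgroup X) [N.Normal], N ≠ ⊥ → ∀ S : Sylow p (X ⧸ N),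
      Hyp W p (S : Subgroup (X ⧸ N)) → HasNormalPComplement p (X ⧸ N)) :
    pPrimeCore p X = ⊥ := by
  by_contra hne
  have hM : ¬ p ∣ Nat.card (pPrimeCore p X) := Cores.not_dvd_card_pPrimeCore p
  refine hG (hasNormalPComplement_of_quotient_pPrime hM
    (hquot _ hne (P.mapSurjective (QuotientGroup.mk'_surjective _)) ?_))
  have hWp : IsPGroup p (inducedFunctor W (P : Subgroup X)) :=
    P.2.to_le (Subgroup.map_subtype_le _)
  rw [Sylow.coe_mapSurjective]
  refine hnpc_map (QuotientGroup.mk' (pPrimeCore p X)) ?_ hP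
  rw [Section.map_inducedFunctor hW _ (P : Subgroup X) P.2 (by
    rw [QuotientGroup.ker_mk', inf_comm]
    exact (disjoint_of_not_dvd hM P.2).eq_bot)]
  intro x hx
  obtain ⟨y, hy, rfl⟩ := Steps.exists_lift_normalizer (pPrimeCore p X) hWp hM hx
  exact ⟨y, hy, rfl⟩

theorem pCore_ne_bot (hG : ¬ HasNormalPComplement p X) (P₀ : Sylow p X)
    (hP₀ : Hyp W p (P₀ : Subgroup X))
    (hsub : ∀ H : Subgroup X, H ≠ ⊤ → ∀ S : Sylow p H, Hyp W p (S : Subgroup H) →
      HasNormalPComplement p H) : pCore p X ≠ ⊥ := by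
  classical
  intro hcore
  let bad : Set (Subgroup X) := {U | IsPGroup p U ∧ U ≠ ⊥ ∧
    ¬ HasNormalPComplement p (Subgroup.normalizer (U : Set X))}
  have hne : bad.Nonempty := by
    by_contra h
    apply hG
    refine Transfer.Frobenius.hasNormalPComplement_of_forall_centralizes fun Q hQ hQ1 g hg hgp => ?_
    have hN : HasNormalPComplement p (Subgroup.normalizer (Q : Set X)) :=
      by_contra fun hc => h ⟨Q, hQ, hQ1, hc⟩
    have h1 := Transfer.Frobenius.mem_centralizer_of_hasNormalPComplement hN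
      (Q := Q.subgroupOf (Subgroup.normalizer (Q : Set X))) hQ.comap_subtype (g := ⟨g, hg⟩)
      (Subgroup.mem_normalizer_iff.mpr fun x => Subgroup.mem_normalizer_iff.mp hg x)
      (by rwa [Subgroup.orderOf_mk])
    exact Subgroup.mem_centralizer_iff.mpr fun x hx => congrArg Subtype.val
      (Subgroup.mem_centralizer_iff.mp h1 ⟨x, Subgroup.le_normalizer hx⟩ hx)
  obtain ⟨U, ⟨hU, hU1, hUbad⟩, hmax⟩ := Set.exists_max_image bad
    (fun U => (Nat.card (Subgroup.normalizer (U : Set X))).factorization p) (Set.toFinite _) hne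
  set H := Subgroup.normalizer (U : Set X) with hH
  have hHne : H ≠ ⊤ := Reduce.normalizer_ne_top hcore hU hU1
  obtain ⟨T, hUT, hT⟩ := exists_isSyl_ge hU (Subgroup.le_normalizer : U ≤ H)
  have hT1 : T ≠ ⊥ := fun h => hU1 (le_bot_iff.1 (h ▸ hUT))
  apply hUbad
  refine hsub H hHne hT.toSylowOf (hyp_of_isSyl hW hT ?_)
  obtain ⟨P, hTP⟩ := hT.isP.exists_le_sylow
  rcases eq_or_ne T (P : Subgroup X) with hTP' | hTP'
  · rw [hTP']; exact hyp_sylow hW P₀ P hP₀
  by_contra hbad
  have hc := Section.isConjugacyFunctor_induced hW (X := X)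
  have hle := hmax (inducedFunctor W T) ⟨hT.isP.to_le (w_le hc hT.isP), w_ne_bot hc hT.isP hT1, hbad⟩
  have hlt := lt_inf_normalizer P.2 (lt_of_le_of_ne hTP hTP')
  have hN : (P : Subgroup X) ⊓ Subgroup.normalizer (T : Set X) ≤
      Subgroup.normalizer ((inducedFunctor W T : Subgroup X) : Set X) :=
    inf_le_right.trans (normalizer_le_normalizer_w hc hT.isP)
  obtain ⟨k, hk⟩ := IsPGroup.iff_card.1 (P.2.to_le (inf_le_left :
    (P : Subgroup X) ⊓ Subgroup.normalizer (T : Set X) ≤ P))
  obtain ⟨j, hj⟩ := IsPGroup.iff_card.1 hT.isP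
  have hjk : j < k := by
    have : Nat.card T < Nat.card ((P : Subgroup X) ⊓ Subgroup.normalizer (T : Set X) : Subgroup X) :=
      lt_of_le_of_ne (Subgroup.card_le_of_le hlt.le)
        fun h => hlt.ne (Subgroup.eq_of_le_of_card_ge hlt.le h.ge)
    rw [hj, hk] at this
    exact (Nat.pow_lt_pow_iff_right hp.out.one_lt).mp this
  have hk' := (hp.out.pow_dvd_iff_le_factorization Nat.card_pos.ne').mp
    (hk ▸ Subgroup.card_dvd_of_le hN)
  have hj' : j = (Nat.card H).factorization p := by
    have h1 := hT.toSylowOf.card_eq_multiplicity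
    rw [hT.coe_toSylowOf, Nat.card_congr (Subgroup.subgroupOfEquivOfLe hT.le).toEquiv, hj] at h1
    exact Nat.pow_right_injective hp.out.two_le h1
  have hle' : (Nat.card (Subgroup.normalizer ((inducedFunctor W T : Subgroup X) : Set X))).factorization p
      ≤ (Nat.card H).factorization p := hle
  omega

theorem minCex (hG : ¬ HasNormalPComplement p X) (P : Sylow p X) (hP : Hyp W p (P : Subgroup X))
    (hsub : ∀ H : Subgroup X, H ≠ ⊤ → ∀ S : Sylow p H, Hyp W p (S : Subgroup H) →
      HasNormalPComplement p H)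
    (hquot : ∀ (N : Subgroup X) [N.Normal], N ≠ ⊥ → ∀ S : Sylow p (X ⧸ N),
      Hyp W p (S : Subgroup (X ⧸ N)) → HasNormalPComplement p (X ⧸ N)) : MinCex p W X := by
  have hO' := pPrimeCore_eq_bot hW hG P hP hquot
  have hQ1 := pCore_ne_bot hW hG P hP hsub
  have hc := Section.isConjugacyFunctor_induced hW (X := X)
  have hnn : ∀ T : Sylow p X, ¬ (inducedFunctor W (T : Subgroup X)).Normal := fun T hn =>
    hG (hnpc_of_top_le (Subgroup.normalizer_eq_top_iff.2 hn).ge (hyp_sylow hW P T hP))
  have hS : ¬ (P : Subgroup X) ≤ pCore p X := fun hle => by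
    refine hnn P (Subgroup.normalizer_eq_top_iff.1 (top_le_iff.1 ?_))
    have he : (P : Subgroup X) = pCore p X := le_antisymm hle (Cores.pCore_le_sylow P)
    refine le_trans ?_ (normalizer_le_normalizer_w hc P.2)
    rw [he, Subgroup.normalizer_eq_top]
  have hover : ∀ H : Subgroup X, H ≠ ⊤ → ∀ T : Sylow p X, (T : Subgroup X) ≤ H →
      HasNormalPComplement p H := fun H hH T hTH =>
    hsub H hH _ (hyp_of_isSyl hW ((isSyl_top T).mono hTH le_top) (hyp_sylow hW P T hP))
  have hq : HasNormalPComplement p (X ⧸ pCore p X) := by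
    refine hquot _ hQ1 (P.mapSurjective (QuotientGroup.mk'_surjective _)) ?_
    rw [Sylow.coe_mapSurjective]
    have h𝓦 : ∀ V ∈ ({W} : Set (∀ (Q : Type u) [Group Q], Subgroup Q)), IsCharPFunctor.{u} p V := by
      rintro V rfl; exact hW
    obtain ⟨h1, h2⟩ := Reduce.preimage_proper h𝓦 P hS rfl
    refine hnpc_map (QuotientGroup.mk' (pCore p X)) ?_ (hover _ h2 P h1)
    rw [Subgroup.map_comap_eq_self_of_surjective (QuotientGroup.mk'_surjective _)]
  have hcon : Subgroup.centralizer (pCore p X : Set X) ≤ pCore p X := by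
    by_contra hcon
    set π := QuotientGroup.mk' (pCore p X) with hπ
    set M := (pResidual p (X ⧸ pCore p X)).comap π with hM
    set C := Subgroup.centralizer (pCore p X : Set X) with hC
    haveI := Reduce.centralizer_normal (pCore p X)
    have hMp : ¬ p ∣ Nat.card (pResidual p (X ⧸ pCore p X)) :=
      hasNormalPComplement_iff_not_dvd.1 hq
    set D := C ⊓ M with hD
    set Z := pCore p X ⊓ C with hZ
    haveI : (D.subgroupOf D).Normal := inferInstance
    have hPZ : ∀ x : D, (∃ k : ℕ, x ^ p ^ k = 1) → (x : X) ∈ Z := by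
      rintro x ⟨k, hk⟩
      obtain ⟨hxC, hxM⟩ := Subgroup.mem_inf.1 x.2
      refine Subgroup.mem_inf.2 ⟨(QuotientGroup.eq_one_iff (x : X)).1 ?_, hxC⟩
      refine orderOf_eq_one_iff.1 (Nat.eq_one_of_dvd_coprimes
        (((hp.out.coprime_iff_not_dvd).2 hMp).pow_left k) (orderOf_dvd_of_pow_eq_one ?_)
        (Subgroup.orderOf_dvd_natCard _ hxM))
      rw [← QuotientGroup.mk_pow, show (x : X) ^ p ^ k = 1 from by
        simpa using congrArg Subtype.val hk, QuotientGroup.mk_one]
    have hDc : HasNormalPComplement p D := by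
      refine Transfer.Frobenius.hasNormalPComplement_of_forall_centralizes fun Q hQ _ g _ _ => ?_
      rw [Subgroup.mem_centralizer_iff]
      intro y hy
      obtain ⟨k, hk⟩ := hQ ⟨y, hy⟩
      have hyP := (Subgroup.mem_inf.1 (hPZ y ⟨k, congrArg Subtype.val hk⟩)).1
      exact Subtype.ext ((Subgroup.mem_centralizer_iff.1 (Subgroup.mem_inf.1 g.2).1 (y : X) hyP))
    have hDn : D.Normal := Subgroup.normal_inf_normal C M
    have hres : (pResidual p D).map D.subtype ≤ pPrimeCore p X := by
      haveI := Cores.normal_map_subtype D (pResidual p D)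
      refine Cores.le_pPrimeCore_of_not_dvd ?_
      rw [Subgroup.card_map_of_injective D.subtype_injective]
      exact hasNormalPComplement_iff_not_dvd.1 hDc
    have hDP : D ≤ pCore p X := by
      rw [hO', le_bot_iff, Subgroup.map_eq_bot_iff_of_injective _ D.subtype_injective,
        pResidual_eq_bot_iff] at hres
      exact Cores.le_pCore hres
    refine hcon ?_
    have hCp : IsPGroup p (C.map π) := by
      intro x
      obtain ⟨c, hc', hcx⟩ := x.2
      obtain ⟨k, hk⟩ := IsPGroup.iff_orderOf.1 (isPGroup_quotient (p := p) (G := X ⧸ pCore p X))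
        (QuotientGroup.mk (x : X ⧸ pCore p X))
      refine ⟨k, Subtype.ext ?_⟩
      have h1 : π (c ^ p ^ k) ∈ pResidual p (X ⧸ pCore p X) := by
        rw [map_pow, hcx]
        refine (QuotientGroup.eq_one_iff _).1 ?_
        rw [QuotientGroup.mk_pow, ← hk, pow_orderOf_eq_one]
      have h2 : c ^ p ^ k ∈ D := Subgroup.mem_inf.2 ⟨pow_mem hc' _, h1⟩
      show (x : X ⧸ pCore p X) ^ p ^ k = 1
      rw [← hcx, ← map_pow]
      exact (QuotientGroup.eq_one_iff _).2 (hDP h2)
    haveI : (C.map π).Normal :=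
      (inferInstance : C.Normal).map π (QuotientGroup.mk'_surjective _)
    have h3 := Cores.le_pCore hCp
    rw [Cores.pCore_quotient_pCore, le_bot_iff, Subgroup.map_eq_bot_iff, hπ,
      QuotientGroup.ker_mk'] at h3
    exact h3
  refine ⟨hG, hcon, hq, fun T => ⟨fun he => hG ?_, fun H hH => ?_⟩, hnn⟩
  · refine hasNormalPComplement_of_isPGroup ?_
    intro g
    obtain ⟨k, hk⟩ := T.2 ⟨g, by rw [he]; trivial⟩
    exact ⟨k, congrArg Subtype.val hk⟩
  by_contra hHt
  have hH' := hover H hHt T hH.le
  set N := (pResidual p H).map H.subtype with hN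
  have hNp : ¬ p ∣ Nat.card N := by
    rw [hN, Subgroup.card_map_of_injective H.subtype_injective]
    exact hasNormalPComplement_iff_not_dvd.1 hH'
  have hPH : pCore p X ≤ H := (Cores.pCore_le_sylow T).trans hH.le
  have hNC : N ≤ Subgroup.centralizer (pCore p X : Set X) := by
    rintro _ ⟨n, hn, rfl⟩
    rw [Subgroup.mem_centralizer_iff]
    intro y hy
    have hd : Disjoint (pResidual p H) ((pCore p X).subgroupOf H) :=
      disjoint_of_not_dvd (hasNormalPComplement_iff_not_dvd.1 hH')
        (Cores.pCore_isPGroup p).comap_subtype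
    exact (congrArg Subtype.val (Subgroup.commute_of_normal_of_disjoint _ _ inferInstance
      inferInstance hd n ⟨y, hPH hy⟩ hn hy).eq).symm
  have hN1 : N = ⊥ := (disjoint_of_not_dvd hNp (Cores.pCore_isPGroup p)).eq_bot_of_le
    (hNC.trans hcon)
  rw [hN, Subgroup.map_eq_bot_iff_of_injective _ H.subtype_injective, pResidual_eq_bot_iff] at hN1
  exact hH.ne (T.3 hN1 hH.le).symm

end Step

/-- Induction over the sections. -/
theorem hnpc_of_minCex (hW : IsCharPFunctor.{u} p W) {G : Type u} [Group G] [Finite G]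
    (h : ∀ (K R : Subgroup G) [(R.subgroupOf K).Normal],
      MinCex p W (↥K ⧸ R.subgroupOf K) → False)
    (X : Type u) [Group X] [Finite X] (hX : Section.IsSection X G) (P : Sylow p X)
    (hP : Hyp W p (P : Subgroup X)) : HasNormalPComplement p X := by
  induction hn : Nat.card X using Nat.strong_induction_on generalizing X with
  | _ n ih =>
    subst hn
    obtain ⟨K, R, hN, ⟨e⟩⟩ := hX.exists_iso
    haveI := hN
    refine (hasNormalPComplement_congr e).1 ?_
    by_contra hG
    set P' : Sylow p (↥K ⧸ R.subgroupOf K) :=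
      P.mapSurjective (f := e.symm.toMonoidHom) e.symm.surjective with hP'def
    have hP' : Hyp W p (P' : Subgroup (↥K ⧸ R.subgroupOf K)) := by
      refine hyp_map e.toMonoidHom e.injective P'.2 hW ?_
      rw [show (P' : Subgroup (↥K ⧸ R.subgroupOf K)) = (P : Subgroup X).map e.symm.toMonoidHom from
        Sylow.coe_mapSurjective _ _]
      rwa [Subgroup.map_map,
        show e.toMonoidHom.comp e.symm.toMonoidHom = MonoidHom.id X from by ext x; simp,
        Subgroup.map_id]
    refine h K R (minCex hW hG P' hP' (fun H hH S hS => ?_) fun N _ hN' S hS => ?_)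
    · exact ih _ (Nat.card_congr e.toEquiv ▸ Reduce.card_subgroup_lt hH) H
        ((Section.isSection_quot K R).subgroup H) S hS rfl
    · exact ih _ (Nat.card_congr e.toEquiv ▸ Reduce.card_quotient_lt hN') _
        ((Section.isSection_quot K R).quotient (QuotientGroup.mk' N)
          (QuotientGroup.mk'_surjective N)) S hS rfl

end Cfsg.Agent.Lib.ConjFunctor.PNilpotent
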