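import Cfsg.Agent.Lib.ConjFunctor.Section
import Cfsg.Prelude.Def_LocalEven
import Cfsg.Agent.Lib.Quadratic.QdProps
import Cfsg.Agent.Lib.Linear.Unipotent

/-!
# No set of isomorphism-invariant functors controls strong fusion in `Qd(p)`
-/

set_option autoImplicit false
set_option linter.unusedSectionVars false

open Cfsg

namespace Cfsg.Agent.Lib.ConjFunctor.QdFusion

open Cfsg.Agent.Lib.Quadratic
open Matrix

universe u

variable {p : ℕ} [hp : Fact p.Prime]

local notation "SL2" => Matrix.SpecialLinearGroup (Fin 2) (ZMod p)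

/-- `[[1, a], [0, 1]]` over `ZMod p`. -/
def upz (a : ZMod p) : SL2 := ⟨!![1, a; 0, 1], by simp [Matrix.det_fin_two]⟩

theorem upz_add (a b : ZMod p) : upz (a + b) = upz a * upz b := by
  apply Subtype.ext
  rw [Matrix.SpecialLinearGroup.coe_mul]
  simp [upz, add_comm]

theorem upz_zero : upz (0 : ZMod p) = 1 := by
  apply Subtype.ext
  simp [upz, Matrix.one_fin_two]

/-- The unipotent subgroup as a homomorphism. -/
def upHom (p : ℕ) [Fact p.Prime] : Multiplicative (ZMod p) →* Matrix.SpecialLinearGroup (Fin 2) (ZMod p) :=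
  MonoidHom.mk' (fun a => upz (Multiplicative.toAdd a)) fun a b => upz_add (Multiplicative.toAdd a) (Multiplicative.toAdd b)

theorem range_upHom : (upHom p).range = (Linear.uSL (F := ZMod p)).range := by
  ext x
  constructor
  · rintro ⟨a, rfl⟩; exact ⟨a, Subtype.ext ((Linear.coe_uSL a).trans rfl)⟩
  · rintro ⟨a, rfl⟩; exact ⟨a, Subtype.ext ((Linear.coe_uSL a).trans rfl).symm⟩

theorem range_upHom_index : ¬ p ∣ (upHom p).range.index := by
  rw [range_upHom]
  exact (Linear.sylowU_SL (F := ZMod p) p).not_dvd_index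

theorem range_upHom_isPGroup : IsPGroup p (upHom p).range := by
  refine IsPGroup.of_surjective ?_ (upHom p).rangeRestrict (upHom p).rangeRestrict_surjective
  intro a
  refine ⟨1, ?_⟩
  rw [pow_one, ← toAdd_eq_zero, toAdd_pow, nsmul_eq_mul, ZMod.natCast_self, zero_mul]

/-- Coordinates on the standard Sylow subgroup. -/
def M (a b c : ZMod p) : Cfsg.qd p := ⟨affine (upz a) ![c, b], affine_mem_qd _ _⟩

theorem coe_M (a b c : ZMod p) :
    ((M a b c : Cfsg.qd p) : Matrix.SpecialLinearGroup (Fin 3) (ZMod p)).1 =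
      !![1, a, c; 0, 1, b; 0, 0, 1] := by
  show (affine (upz a) ![c, b]).1 = _
  rw [coe_affine]
  simp [upz]

theorem M_inj {a b c a' b' c' : ZMod p} (h : M a b c = M a' b' c') : a = a' ∧ b = b' ∧ c = c' := by
  have h' := congrArg (fun x : Cfsg.qd p => (x : Matrix.SpecialLinearGroup (Fin 3) (ZMod p)).1) h
  simp only [coe_M] at h'
  exact ⟨by simpa using congrFun (congrFun h' 0) 1, by simpa using congrFun (congrFun h' 1) 2,
    by simpa using congrFun (congrFun h' 0) 2⟩

theorem M_mul (a b c a' b' c' : ZMod p) :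
    M a b c * M a' b' c' = M (a + a') (b + b') (c + c' + a * b') := by
  apply Subtype.ext
  show affine (upz a) ![c, b] * affine (upz a') ![c', b'] = affine (upz (a + a')) _
  rw [affine_mul, upz_add]
  congr 1
  ext i
  fin_cases i <;> simp [upz, Matrix.mulVec, dotProduct, Fin.sum_univ_two, add_assoc, mul_comm]

theorem M_zero : M (0 : ZMod p) 0 0 = 1 := by
  apply Subtype.ext
  show affine (upz (0 : ZMod p)) ![(0 : ZMod p), 0] = 1
  rw [upz_zero, show (![(0 : ZMod p), 0] : Fin 2 → ZMod p) = 0 by ext i; fin_cases i <;> simp]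
  exact affine_one

theorem M_inv (a b c : ZMod p) : (M a b c)⁻¹ = M (-a) (-b) (a * b - c) := by
  refine inv_eq_of_mul_eq_one_right ?_
  rw [M_mul, add_neg_cancel, add_neg_cancel, show c + (a * b - c) + a * -b = 0 by ring, M_zero]

/-- The standard Sylow subgroup of a copy of `Qd(p)`. -/
noncomputable def upper {X : Type u} [Group X] (e : X ≃* Cfsg.qd p) : Subgroup X :=
  (upHom p).range.comap ((linPart p).comp e.toMonoidHom)

theorem mem_upper {X : Type u} [Group X] (e : X ≃* Cfsg.qd p) {x : X} :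
    x ∈ upper e ↔ ∃ a b c, e x = M a b c := by
  constructor
  · rintro ⟨t, ht⟩
    obtain ⟨A, v, hv⟩ := exists_affine_of_mem_qd (e x).2
    have hx : e x = ⟨affine A v, affine_mem_qd A v⟩ := Subtype.ext hv
    have hA : A = upz (Multiplicative.toAdd t) := by
      show A = upHom p t
      rw [ht]
      show A = linPart p (e x)
      rw [hx, linPart_affine]
    refine ⟨Multiplicative.toAdd t, v 1, v 0, hx.trans (Subtype.ext ?_)⟩
    show affine A v = affine (upz _) ![v 0, v 1]
    rw [hA]
    congr 1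
    ext i
    fin_cases i <;> simp
  · rintro ⟨a, b, c, h⟩
    refine ⟨Multiplicative.ofAdd a, ?_⟩
    show _ = linPart p (e x)
    rw [h]
    exact (linPart_affine _ _).symm

/-- A fusion in `Qd(p)` not realised in any `N(W S)`. -/
theorem exists_witness {X : Type u} [Group X] [Finite X] (e : X ≃* Cfsg.qd p) :
    ∃ (S : Sylow p X) (z h : X) (B : Subgroup X), z ∈ pCore p X ∧ h * z * h⁻¹ ∈ pCore p X ∧
      (∀ y ∈ B, y * z * y⁻¹ ≠ h * z * h⁻¹) ∧
      ∀ W : ∀ (Q : Type u) [Group Q], Subgroup Q, IsCharPFunctor.{u} p W →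
        Subgroup.normalizer ((inducedFunctor W (S : Subgroup X) : Subgroup X) : Set X) ≤ B := by
  set π : X →* SL2 := (linPart p).comp e.toMonoidHom with hπ
  have hπs : Function.Surjective π := linPart_surjective.comp e.surjective
  set S := upper e with hS
  have hSp : IsPGroup p S := by
    refine IsPGroup.comap_of_ker_isPGroup ?_ π ?_
    · exact range_upHom_isPGroup
    · intro z
      obtain ⟨k, hk⟩ := isPGroup_trans (p := p) ⟨e z, by rw [transHom_ker_linPart]; exact z.2⟩
      refine ⟨k, Subtype.ext (e.injective ?_)⟩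
      have h' := congrArg Subtype.val hk
      simp only [SubmonoidClass.coe_pow, OneMemClass.coe_one] at h' ⊢
      rw [map_pow, map_one]; exact h'
  have hSi : ¬ p ∣ S.index := by
    rw [hS, upper, Subgroup.index_comap_of_surjective _ hπs]
    exact range_upHom_index
  set T : Sylow p X := hSp.toSylow hSi with hT
  set f : ZMod p → ZMod p → ZMod p → X := fun a b c => e.symm (M a b c) with hf
  have hfmem : ∀ a b c, f a b c ∈ S := fun a b c =>
    (mem_upper e).2 ⟨a, b, c, e.apply_symm_apply _⟩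
  have hexf : ∀ x ∈ S, ∃ a b c, x = f a b c := by
    intro x hx
    obtain ⟨a, b, c, h⟩ := (mem_upper e).1 hx
    exact ⟨a, b, c, e.injective (by rw [h, hf, e.apply_symm_apply])⟩
  have hmul : ∀ a b c a' b' c', f a b c * f a' b' c' = f (a + a') (b + b') (c + c' + a * b') := by
    intro a b c a' b' c'
    simp only [hf]
    rw [← map_mul, M_mul]
  have hinv : ∀ a b c, (f a b c)⁻¹ = f (-a) (-b) (a * b - c) := by
    intro a b c
    simp only [hf]
    rw [← map_inv, M_inv]
  -- the automorphism of `S` exchanging the two elementary abelian subgroups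
  let co : S → ZMod p × ZMod p × ZMod p := fun x =>
    let m := ((e (x : X) : Cfsg.qd p) : Matrix.SpecialLinearGroup (Fin 3) (ZMod p)).1
    (m 0 1, m 1 2, m 0 2)
  have hco : ∀ a b c, co ⟨f a b c, hfmem a b c⟩ = (a, b, c) := by
    intro a b c
    simp [co, hf, coe_M]
  let th0 : S → S := fun x => ⟨f (co x).2.1 (co x).1 ((co x).1 * (co x).2.1 - (co x).2.2), hfmem _ _ _⟩
  obtain ⟨th, hth'⟩ : ∃ th : S → S, th = th0 := ⟨_, rfl⟩
  have hth : ∀ a b c, th ⟨f a b c, hfmem a b c⟩ = ⟨f b a (a * b - c), hfmem _ _ _⟩ := by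
    intro a b c
    rw [hth']
    simp only [th0, hco]
  have hrep : ∀ x : S, ∃ a b c, x = ⟨f a b c, hfmem a b c⟩ := fun x => by
    obtain ⟨a, b, c, h⟩ := hexf x x.2
    exact ⟨a, b, c, Subtype.ext h⟩
  let θ : S ≃* S :=
    { toFun := th
      invFun := th
      left_inv := fun x => by
        obtain ⟨a, b, c, rfl⟩ := hrep x
        show th (th _) = _
        rw [hth, hth]
        exact Subtype.ext (congrArg (f a b) (by ring))
      right_inv := fun x => by
        obtain ⟨a, b, c, rfl⟩ := hrep x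
        show th (th _) = _
        rw [hth, hth]
        exact Subtype.ext (congrArg (f a b) (by ring))
      map_mul' := fun x y => by
        obtain ⟨a, b, c, rfl⟩ := hrep x
        obtain ⟨a', b', c', rfl⟩ := hrep y
        have h1 : (⟨f a b c, hfmem a b c⟩ : S) * ⟨f a' b' c', hfmem a' b' c'⟩ =
            ⟨f (a + a') (b + b') (c + c' + a * b'), hfmem _ _ _⟩ := Subtype.ext (hmul _ _ _ _ _ _)
        rw [h1, hth, hth, hth]
        refine Subtype.ext ?_
        rw [Subgroup.coe_mul, hmul]
        exact congrArg (f (b + b') (a + a')) (by ring) }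
  -- every step fixes the line spanned by `f 0 0 1`
  have hstep : ∀ (W : ∀ (Q : Type u) [Group Q], Subgroup Q), IsCharPFunctor.{u} p W →
      ∀ g ∈ Subgroup.normalizer ((inducedFunctor W S : Subgroup X) : Set X), (π g).1 1 0 = 0 := by
    intro W hW g hgW
    set V := inducedFunctor W S with hV
    have hVS : V ≤ S := Subgroup.map_subtype_le _
    have hθ : ∀ a b c, f a b c ∈ V → f b a (a * b - c) ∈ V := by
      rintro a b c ⟨x, hx, hxe⟩
      obtain rfl : x = ⟨f a b c, hfmem a b c⟩ := Subtype.ext hxe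
      refine ⟨θ ⟨f a b c, hfmem a b c⟩, ?_, by
        show ((th _ : S) : X) = _
        rw [hth]⟩
      have h2 : (W ↥S).map θ.toMonoidHom = W ↥S := hW.2 _ _ hSp θ
      rw [← h2]
      exact ⟨_, hx, rfl⟩
    haveI : (W ↥S).Normal := by
      haveI : (W ↥S).Characteristic :=
        Subgroup.characteristic_iff_map_eq.2 fun φ => hW.2 _ _ hSp φ
      infer_instance
    have hnorm : ∀ s ∈ S, ∀ v ∈ V, s * v * s⁻¹ ∈ V := by
      rintro s hs _ ⟨v, hv, rfl⟩
      exact ⟨⟨s, hs⟩ * v * ⟨s, hs⟩⁻¹, Subgroup.Normal.conj_mem inferInstance v hv _, rfl⟩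
    obtain ⟨c, hc, hcV⟩ : ∃ c : ZMod p, c ≠ 0 ∧ f 0 0 c ∈ V := by
      have hne : Nontrivial S := by
        refine ⟨⟨⟨f 0 0 1, hfmem _ _ _⟩, 1, fun h => ?_⟩⟩
        have h' := congrArg (fun x : S => e (x : X)) h
        simp only [hf, e.apply_symm_apply, OneMemClass.coe_one, map_one] at h'
        exact one_ne_zero (M_inj (h'.trans M_zero.symm)).2.2
      obtain ⟨w, hw, hw1⟩ : ∃ w ∈ V, w ≠ 1 := by
        by_contra h
        push Not at h
        refine hW.1 _ hSp hne ((Subgroup.eq_bot_iff_forall _).2 fun x hx => ?_)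
        exact Subtype.ext (h x ⟨x, hx, rfl⟩)
      obtain ⟨a, b, c, rfl⟩ := hexf w (hVS hw)
      by_cases hb : b = 0
      · by_cases ha : a = 0
        · refine ⟨c, fun hc => hw1 ?_, by rwa [ha, hb] at hw⟩
          rw [ha, hb, hc, hf]
          simp [M_zero]
        · refine ⟨-a, neg_ne_zero.2 ha, ?_⟩
          have h3 := V.mul_mem (hnorm _ (hfmem 0 1 0) _ hw) (V.inv_mem hw)
          rw [hinv, hinv, hmul, hmul, hmul] at h3
          subst hb
          convert h3 using 2 <;> ring
      · refine ⟨b, hb, ?_⟩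
        have h3 := V.mul_mem (hnorm _ (hfmem 1 0 0) _ hw) (V.inv_mem hw)
        rw [hinv, hinv, hmul, hmul, hmul] at h3
        convert h3 using 2 <;> ring
    by_contra h10
    obtain ⟨A, v, hAv⟩ := exists_affine_of_mem_qd (e g).2
    have heg : e g = ⟨affine A v, affine_mem_qd A v⟩ := Subtype.ext hAv
    have hπg : π g = A := by
      show linPart p (e g) = A
      rw [heg, linPart_affine]
    rw [hπg] at h10
    have h1 : g * f 0 0 c * g⁻¹ = f 0 (A.1 1 0 * c) (A.1 0 0 * c) := by
      refine e.injective ?_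
      rw [map_mul, map_mul, map_inv, mul_inv_eq_iff_eq_mul]
      simp only [hf, e.apply_symm_apply, heg]
      apply Subtype.ext
      show affine A v * affine (upz (0 : ZMod p)) ![c, 0] =
        affine (upz (0 : ZMod p)) ![A.1 0 0 * c, A.1 1 0 * c] * affine A v
      rw [upz_zero, affine_mul, affine_mul, mul_one, one_mul]
      congr 1
      ext i
      fin_cases i <;> simp [Matrix.mulVec, dotProduct, Fin.sum_univ_two, add_comm]
    have h2 := hθ _ _ _ (h1 ▸ (Subgroup.mem_normalizer_iff.1 hgW _).1 hcV)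
    have h3 : g * f (A.1 1 0 * c) 0 (0 * (A.1 1 0 * c) - A.1 0 0 * c) * g⁻¹ ∈ S :=
      hVS ((Subgroup.mem_normalizer_iff.1 hgW _).1 h2)
    obtain ⟨a', b', c', h4⟩ := hexf _ h3
    have h5 := congrArg π h4
    rw [map_mul, map_mul, map_inv, hπg] at h5
    simp only [hπ, hf, MonoidHom.comp_apply, MulEquiv.coe_toMonoidHom, e.apply_symm_apply] at h5
    rw [show linPart p (M (A.1 1 0 * c) 0 _) = upz (A.1 1 0 * c) from linPart_affine _ _,
      show linPart p (M a' b' c') = upz a' from linPart_affine _ _] at h5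
    rw [mul_inv_eq_iff_eq_mul] at h5
    have h6 := congrArg (fun B : SL2 => B.1 1 1) h5
    simp only [Matrix.SpecialLinearGroup.coe_mul] at h6
    simp [upz, Matrix.mul_apply, Fin.sum_univ_two] at h6
    exact h6.elim h10 hc
  -- the involution exchanging the two coordinates
  let w : SL2 := ⟨!![0, -1; 1, 0], by simp [Matrix.det_fin_two]⟩
  set h : X := e.symm ⟨affine w 0, affine_mem_qd w 0⟩ with hh
  have h1 : h * f 0 0 1 * h⁻¹ = f 0 1 0 := by
    refine e.injective ?_
    rw [map_mul, map_mul, map_inv, mul_inv_eq_iff_eq_mul]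
    simp only [hh, hf, e.apply_symm_apply]
    apply Subtype.ext
    show affine w 0 * affine (upz (0 : ZMod p)) ![1, 0] =
      affine (upz (0 : ZMod p)) ![0, 1] * affine w 0
    rw [upz_zero, affine_mul, affine_mul, mul_one, one_mul]
    congr 1
    ext i
    fin_cases i <;> simp [w, Matrix.mulVec, dotProduct, Fin.sum_univ_two]
  let B : Subgroup X :=
    { carrier := {g | (π g).1 1 0 = 0}
      one_mem' := by simp
      mul_mem' := fun {x y} hx hy => by
        simp only [Set.mem_setOf_eq] at hx hy ⊢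
        rw [map_mul, Matrix.SpecialLinearGroup.coe_mul]
        simp [Matrix.mul_apply, Fin.sum_univ_two, hx, hy]
      inv_mem' := fun {x} hx => by
        simp only [Set.mem_setOf_eq] at hx ⊢
        rw [map_inv]
        simp [Matrix.SpecialLinearGroup.coe_inv, Matrix.adjugate_fin_two, hx] }
  haveI : π.ker.Normal := inferInstance
  have hker : π.ker ≤ pCore p X := by
    refine Cores.le_pCore ?_
    intro z
    obtain ⟨k, hk⟩ := isPGroup_trans (p := p) ⟨e z, by rw [transHom_ker_linPart]; exact z.2⟩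
    refine ⟨k, Subtype.ext (e.injective ?_)⟩
    have h' := congrArg Subtype.val hk
    simp only [SubmonoidClass.coe_pow, OneMemClass.coe_one] at h' ⊢
    rw [map_pow, map_one]; exact h'
  have hkm : ∀ b c, f 0 b c ∈ π.ker := fun b c => by
    rw [MonoidHom.mem_ker]
    show linPart p (e (e.symm (M 0 b c))) = 1
    rw [e.apply_symm_apply, ← upz_zero]
    exact linPart_affine _ _
  refine ⟨T, f 0 0 1, h, B, hker (hkm 0 1), by rw [h1]; exact hker (hkm 1 0), fun y hy h2 => ?_,
    fun W hW g hg => hstep W hW g hg⟩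
  rw [h1] at h2
  obtain ⟨A, v, hAv⟩ := exists_affine_of_mem_qd (e y).2
  have hey : e y = ⟨affine A v, affine_mem_qd A v⟩ := Subtype.ext hAv
  have hA : A.1 1 0 = 0 := by
    have := hy
    change (linPart p (e y)).1 1 0 = 0 at this
    rwa [hey, linPart_affine] at this
  have h3 : y * f 0 0 1 = f 0 1 0 * y := mul_inv_eq_iff_eq_mul.1 h2
  have h4 := congrArg e h3
  rw [map_mul, map_mul] at h4
  simp only [hf, e.apply_symm_apply, hey] at h4
  have h5 := congrArg Subtype.val h4
  change affine A v * affine (upz (0 : ZMod p)) ![1, 0] =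
    affine (upz (0 : ZMod p)) ![0, 1] * affine A v at h5
  rw [upz_zero, affine_mul, affine_mul] at h5
  have h6 := congrFun (affine_inj h5).2 1
  simp [Matrix.mulVec, dotProduct, Fin.sum_univ_two, hA] at h6

/-- No set of isomorphism-invariant functors controls strong fusion in `Qd(p)`. -/
theorem not_sf {X : Type u} [Group X] [Finite X] (e : X ≃* Cfsg.qd p)
    {𝓦 : Set (∀ (Q : Type u) [Group Q], Subgroup Q)} (h𝓦 : ∀ W ∈ 𝓦, IsCharPFunctor.{u} p W) :
    ¬ Section.SF 𝓦 p X := by
  intro hsf
  obtain ⟨S, z, h, B, hz, hhz, hB, hN⟩ := exists_witness e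
  obtain ⟨y, hy, hye⟩ := (hsf S {z} h trivial
    (Set.singleton_subset_iff.2 (Cores.pCore_le_sylow S hz)) (by
      rintro _ ⟨_, rfl, rfl⟩
      exact Cores.pCore_le_sylow S hhz)).collapse (N := B) (fun x hx => by
        obtain ⟨_, ⟨W, hW, rfl⟩, -, hx⟩ := Local.mem_stepSet_nFam.1 hx
        exact hN W (h𝓦 W hW) hx)
  exact hB y hy (hye z rfl)

/-- `Qd(p)` defeats control of strong fusion by any single functor. -/
theorem not_controlsStrongFusion {X : Type u} [Group X] [Finite X] (e : X ≃* Cfsg.qd p)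
    {W : ∀ (Q : Type u) [Group Q], Subgroup Q} (hW : IsCharPFunctor.{u} p W) :
    ∃ S : Sylow p X, ∀ T : Sylow p X, ¬ ∀ A : Set X, A ⊆ (T : Subgroup X) →
      ControlsStrongFusionOf (Subgroup.normalizer (inducedFunctor W (S : Subgroup X) : Set X))
        (T : Subgroup X) A := by
  obtain ⟨S, z, h, B, hz, hhz, hB, hN⟩ := exists_witness e
  refine ⟨S, fun T hT => ?_⟩
  obtain ⟨x, hx, hxe⟩ := (hT {z} (Set.singleton_subset_iff.2 (Cores.pCore_le_sylow T hz))).2 h (by
    rintro _ ⟨_, rfl, rfl⟩
    exact Cores.pCore_le_sylow T hhz)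
  exact hB x (hN W hW hx) (hxe z rfl).symm

end Cfsg.Agent.Lib.ConjFunctor.QdFusion
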