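import Cfsg.Agent.Lib.ConjFunctor.Basic

/-!
# Chains of conjugations inside a subgroup

`Reach X T A h`: the map `a ↦ h a h⁻¹` on `A` is the composite of a chain of conjugations by elements
of `X` that keeps the images of `A` inside `T`.
`SFIn p Φ H`, `TrIn p Φ H`: control of strong fusion and of transfer by a set `Φ` of maps sending a
`p`-subgroup `Q` to a "control subgroup" (a normalizer of `W Q`, or a centralizer).
-/

set_option autoImplicit false
set_option linter.unusedSectionVars false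

open Cfsg
open Cfsg.Agent.Lib.Fusion.Alperin
open Cfsg.Agent.Lib.ConjFunctor.Basic

namespace Cfsg.Agent.Lib.ConjFunctor.Reach

variable {G : Type*} [Group G] {p : ℕ}

/-- Image of a set under conjugation. -/
def cimg (g : G) (A : Set G) : Set G := (fun a => g * a * g⁻¹) '' A

theorem mem_cimg {g : G} {A : Set G} {a : G} (ha : a ∈ A) : g * a * g⁻¹ ∈ cimg g A := ⟨a, ha, rfl⟩

theorem cimg_mul (g h : G) (A : Set G) : cimg (g * h) A = cimg g (cimg h A) := by
  unfold cimg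
  rw [Set.image_image]
  exact Set.image_congr fun a _ => by group

theorem cimg_one (A : Set G) : cimg 1 A = A := by
  unfold cimg; simp

theorem cimg_congr {g h : G} {A : Set G} (e : ∀ a ∈ A, g * a * g⁻¹ = h * a * h⁻¹) :
    cimg g A = cimg h A :=
  Set.image_congr e

theorem cimg_mono {g : G} {A B : Set G} (h : A ⊆ B) : cimg g A ⊆ cimg g B := Set.image_mono h

theorem cimg_coe (g : G) (A : Subgroup G) : cimg g (A : Set G) = (conjS g A : Set G) := rfl

theorem cimg_subset_of_le {g : G} {A : Set G} {B C : Subgroup G} (hA : A ⊆ B)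
    (h : conjS g B ≤ C) : cimg g A ⊆ C :=
  (cimg_mono hA).trans h

theorem cimg_subset_self {g : G} {A : Set G} {B : Subgroup G} (hA : A ⊆ B)
    (hg : g ∈ Subgroup.normalizer (B : Set G)) : cimg g A ⊆ B :=
  cimg_subset_of_le hA (conjS_eq_of_mem_normalizer hg).le

/-- The chain relation. -/
inductive Chain (X : Set G) (T : Subgroup G) (A : Set G) : G → Prop
  | refl {h : G} (hA : A ⊆ T) (e : ∀ a ∈ A, h * a * h⁻¹ = a) : Chain X T A h
  | step {x g h : G} (hg : Chain X T A g) (hx : x ∈ X) (hT : cimg (x * g) A ⊆ T)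
      (e : ∀ a ∈ A, (x * g) * a * (x * g)⁻¹ = h * a * h⁻¹) : Chain X T A h

namespace Chain

variable {X Y : Set G} {T : Subgroup G} {A B : Set G} {g h : G}

theorem src (c : Chain X T A h) : A ⊆ T := by
  induction c with
  | refl hA _ => exact hA
  | step _ _ _ _ ih => exact ih

theorem dst (c : Chain X T A h) : cimg h A ⊆ T := by
  cases c with
  | refl hA e => rw [cimg_congr (h := (1 : G)) (by simpa using e), cimg_one]; exact hA
  | step _ _ hT e => rw [← cimg_congr e]; exact hT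

theorem congr (c : Chain X T A g) (e : ∀ a ∈ A, g * a * g⁻¹ = h * a * h⁻¹) : Chain X T A h := by
  cases c with
  | refl hA e' => exact .refl hA fun a ha => (e a ha).symm.trans (e' a ha)
  | step hg hx hT e' => exact .step hg hx hT fun a ha => (e' a ha).trans (e a ha)

theorem single {x : G} (hx : x ∈ X) (hA : A ⊆ T) (hxA : cimg x A ⊆ T) : Chain X T A x :=
  .step (g := 1) (x := x) (.refl hA (by simp)) hx (by simpa using hxA) (by simp)

theorem comp (c₁ : Chain X T A g) (c₂ : Chain X T (cimg g A) h) : Chain X T A (h * g) := by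
  induction c₂ with
  | @refl h' _ e =>
    refine c₁.congr fun a ha => ?_
    calc g * a * g⁻¹ = h' * (g * a * g⁻¹) * h'⁻¹ := (e _ (mem_cimg ha)).symm
      _ = h' * g * a * (h' * g)⁻¹ := by group
  | @step x g₂ h' _ hx hT e ih =>
    refine .step ih hx (by rw [← mul_assoc, cimg_mul]; exact hT) fun a ha => ?_
    calc x * (g₂ * g) * a * (x * (g₂ * g))⁻¹ = x * g₂ * (g * a * g⁻¹) * (x * g₂)⁻¹ := by group
      _ = h' * (g * a * g⁻¹) * h'⁻¹ := e _ (mem_cimg ha)
      _ = h' * g * a * (h' * g)⁻¹ := by group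

theorem mono (c : Chain X T A h) (hBA : B ⊆ A) : Chain X T B h := by
  induction c with
  | refl hA e => exact .refl (hBA.trans hA) fun a ha => e a (hBA ha)
  | step _ hx hT e ih =>
    exact .step ih hx ((cimg_mono hBA).trans hT) fun a ha => e a (hBA ha)

/-- Replace each step by a chain. -/
theorem bind {T' : Subgroup G} (c : Chain X T A h) (hTT : T ≤ T')
    (f : ∀ x ∈ X, ∀ B : Set G, B ⊆ T → cimg x B ⊆ T → Chain Y T' B x) : Chain Y T' A h := by
  induction c with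
  | refl hA e => exact .refl (hA.trans hTT) e
  | @step x g₀ h' hg hx hT e ih =>
    exact (ih.comp (f x hx _ hg.dst (by rw [← cimg_mul]; exact hT))).congr e

theorem weaken {T' : Subgroup G} (c : Chain X T A h) (hXY : X ⊆ Y) (hTT : T ≤ T') :
    Chain Y T' A h :=
  c.bind hTT fun _ hx _ hB hxB => single (hXY hx) (hB.trans hTT) (hxB.trans hTT)

/-- Chains that stay inside one subgroup of steps collapse. -/
theorem collapse {N : Subgroup G} (c : Chain X T A h) (hX : X ⊆ N) :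
    ∃ x ∈ N, ∀ a ∈ A, x * a * x⁻¹ = h * a * h⁻¹ := by
  induction c with
  | refl _ e => exact ⟨1, one_mem _, fun a ha => by simp [e a ha]⟩
  | @step x g₀ h' _ hx _ e ih =>
    obtain ⟨y, hy, hey⟩ := ih
    refine ⟨x * y, mul_mem (hX hx) hy, fun a ha => ?_⟩
    calc x * y * a * (x * y)⁻¹ = x * (y * a * y⁻¹) * x⁻¹ := by group
      _ = x * (g₀ * a * g₀⁻¹) * x⁻¹ := by rw [hey a ha]
      _ = x * g₀ * a * (x * g₀)⁻¹ := by group
      _ = h' * a * h'⁻¹ := e a ha

/-- A chain as a finite sequence. -/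
theorem exists_seq (c : Chain X T A h) :
    ∃ (n : ℕ) (s : Fin (n + 1) → G), s 0 = 1 ∧
      (∀ i : Fin n, s i.succ * (s i.castSucc)⁻¹ ∈ X) ∧ (∀ i, cimg (s i) A ⊆ T) ∧
      ∀ a ∈ A, s (Fin.last n) * a * (s (Fin.last n))⁻¹ = h * a * h⁻¹ := by
  induction c with
  | refl hA e =>
    exact ⟨0, fun _ => 1, rfl, fun i => i.elim0, fun _ => by rwa [cimg_one],
      fun a ha => by simp [e a ha]⟩
  | @step x g₀ h' hg hx hT e ih =>
    obtain ⟨n, s, h0, hstep, himg, hlast⟩ := ih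
    have key : ∀ a ∈ A, x * s (Fin.last n) * a * (x * s (Fin.last n))⁻¹ =
        x * g₀ * a * (x * g₀)⁻¹ := fun a ha => by
      calc x * s (Fin.last n) * a * (x * s (Fin.last n))⁻¹
          = x * (s (Fin.last n) * a * (s (Fin.last n))⁻¹) * x⁻¹ := by group
        _ = x * (g₀ * a * g₀⁻¹) * x⁻¹ := by rw [hlast a ha]
        _ = x * g₀ * a * (x * g₀)⁻¹ := by group
    refine ⟨n + 1, Fin.snoc s (x * s (Fin.last n)), ?_, ?_, ?_, ?_⟩
    · rw [← Fin.castSucc_zero, Fin.snoc_castSucc, h0]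
    · intro i
      refine Fin.lastCases ?_ (fun j => ?_) i
      · rw [Fin.succ_last, Fin.snoc_last, Fin.snoc_castSucc]; simpa using hx
      · rw [Fin.succ_castSucc, Fin.snoc_castSucc, Fin.snoc_castSucc]; exact hstep j
    · intro i
      refine Fin.lastCases ?_ (fun j => ?_) i
      · rw [Fin.snoc_last, cimg_congr key]; exact hT
      · rw [Fin.snoc_castSucc]; exact himg j
    · rw [Fin.snoc_last]; exact fun a ha => (key a ha).trans (e a ha)

theorem of_seq {n : ℕ} (s : Fin (n + 1) → G) (h0 : s 0 = 1)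
    (hstep : ∀ i : Fin n, s i.succ * (s i.castSucc)⁻¹ ∈ X) (himg : ∀ i, cimg (s i) A ⊆ T)
    (hlast : ∀ a ∈ A, s (Fin.last n) * a * (s (Fin.last n))⁻¹ = h * a * h⁻¹) :
    Chain X T A h := by
  suffices H : ∀ i : Fin (n + 1), Chain X T A (s i) from (H (Fin.last n)).congr hlast
  intro i
  induction i using Fin.induction with
  | zero => rw [h0]; exact .refl (by simpa [h0, cimg_one] using himg 0) (by simp)
  | succ i ih =>
    exact .step ih (hstep i) (by simpa using himg i.succ) (by simp)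

theorem conj (m : G) (c : Chain X T A h) :
    Chain (cimg m X) (conjS m T) (cimg m A) (m * h * m⁻¹) := by
  induction c with
  | @refl h' hA e =>
    refine .refl (cimg_mono hA) ?_
    rintro _ ⟨a, ha, rfl⟩
    calc m * h' * m⁻¹ * (m * a * m⁻¹) * (m * h' * m⁻¹)⁻¹ = m * (h' * a * h'⁻¹) * m⁻¹ := by group
      _ = m * a * m⁻¹ := by rw [e a ha]
  | @step x g₀ h' hg hx hT e ih =>
    refine .step ih (mem_cimg hx) ?_ ?_
    · rw [show m * x * m⁻¹ * (m * g₀ * m⁻¹) = m * (x * g₀) * m⁻¹ by group, ← cimg_mul,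
        show m * (x * g₀) * m⁻¹ * m = m * (x * g₀) by group, cimg_mul]
      exact cimg_mono hT
    · rintro _ ⟨a, ha, rfl⟩
      calc m * x * m⁻¹ * (m * g₀ * m⁻¹) * (m * a * m⁻¹) * (m * x * m⁻¹ * (m * g₀ * m⁻¹))⁻¹
          = m * (x * g₀ * a * (x * g₀)⁻¹) * m⁻¹ := by group
        _ = m * (h' * a * h'⁻¹) * m⁻¹ := by rw [e a ha]
        _ = m * h' * m⁻¹ * (m * a * m⁻¹) * (m * h' * m⁻¹)⁻¹ := by group

/-- Chains over a symmetric step set reverse. -/
theorem symm (c : Chain X T A h) (hX : ∀ x ∈ X, x⁻¹ ∈ X) : Chain X T (cimg h A) h⁻¹ := by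
  induction c with
  | @refl h' hA e =>
    rw [cimg_congr (h := (1 : G)) (by simpa using e), cimg_one]
    refine .refl hA fun a ha => ?_
    calc h'⁻¹ * a * h'⁻¹⁻¹ = h'⁻¹ * (h' * a * h'⁻¹) * h' := by rw [e a ha, inv_inv]
      _ = a := by group
  | @step x g₀ h' hg hx hT e ih =>
    have e' : cimg (x * g₀) A = cimg h' A := cimg_congr e
    rw [← e', cimg_mul]
    have h1 : cimg x⁻¹ (cimg x (cimg g₀ A)) = cimg g₀ A := by
      rw [← cimg_mul x⁻¹ x, inv_mul_cancel, cimg_one]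
    refine ((single (hX x hx) (by rw [← cimg_mul]; exact hT) (h1.symm ▸ hg.dst)).comp
      (h1.symm ▸ ih)).congr ?_
    rintro _ ⟨_, ⟨a, ha, rfl⟩, rfl⟩
    calc g₀⁻¹ * x⁻¹ * (x * (g₀ * a * g₀⁻¹) * x⁻¹) * (g₀⁻¹ * x⁻¹)⁻¹ = a := by group
      _ = h'⁻¹ * (h' * a * h'⁻¹) * h'⁻¹⁻¹ := by group
      _ = h'⁻¹ * (x * g₀ * a * (x * g₀)⁻¹) * h'⁻¹⁻¹ := by rw [e a ha]
      _ = h'⁻¹ * (x * (g₀ * a * g₀⁻¹) * x⁻¹) * h'⁻¹⁻¹ := by group

end Chain

/-! ### Control by a set of control maps -/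

/-- The elements allowed as steps. -/
def stepSet (Φ : Set (Subgroup G → Subgroup G)) (H T : Subgroup G) : Set G :=
  {x | x ∈ H ∧ ∃ F ∈ Φ, x ∈ F T}

theorem inv_mem_stepSet {Φ : Set (Subgroup G → Subgroup G)} {H T : Subgroup G} :
    ∀ x ∈ stepSet Φ H T, x⁻¹ ∈ stepSet Φ H T :=
  fun _ ⟨hx, F, hF, hx'⟩ => ⟨inv_mem hx, F, hF, inv_mem hx'⟩

/-- Control of strong fusion in `H` with respect to a given Sylow subgroup. -/
def SFAt (Φ : Set (Subgroup G → Subgroup G)) (H T : Subgroup G) : Prop :=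
  ∀ (A : Set G) (h : G), h ∈ H → A ⊆ T → cimg h A ⊆ T → Chain (stepSet Φ H T) T A h

/-- The subgroup generated by the local derived subgroups met with `T`. -/
def trGen (Φ : Set (Subgroup G → Subgroup G)) (H T : Subgroup G) : Subgroup G :=
  ⨆ F ∈ Φ, T ⊓ ⁅H ⊓ F T, H ⊓ F T⁆

/-- Control of transfer in `H` with respect to a given Sylow subgroup. -/
def TrAt (Φ : Set (Subgroup G → Subgroup G)) (H T : Subgroup G) : Prop :=
  T ⊓ ⁅H, H⁆ = trGen Φ H T

/-- `Φ` is compatible with conjugation on `p`-subgroups. -/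
def Equi (p : ℕ) (Φ : Set (Subgroup G → Subgroup G)) : Prop :=
  ∀ F ∈ Φ, ∀ Q : Subgroup G, IsPGroup p Q → ∀ g : G, F (conjS g Q) = conjS g (F Q)

theorem trGen_le {Φ : Set (Subgroup G → Subgroup G)} {H T : Subgroup G} :
    trGen Φ H T ≤ T ⊓ ⁅H, H⁆ :=
  iSup₂_le fun _ _ => inf_le_inf_left _ (Subgroup.commutator_mono inf_le_left inf_le_left)

theorem trAt_of_le {Φ : Set (Subgroup G → Subgroup G)} {H T : Subgroup G}
    (h : T ⊓ ⁅H, H⁆ ≤ trGen Φ H T) : TrAt Φ H T :=
  le_antisymm h trGen_le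

theorem le_trGen {Φ : Set (Subgroup G → Subgroup G)} {H T : Subgroup G} {F} (hF : F ∈ Φ) :
    T ⊓ ⁅H ⊓ F T, H ⊓ F T⁆ ≤ trGen Φ H T :=
  le_biSup (fun F : Subgroup G → Subgroup G => T ⊓ ⁅H ⊓ F T, H ⊓ F T⁆) hF

section Indep

variable [Finite G] [Fact p.Prime] {Φ : Set (Subgroup G → Subgroup G)}

theorem SFAt.of_isSyl (hΦ : Equi p Φ) {H T T' : Subgroup G} (h : SFAt Φ H T) (hT : IsSyl p T H)
    (hT' : IsSyl p T' H) : SFAt Φ H T' := by
  obtain ⟨m, hm, rfl⟩ := hT.exists_conj hT'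
  intro A x hx hA hxA
  have hsub : ∀ {B : Set G}, B ⊆ conjS m T → cimg m⁻¹ B ⊆ T := fun {B} hB =>
    cimg_subset_of_le hB (conjS_inv_conjS m T).le
  have h1 := h (cimg m⁻¹ A) (m⁻¹ * x * m) (H.mul_mem (H.mul_mem (inv_mem hm) hx) hm) (hsub hA)
    (by rw [← cimg_mul, show m⁻¹ * x * m * m⁻¹ = m⁻¹ * x by group, cimg_mul]; exact hsub hxA)
  have h2 := h1.conj m
  rw [← cimg_mul, mul_inv_cancel, cimg_one, show m * (m⁻¹ * x * m) * m⁻¹ = x by group] at h2
  refine h2.weaken ?_ le_rfl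
  rintro _ ⟨y, ⟨hyH, F, hF, hy⟩, rfl⟩
  refine ⟨H.mul_mem (H.mul_mem hm hyH) (inv_mem hm), F, hF, ?_⟩
  rw [hΦ F hF T hT.isP]
  exact conj_mem_conjS hy

theorem TrAt.of_isSyl (hΦ : Equi p Φ) {H T T' : Subgroup G} (h : TrAt Φ H T) (hT : IsSyl p T H)
    (hT' : IsSyl p T' H) : TrAt Φ H T' := by
  obtain ⟨m, hm, rfl⟩ := hT.exists_conj hT'
  have hH : conjS m H = H := conjS_eq_of_mem_normalizer (Subgroup.le_normalizer hm)
  have e := congrArg (conjS m) h
  simp only [trGen, conjS_inf, conjS_commutator, conjS_iSup, hH] at e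
  unfold TrAt trGen
  rw [e]
  refine iSup_congr fun F => iSup_congr fun hF => ?_
  rw [hΦ F hF T hT.isP]

end Indep

end Cfsg.Agent.Lib.ConjFunctor.Reach
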