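import Cfsg.Agent.Lib.ConjFunctor.KControl
import Cfsg.Agent.Lib.ZJ.PComplement
import Cfsg.Agent.Lib.Quadratic.QdProps
import Cfsg.Agent.S2795

/-!
# Normal `p`-complements from functors controlling fusion in stable sections
-/

set_option autoImplicit false

namespace Cfsg.Agent.Lib.ConjFunctor.SectionComplement

open Subgroup
open Cfsg.Agent.Lib

universe u

variable {p : ℕ} [hp : Fact p.Prime]

theorem stable_sections_of_noSLTwo (hp2 : p ≠ 2) {X : Type u} [Group X] [Finite X]
    (h : PLocal.NoSLTwo p X) (K R : Subgroup X) [(R.subgroupOf K).Normal] :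
    Cfsg.IsNormalizerPStable p (↥K ⧸ R.subgroupOf K) :=
  (Cfsg.Agent.S2795.result hp2).1 (fun hi => by
    obtain ⟨L, f, hf⟩ := Quadratic.exists_surjective_of_involves
      (Quadratic.involves_trans Quadratic.sl2_involves_qd hi)
    exact h L f hf) K R

/-- A functor controlling fusion in a constrained group is normal there. -/
theorem normal_of_controls {W : ∀ (Q : Type u) [Group Q], Subgroup Q}
    (hW : Cfsg.IsCharPFunctor.{u} p W) {X : Type u} [Group X] [Finite X]
    (hc : centralizer (Cfsg.pCore p X : Set X) ≤ Cfsg.pCore p X) (T : Sylow p X)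
    (h : Cfsg.ControlsStrongFusion p (Cfsg.inducedFunctor W (T : Subgroup X))) :
    (Cfsg.inducedFunctor W (T : Subgroup X)).Normal := by
  obtain ⟨T', -, hT'⟩ := h
  rw [← Subgroup.normalizer_eq_top_iff, eq_top_iff]
  intro g _
  obtain ⟨x, hx, hxe⟩ := (hT' _ (Cores.pCore_le_sylow T')).2 g (by
    rintro _ ⟨a, ha, rfl⟩
    exact Cores.pCore_le_sylow T'
      (Subgroup.Normal.conj_mem (inferInstance : (Cfsg.pCore p X).Normal) a ha g))
  have hC : x⁻¹ * g ∈ centralizer (Cfsg.pCore p X : Set X) := by
    refine Subgroup.mem_centralizer_iff.2 fun a ha => ?_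
    calc a * (x⁻¹ * g) = x⁻¹ * (x * a * x⁻¹) * g := by group
      _ = x⁻¹ * (g * a * g⁻¹) * g := by rw [hxe a ha]
      _ = x⁻¹ * g * a := by group
  have := mul_mem hx (Basic.le_normalizer_w (Section.isConjugacyFunctor_induced hW) T.2
    (Cores.pCore_le_sylow T (hc hC)))
  rwa [mul_inv_cancel_left] at this

/-- Glauberman–Thompson for a functor controlling fusion in stable sections. -/
theorem hasNormalPComplement (hp2 : p ≠ 2) {W : ∀ (Q : Type u) [Group Q], Subgroup Q}
    (hW : Cfsg.IsCharPFunctor.{u} p W) {G : Type u} [Group G] [Finite G]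
    (hctl : ∀ (K R : Subgroup G) [(R.subgroupOf K).Normal],
      (∀ (K' R' : Subgroup (↥K ⧸ R.subgroupOf K)) [(R'.subgroupOf K').Normal],
        Cfsg.IsNormalizerPStable p (↥K' ⧸ R'.subgroupOf K')) →
      ∀ T : Sylow p (↥K ⧸ R.subgroupOf K), Cfsg.ControlsStrongFusion p
        (Cfsg.inducedFunctor (G := (↥K ⧸ R.subgroupOf K)) W
          (T : Subgroup (↥K ⧸ R.subgroupOf K))))
    (P : Sylow p G)
    (hP : Cfsg.HasNormalPComplement p
      (normalizer (Cfsg.inducedFunctor W (P : Subgroup G) : Set G))) :
    Cfsg.HasNormalPComplement p G :=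
  ZJ.PComplement.hasNormalPComplement_of_functor_sections hp2 W hW
    (fun X _ _ hX hns hc T => by
      obtain ⟨K, R, hR, ⟨e'⟩⟩ := hX.exists_iso
      let e := e'.symm
      have hn := normal_of_controls hW (Section.constrained_congr e hc)
        (T.mapSurjective (f := e.toMonoidHom) e.surjective)
        (hctl K R (fun K' R' _ => stable_sections_of_noSLTwo hp2
          (PLocal.noSLTwo_of_surjective hns e.toMonoidHom e.surjective) K' R') _)
      replace hn : (Cfsg.inducedFunctor W ((T : Subgroup X).map e.toMonoidHom)).Normal := hn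
      rw [Section.map_inducedFunctor_of_injective hW e.toMonoidHom e.injective _ T.2] at hn
      have := hn.comap e.toMonoidHom
      rwa [Subgroup.comap_map_eq_self_of_injective (f := e.toMonoidHom) e.injective] at this)
    P hP

end Cfsg.Agent.Lib.ConjFunctor.SectionComplement
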