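import Cfsg.Agent.Lib.ConjFunctor.Section
import Cfsg.Agent.Lib.Transfer.PResidual
import Mathlib.GroupTheory.SchurZassenhaus
import Mathlib.GroupTheory.Transfer

/-!
# The steps of the reduction to constrained sections

Lifting from a quotient by a normal `p'`-subgroup, and the decomposition of a fusion map through
`C = C(P)` for a normal `p`-subgroup `P`.
-/

set_option autoImplicit false
set_option linter.unusedSectionVars false

open Cfsg
open Cfsg.Agent.Lib.Fusion.Alperin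
open Cfsg.Agent.Lib.ConjFunctor.Basic
open Cfsg.Agent.Lib.ConjFunctor.Reach
open Cfsg.Agent.Lib.ConjFunctor.Local
open Cfsg.Agent.Lib.ConjFunctor.Section

open scoped commutatorElement

namespace Cfsg.Agent.Lib.ConjFunctor.Steps

universe u

variable {p : ℕ} [hp : Fact p.Prime] {𝓦 : Set (∀ (Q : Type u) [Group Q], Subgroup Q)}
variable {G : Type u} [Group G] [Finite G]

/-- The step set of the whole group. -/
abbrev topSteps (𝓦 : Set (∀ (Q : Type u) [Group Q], Subgroup Q)) (S : Subgroup G) : Set G :=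
  stepSet (nFam (indSet 𝓦 G)) ⊤ S

theorem stepSet_top_mono {H S : Subgroup G} :
    stepSet (nFam (indSet 𝓦 G)) H S ⊆ topSteps 𝓦 S := fun _ hx => ⟨trivial, hx.2⟩

theorem chain_of_proper {H S : Subgroup G} (h : SFAt (nFam (indSet 𝓦 G)) H S) {A : Set G} {g : G}
    (hg : g ∈ H) (hA : A ⊆ S) (hgA : cimg g A ⊆ S) : Chain (topSteps 𝓦 S) S A g :=
  (h A g hg hA hgA).weaken stepSet_top_mono le_rfl

theorem trGen_top_mono {H S : Subgroup G} :
    trGen (nFam (indSet 𝓦 G)) H S ≤ trGen (nFam (indSet 𝓦 G)) ⊤ S :=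
  iSup₂_mono fun _ _ => inf_le_inf_left _
    (Subgroup.commutator_mono (inf_le_inf_right _ le_top) (inf_le_inf_right _ le_top))

theorem inf_commutator_le_of_proper {H S : Subgroup G} (h : TrAt (nFam (indSet 𝓦 G)) H S) :
    S ⊓ ⁅H, H⁆ ≤ trGen (nFam (indSet 𝓦 G)) ⊤ S :=
  h.trans_le trGen_top_mono

/-! ### Quotient by a normal `p'`-subgroup -/

/-- An element of the quotient normalizing the image of `U` lifts to an element normalizing `U`. -/
theorem exists_lift_normalizer (M : Subgroup G) [M.Normal] {U : Subgroup G} (hU : IsPGroup p U)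
    (hM : ¬ p ∣ Nat.card M) {x : G ⧸ M}
    (hx : x ∈ Subgroup.normalizer (U.map (QuotientGroup.mk' M) : Set (G ⧸ M))) :
    ∃ y ∈ Subgroup.normalizer (U : Set G), QuotientGroup.mk' M y = x := by
  obtain ⟨y, rfl⟩ := QuotientGroup.mk'_surjective M x
  set K := U ⊔ M with hK
  have hUK : IsSyl p U K := by
    refine ⟨le_sup_left, hU, fun hdvd => hM ?_⟩
    have h1 : U.relIndex K ∣ Nat.card M := by
      have hd : Nat.card (U ⊔ M : Subgroup G) ∣ Nat.card U * Nat.card M := Cores.card_sup_dvd_mul U M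
      have h2 := Subgroup.relIndex_mul_relIndex (⊥ : Subgroup G) U K bot_le le_sup_left
      rw [Subgroup.relIndex_bot_left, Subgroup.relIndex_bot_left] at h2
      rw [← hK, ← h2] at hd
      exact (Nat.mul_dvd_mul_iff_left Nat.card_pos).1 hd
    exact hdvd.trans h1
  have hyK : conjS y U ≤ K := by
    intro z hz
    rw [mem_conjS] at hz
    have h1 : QuotientGroup.mk' M (y⁻¹ * z * y) ∈ U.map (QuotientGroup.mk' M) := ⟨_, hz, rfl⟩
    have h2 := (Subgroup.mem_normalizer_iff.1 hx _).1 h1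
    obtain ⟨u, hu, he⟩ := h2
    have he' : QuotientGroup.mk' M u = QuotientGroup.mk' M z := by
      rw [he]; simp [mul_assoc]
    obtain ⟨m, hm, rfl⟩ := (QuotientGroup.mk'_eq_mk' M).1 he'
    exact mul_mem (le_sup_left (a := U) hu) (le_sup_right (a := U) hm)
  have h2 : IsSyl p (conjS y U) K := isSyl_of_maximal (hU.map _) hyK fun V hV hVK hle =>
    (Subgroup.eq_of_le_of_card_ge hle ((hUK.card_le hV hVK).trans (card_conjS y U).ge)).symm
  obtain ⟨k, hk, hkU⟩ := h2.exists_conj hUK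
  have hk' : k ∈ ((U ⊔ M : Subgroup G) : Set G) := hk
  rw [Subgroup.mul_normal U M] at hk'
  obtain ⟨u, hu, m, hm, rfl⟩ := hk'
  refine ⟨m * y, mem_normalizer_of_conjS_eq ?_, ?_⟩
  · rw [conjS_mul] at hkU ⊢
    have h3 : conjS u⁻¹ U = U := conjS_eq_of_mem_normalizer (Subgroup.le_normalizer (inv_mem hu))
    exact (conjS_inv_conjS u _).symm.trans ((congrArg (conjS u⁻¹) hkU).trans h3)
  · rw [map_mul, (QuotientGroup.eq_one_iff m).2 hm |> fun h => (show QuotientGroup.mk' M m = 1 from h),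
      one_mul]

theorem sylow_inf_eq_bot (S : Sylow p G) {M : Subgroup G} (hM : ¬ p ∣ Nat.card M) :
    (S : Subgroup G) ⊓ M = ⊥ :=
  (Transfer.PResidual.disjoint_of_not_dvd hM S.2).symm.eq_bot

theorem sf_of_quotient (h𝓦 : ∀ W ∈ 𝓦, IsCharPFunctor.{u} p W) (M : Subgroup G) [M.Normal]
    (hM : ¬ p ∣ Nat.card M) (h : SF 𝓦 p (G ⧸ M)) : SF 𝓦 p G := by
  intro S A g _ hA hgA
  set π := QuotientGroup.mk' M with hπ
  have hπs := QuotientGroup.mk'_surjective M
  have hSM := sylow_inf_eq_bot S hM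
  have hinj : (S : Subgroup G) ⊓ π.ker = ⊥ := by rw [hπ, QuotientGroup.ker_mk']; exact hSM
  have hcore : ∀ {a b : G}, a ∈ (S : Subgroup G) → b ∈ (S : Subgroup G) → π a = π b → a = b := by
    intro a b ha hb he
    have h1 : a⁻¹ * b ∈ (S : Subgroup G) ⊓ M :=
      Subgroup.mem_inf.2 ⟨mul_mem (inv_mem ha) hb, (QuotientGroup.eq).1 he⟩
    rw [hSM, Subgroup.mem_bot, inv_mul_eq_one] at h1
    exact h1
  suffices H : ∀ (B : Set (G ⧸ M)) (x : G ⧸ M),
      Chain (stepSet (nFam (indSet 𝓦 (G ⧸ M))) ⊤ ((S : Subgroup G).map π)) ((S : Subgroup G).map π) B x →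
      π '' A = B → ∃ y, Chain (topSteps 𝓦 (S : Subgroup G)) (S : Subgroup G) A y ∧
        ∀ a ∈ A, π (y * a * y⁻¹) = x * π a * x⁻¹ by
    obtain ⟨y, hy, he⟩ := H _ (π g)
      (h (S.mapSurjective hπs) (π '' A) (π g) trivial (Set.image_mono hA)
        (by rw [← image_cimg]; exact Set.image_mono hgA)) rfl
    refine hy.congr fun a ha => hcore (hy.dst (mem_cimg ha)) (hgA (mem_cimg ha)) ?_
    rw [he a ha, map_mul, map_mul, map_inv]
  intro B x c
  induction c with
  | @refl x hB e =>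
    intro hAB; subst hAB
    exact ⟨1, .refl hA (by simp), fun a ha => by simpa using (e _ ⟨a, ha, rfl⟩).symm⟩
  | @step x g₀ h' _ hx hT e ih =>
    intro hAB; subst hAB
    obtain ⟨y, hy, hey⟩ := ih rfl
    obtain ⟨_, ⟨W, hW, rfl⟩, -, hxW⟩ := mem_stepSet_nFam.1 hx
    simp only [map_inducedFunctor (h𝓦 W hW) π (S : Subgroup G) S.2 hinj] at hxW
    set U := inducedFunctor W (S : Subgroup G) with hU
    have hUp : IsPGroup p U := S.2.to_le (Subgroup.map_subtype_le _)
    obtain ⟨x₀, hx₀, rfl⟩ := exists_lift_normalizer M hUp hM hxW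
    set N := Subgroup.normalizer (U : Set G) with hN
    have hSN : (S : Subgroup G) ≤ N :=
      le_normalizer_w (isConjugacyFunctor_induced (h𝓦 W hW)) S.2
    set H₀ := (S : Subgroup G) ⊔ (N ⊓ M) with hH₀
    have hnorm : (S : Subgroup G) ≤ Subgroup.normalizer ((N ⊓ M : Subgroup G) : Set G) := by
      intro s hs
      apply mem_normalizer_of_conjS_eq
      rw [conjS_inf, conjS_eq_of_mem_normalizer (Subgroup.le_normalizer (hSN hs)),
        conjS_eq_of_mem_normalizer (Subgroup.le_normalizer_of_normal (H := M) (K := ⊤) trivial)]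
    have hsrc : ∀ a ∈ A, x₀ * (y * a * y⁻¹) * x₀⁻¹ ∈ H₀ := by
      intro a ha
      have hN' : x₀ * (y * a * y⁻¹) * x₀⁻¹ ∈ N :=
        mul_mem (mul_mem hx₀ (hSN (hy.dst (mem_cimg ha)))) (inv_mem hx₀)
      have h1 : π (x₀ * (y * a * y⁻¹) * x₀⁻¹) ∈ (S : Subgroup G).map π := by
        have h2 : (π x₀ * g₀) * π a * (π x₀ * g₀)⁻¹ ∈ (S : Subgroup G).map π :=
          hT (mem_cimg ⟨a, ha, rfl⟩)
        rw [map_mul, map_mul, map_inv, hey a ha]
        simpa [mul_assoc] using h2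
      obtain ⟨s, hs, he⟩ := h1
      obtain ⟨m, hm, hsm⟩ := (QuotientGroup.mk'_eq_mk' M).1 he
      rw [← hsm]
      refine mul_mem (le_sup_left (a := (S : Subgroup G)) hs)
        (le_sup_right (a := (S : Subgroup G)) ⟨?_, hm⟩)
      have h3 := mul_mem (inv_mem (hSN hs)) (hsm ▸ hN' : s * m ∈ N)
      rwa [inv_mul_cancel_left] at h3
    have hBp : IsPGroup p (conjS x₀ (conjS y (Subgroup.closure A))) := by
      refine IsPGroup.map ?_ _
      refine IsPGroup.map (S.2.to_le ((Subgroup.closure_le _).2 hA)) _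
    have hBH : conjS x₀ (conjS y (Subgroup.closure A)) ≤ H₀ := by
      rw [← conjS_mul, conjS, MonoidHom.map_closure, Subgroup.closure_le]
      rintro _ ⟨a, ha, rfl⟩
      simpa [mul_assoc] using hsrc a ha
    obtain ⟨c, hc, hcB⟩ :=
      ((isSyl_top S).mono (le_sup_left : _ ≤ H₀) le_top).exists_conj_le hBp hBH
    have hc' : c ∈ (H₀ : Set G) := hc
    rw [hH₀, Subgroup.coe_mul_of_left_le_normalizer_right _ _ hnorm] at hc'
    obtain ⟨s, hs, m, hm, rfl⟩ := hc'
    have hmx : cimg (m * x₀) (cimg y A) ⊆ (S : Subgroup G) := by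
      rintro _ ⟨_, ⟨a, ha, rfl⟩, rfl⟩
      have h1 : s * m * (x₀ * (y * a * y⁻¹) * x₀⁻¹) * (s * m)⁻¹ ∈ (S : Subgroup G) :=
        hcB (conj_mem_conjS (conj_mem_conjS (conj_mem_conjS (Subgroup.subset_closure ha))))
      have h2 := mul_mem (mul_mem (inv_mem hs) h1) hs
      rw [show s⁻¹ * (s * m * (x₀ * (y * a * y⁻¹) * x₀⁻¹) * (s * m)⁻¹) * s =
        m * x₀ * (y * a * y⁻¹) * (m * x₀)⁻¹ by group] at h2
      exact h2
    refine ⟨m * x₀ * y, ?_, fun a ha => ?_⟩
    · exact hy.comp (Chain.single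
        (mem_stepSet_nFam.2 ⟨_, ⟨W, hW, rfl⟩, trivial, mul_mem hm.1 hx₀⟩) hy.dst hmx)
    · rw [← e (π a) ⟨a, ha, rfl⟩]
      have hm1 : π m = 1 := (QuotientGroup.eq_one_iff m).2 hm.2
      calc π (m * x₀ * y * a * (m * x₀ * y)⁻¹) = π m * π x₀ * π (y * a * y⁻¹) * (π m * π x₀)⁻¹ := by
            simp [mul_assoc]
        _ = π x₀ * (g₀ * π a * g₀⁻¹) * (π x₀)⁻¹ := by rw [hey a ha, hm1, one_mul]
        _ = π x₀ * g₀ * π a * (π x₀ * g₀)⁻¹ := by group

theorem tr_of_quotient (h𝓦 : ∀ W ∈ 𝓦, IsCharPFunctor.{u} p W) (M : Subgroup G) [M.Normal]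
    (hM : ¬ p ∣ Nat.card M) (h : Tr 𝓦 p (G ⧸ M)) : Tr 𝓦 p G := by
  intro S
  set π := QuotientGroup.mk' M with hπ
  have hπs := QuotientGroup.mk'_surjective M
  have hSM := sylow_inf_eq_bot S hM
  have hinj : (S : Subgroup G) ⊓ π.ker = ⊥ := by rw [hπ, QuotientGroup.ker_mk']; exact hSM
  refine trAt_of_le fun z hz => ?_
  have h1 : π z ∈ (S : Subgroup G).map π ⊓ ⁅(⊤ : Subgroup (G ⧸ M)), ⊤⁆ := by
    refine ⟨⟨z, hz.1, rfl⟩, ?_⟩
    have := Subgroup.mem_map_of_mem π hz.2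
    rwa [Subgroup.map_commutator, Subgroup.map_top_of_surjective π hπs] at this
  have h2 : π z ∈ (trGen (nFam (indSet 𝓦 G)) ⊤ (S : Subgroup G)).map π := by
    have he : TrAt (nFam (indSet 𝓦 (G ⧸ M))) ⊤ ((S : Subgroup G).map π) := h (S.mapSurjective hπs)
    rw [he, trGen_nFam] at h1
    refine (iSup₂_le fun F hF => ?_ : _ ≤ (trGen (nFam (indSet 𝓦 G)) ⊤ (S : Subgroup G)).map π) h1
    obtain ⟨W, hW, rfl⟩ := hF
    rintro q ⟨⟨s, hs, rfl⟩, hq⟩
    refine ⟨s, ?_, rfl⟩
    have hF : nF (fun Q => inducedFunctor W Q) ∈ nFam (indSet 𝓦 G) := ⟨_, ⟨W, hW, rfl⟩, rfl⟩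
    refine le_trGen hF (Subgroup.mem_inf.2 ⟨hs, ?_⟩)
    show s ∈ ⁅(⊤ : Subgroup G) ⊓ Subgroup.normalizer
      ((inducedFunctor W (S : Subgroup G) : Subgroup G) : Set G),
      (⊤ : Subgroup G) ⊓ Subgroup.normalizer
      ((inducedFunctor W (S : Subgroup G) : Subgroup G) : Set G)⁆
    set U := inducedFunctor W (S : Subgroup G) with hU
    set N := Subgroup.normalizer (U : Set G) with hN
    have hSN : (S : Subgroup G) ≤ N :=
      le_normalizer_w (isConjugacyFunctor_induced (h𝓦 W hW)) S.2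
    have hUp : IsPGroup p U := S.2.to_le (Subgroup.map_subtype_le _)
    simp only [map_inducedFunctor (h𝓦 W hW) π (S : Subgroup G) S.2 hinj, top_inf_eq] at hq
    have hle : Subgroup.normalizer ((U.map π : Subgroup (G ⧸ M)) : Set (G ⧸ M)) ≤ N.map π :=
      fun x hx => let ⟨y, hy, he⟩ := exists_lift_normalizer M hUp hM hx; ⟨y, hy, he⟩
    obtain ⟨w, hw, hwe⟩ : π s ∈ ⁅N, N⁆.map π := by
      rw [Subgroup.map_commutator]; exact Subgroup.commutator_mono hle hle hq
    obtain ⟨m, hm, hwm⟩ := (QuotientGroup.mk'_eq_mk' M).1 hwe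
    rw [top_inf_eq]
    -- `s = w m` with `m ∈ N ⊓ M`, so a power of `s` prime to `p` lies in `N'`
    have hwN : w ∈ N := (Subgroup.commutator_le_self (H := N)) hw
    have hmN : m ∈ N := by
      have := mul_mem (inv_mem hwN) (hSN hs)
      rwa [← hwm, inv_mul_cancel_left] at this
    haveI : ((⁅N, N⁆).subgroupOf N).Normal := by
      have : (⁅N, N⁆).subgroupOf N = commutator N := by
        rw [← Subgroup.map_subtype_commutator]
        exact Subgroup.comap_map_eq_self_of_injective N.subtype_injective _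
      rw [this]; infer_instance
    let ρ := QuotientGroup.mk' ((⁅N, N⁆).subgroupOf N)
    have hρw : ρ ⟨w, hwN⟩ = 1 := (QuotientGroup.eq_one_iff _).2 hw
    have hρ : ρ ⟨s, hSN hs⟩ = ρ ⟨m, hmN⟩ := by
      rw [show (⟨s, hSN hs⟩ : N) = ⟨w, hwN⟩ * ⟨m, hmN⟩ from Subtype.ext hwm.symm, map_mul, hρw,
        one_mul]
    obtain ⟨k, hk⟩ := S.2 ⟨s, hs⟩
    have h3 : orderOf (ρ ⟨s, hSN hs⟩) ∣ p ^ k := by
      apply orderOf_dvd_of_pow_eq_one
      rw [← map_pow, show (⟨s, hSN hs⟩ : N) ^ (p ^ k) = 1 from Subtype.ext (show s ^ (p ^ k) = 1 by simpa using congrArg Subtype.val hk),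
        map_one]
    have h4 : orderOf (ρ ⟨m, hmN⟩) ∣ Nat.card M := by
      apply orderOf_dvd_of_pow_eq_one
      rw [← map_pow, show (⟨m, hmN⟩ : N) ^ Nat.card M = 1 from Subtype.ext
        (show m ^ Nat.card M = 1 from congrArg Subtype.val (pow_card_eq_one' (x := (⟨m, hm⟩ : M)))),
        map_one]
    rw [← hρ] at h4
    have h5 : ρ ⟨s, hSN hs⟩ = 1 := orderOf_eq_one_iff.1 (Nat.eq_one_of_dvd_coprimes
      ((hp.out.coprime_iff_not_dvd.2 hM).pow_left k) h3 h4)
    exact (QuotientGroup.eq_one_iff (⟨s, hSN hs⟩ : N)).1 h5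
  obtain ⟨w, hw, hwe⟩ := h2
  have hwS : w ∈ (S : Subgroup G) := (trGen_le hw).1
  have h3 : w⁻¹ * z ∈ (S : Subgroup G) ⊓ M :=
    Subgroup.mem_inf.2 ⟨mul_mem (inv_mem hwS) hz.1, (QuotientGroup.eq).1 hwe⟩
  rw [hSM, Subgroup.mem_bot, inv_mul_eq_one] at h3
  exact h3 ▸ hw

/-! ### The centralizer of `O_p` -/

/-- If a Sylow subgroup of `C = C(P)` is normal in `G` and `O_{p'}(G) = 1`, `P = O_p(G)`, then `G`
is constrained. -/
theorem constrained_of_normal (hcore : pPrimeCore p G = ⊥) (S : Sylow p G)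
    (h : ((S : Subgroup G) ⊓ Subgroup.centralizer (pCore p G : Set G)).Normal) :
    Constrained p G := by
  set P := pCore p G with hP
  set C := Subgroup.centralizer (P : Set G) with hC
  set Z := (S : Subgroup G) ⊓ C with hZ
  have hZP : Z ≤ P := Cores.le_pCore (S.2.to_le inf_le_left)
  haveI hCn : C.Normal := ⟨fun x hx g => by
    rw [hC, Subgroup.mem_centralizer_iff] at hx ⊢
    intro a ha
    have h1 := hx (g⁻¹ * a * g) ((pCore_normal p G).conj_mem' a ha g)
    calc a * (g * x * g⁻¹) = g * ((g⁻¹ * a * g) * x) * g⁻¹ := by group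
      _ = g * (x * (g⁻¹ * a * g)) * g⁻¹ := by rw [h1]
      _ = g * x * g⁻¹ * a := by group⟩
  have hsyl : IsSyl p Z C := by
    have h1 := (isSyl_top S).inf_normal (N := C) Subgroup.le_normalizer_of_normal
    rwa [top_inf_eq] at h1
  haveI : (Z.subgroupOf C).Normal :=
    (Subgroup.normal_subgroupOf_iff_le_normalizer inf_le_right).2 Subgroup.le_normalizer_of_normal
  have hcop : Nat.Coprime (Nat.card (Z.subgroupOf C)) (Z.subgroupOf C).index := by
    obtain ⟨n, hn⟩ := IsPGroup.iff_card.1 (hsyl.isP.comap_subtype (K := C))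
    rw [show Nat.card (Z.subgroupOf C) = p ^ n from hn]
    exact (hp.out.coprime_iff_not_dvd.2 hsyl.nd).pow_left n
  obtain ⟨K, hK⟩ := Subgroup.exists_right_complement'_of_coprime hcop
  have hKn : K.Normal := by
    rw [← Subgroup.normalizer_eq_top_iff, eq_top_iff, ← hK.sup_eq_top]
    refine sup_le (fun z hz => ?_) Subgroup.le_normalizer
    refine Subgroup.centralizer_le_normalizer _ (Subgroup.mem_centralizer_iff.2 fun k _ => ?_)
    exact Subtype.ext (Subgroup.mem_centralizer_iff.1 k.2 _ (hZP hz)).symm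
  haveI := hKn
  have hKcop : (Nat.card K).Coprime p := by
    rw [← hK.symm.index_eq_card] at *
    exact ((hp.out.coprime_iff_not_dvd.2 hsyl.nd)).symm
  have hKbot : K.map C.subtype = ⊥ := by
    refine le_bot_iff.1 ?_
    rw [← hcore]
    refine (Subgroup.map_mono (Cores.le_pPrimeCore hKcop)).trans ?_
    haveI := Cores.normal_map_subtype C (pPrimeCore p C)
    refine Cores.le_pPrimeCore ?_
    rw [Subgroup.card_map_of_injective C.subtype_injective]
    exact Cores.pPrimeCore_coprime p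
  rw [Subgroup.map_eq_bot_iff_of_injective _ C.subtype_injective] at hKbot
  intro c hc
  apply hZP
  have : (⟨c, hc⟩ : C) ∈ Z.subgroupOf C := by
    have := hK.sup_eq_top
    rw [hKbot, sup_bot_eq] at this
    rw [this]; trivial
  exact this

/-- Decomposition of a fusion map through `C` and `N(S ∩ C)`. -/
theorem exists_decomp (S : Sylow p G) {C : Subgroup G} [C.Normal] {A : Set G} {h : G}
    (hA : A ⊆ (S : Subgroup G)) (hhA : cimg h A ⊆ (S : Subgroup G)) :
    ∃ c ∈ C, ∃ n ∈ Subgroup.normalizer (((S : Subgroup G) ⊓ C : Subgroup G) : Set G),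
      h = c * n ∧ cimg n A ⊆ (S : Subgroup G) := by
  set N := Subgroup.normalizer (((S : Subgroup G) ⊓ C : Subgroup G) : Set G) with hN
  obtain ⟨c, hc, n, hn, rfl⟩ := (isSyl_top S).frattini (N := C) le_top
    Subgroup.le_normalizer_of_normal (Subgroup.mem_top h)
  have hn' : n ∈ N := hn.2
  have hSC : ∀ s ∈ (S : Subgroup G), ∀ d, d ∈ C → s⁻¹ * d * s ∈ C := fun s _ d hd =>
    Subgroup.Normal.conj_mem' inferInstance d hd s
  have hSN : (S : Subgroup G) ≤ N := by
    intro s hs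
    apply mem_normalizer_of_conjS_eq
    rw [conjS_inf, conjS_eq_of_mem_normalizer (Subgroup.le_normalizer hs),
      conjS_eq_of_mem_normalizer (Subgroup.le_normalizer_of_normal (H := C) (K := ⊤) trivial)]
  set H₀ := (S : Subgroup G) ⊔ (N ⊓ C) with hH₀
  have hnorm : (S : Subgroup G) ≤ Subgroup.normalizer ((N ⊓ C : Subgroup G) : Set G) := by
    intro s hs
    apply mem_normalizer_of_conjS_eq
    rw [conjS_inf, conjS_eq_of_mem_normalizer (Subgroup.le_normalizer (hSN hs)),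
      conjS_eq_of_mem_normalizer (Subgroup.le_normalizer_of_normal (H := C) (K := ⊤) trivial)]
  have hsrc : conjS n (Subgroup.closure A) ≤ H₀ := by
    rw [conjS, MonoidHom.map_closure, Subgroup.closure_le]
    rintro _ ⟨a, ha, rfl⟩
    have hnN : n * a * n⁻¹ ∈ N := mul_mem (mul_mem hn' (hSN (hA ha))) (inv_mem hn')
    have hs : c * n * a * (c * n)⁻¹ ∈ (S : Subgroup G) := hhA (mem_cimg ha)
    set s := c * n * a * (c * n)⁻¹ with hs'
    have e : n * a * n⁻¹ = s * ((s⁻¹ * c⁻¹ * s) * c) := by rw [hs']; group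
    show n * a * n⁻¹ ∈ H₀
    rw [e] at hnN ⊢
    refine mul_mem (le_sup_left (a := (S : Subgroup G)) hs)
      (le_sup_right (a := (S : Subgroup G)) ⟨?_, mul_mem (hSC s hs _ (inv_mem hc)) hc⟩)
    have := mul_mem (inv_mem (hSN hs)) hnN
    rwa [inv_mul_cancel_left] at this
  obtain ⟨d, hd, hdA⟩ := ((isSyl_top S).mono (le_sup_left : _ ≤ H₀) le_top).exists_conj_le
    ((S.2.to_le ((Subgroup.closure_le _).2 hA)).map _) hsrc
  have hd' : d ∈ (H₀ : Set G) := hd
  rw [hH₀, Subgroup.coe_mul_of_left_le_normalizer_right _ _ hnorm] at hd'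
  obtain ⟨s, hs, m, hm, rfl⟩ := hd'
  refine ⟨c * m⁻¹, mul_mem hc (inv_mem hm.2), m * n, mul_mem hm.1 hn', by group, ?_⟩
  rintro _ ⟨a, ha, rfl⟩
  have h1 : s * m * (n * a * n⁻¹) * (s * m)⁻¹ ∈ (S : Subgroup G) :=
    hdA (conj_mem_conjS (conj_mem_conjS (Subgroup.subset_closure ha)))
  have h2 := mul_mem (mul_mem (inv_mem hs) h1) hs
  rw [show s⁻¹ * (s * m * (n * a * n⁻¹) * (s * m)⁻¹) * s = m * n * a * (m * n)⁻¹ by group] at h2
  exact h2

end Cfsg.Agent.Lib.ConjFunctor.Steps
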