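import Cfsg.Prelude.Def_PLocal
import Cfsg.Prelude.Def_Transfer
import Cfsg.Agent.Lib.ConjFunctor.Reduce

/-!
# The conjugates of `Ω₁Z(S)` under the normalizers of two functor values
-/

set_option autoImplicit false
set_option linter.unusedSectionVars false
set_option linter.style.haveILetI false

open Cfsg
open Cfsg.Agent.Lib.Fusion.Alperin
open Cfsg.Agent.Lib.ConjFunctor.Basic

namespace Cfsg.Agent.Lib.ConjFunctor.TripleFactor

universe u

variable {p : ℕ} [hp : Fact p.Prime]

/-- `Ω₁ Z(T)`. -/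
def zO {G : Type*} [Group G] (p : ℕ) (T : Subgroup G) : Subgroup G :=
  omegaOne p (T ⊓ Subgroup.centralizer (T : Set G))

theorem zO_le {G : Type*} [Group G] (T : Subgroup G) :
    zO p T ≤ T ⊓ Subgroup.centralizer (T : Set G) :=
  (Subgroup.closure_le _).2 fun _ hx => hx.1

theorem map_zO {G H : Type*} [Group G] [Group H] (f : G →* H) (T : Subgroup G)
    (hf : T ⊓ f.ker = ⊥) : zO p (T.map f) = (zO p T).map f := by
  have hinj : ∀ a ∈ T, ∀ b ∈ T, f a = f b → a = b := fun a ha b hb h => by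
    have h1 : a⁻¹ * b ∈ T ⊓ f.ker := Subgroup.mem_inf.2 ⟨mul_mem (inv_mem ha) hb, by
      rw [MonoidHom.mem_ker, map_mul, map_inv, h, inv_mul_cancel]⟩
    rw [hf, Subgroup.mem_bot] at h1
    exact inv_mul_eq_one.1 h1
  rw [zO, zO, omegaOne, omegaOne, MonoidHom.map_closure]
  congr 1
  ext y
  constructor
  · intro hy
    obtain ⟨⟨x, hx, rfl⟩, hC⟩ := Subgroup.mem_inf.1 hy.1
    refine ⟨x, ⟨Subgroup.mem_inf.2 ⟨hx, Subgroup.mem_centralizer_iff.2 fun z hz => ?_⟩, ?_⟩, rfl⟩
    · exact hinj _ (mul_mem hz hx) _ (mul_mem hx hz) (by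
        rw [map_mul, map_mul]
        exact Subgroup.mem_centralizer_iff.1 hC _ ⟨z, hz, rfl⟩)
    · exact hinj _ (pow_mem hx p) _ T.one_mem (by rw [map_pow, map_one]; exact hy.2)
  · rintro ⟨x, ⟨hx, hxp⟩, rfl⟩
    refine ⟨Subgroup.mem_inf.2 ⟨⟨x, (Subgroup.mem_inf.1 hx).1, rfl⟩,
      Subgroup.mem_centralizer_iff.2 ?_⟩, by rw [← map_pow, hxp, map_one]⟩
    rintro _ ⟨z, hz, rfl⟩
    rw [← map_mul, ← map_mul, Subgroup.mem_centralizer_iff.1 (Subgroup.mem_inf.1 hx).2 z hz]

/-- The subgroup generated by the conjugates of `Z` under `N`. -/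
def conjClosure {G : Type*} [Group G] (Z N : Subgroup G) : Subgroup G :=
  Subgroup.closure {y | ∃ z ∈ Z, ∃ n ∈ N, n * z * n⁻¹ = y}

theorem mem_conjClosure {G : Type*} [Group G] {Z N : Subgroup G} {z n : G} (hz : z ∈ Z) (hn : n ∈ N) :
    n * z * n⁻¹ ∈ conjClosure Z N := Subgroup.subset_closure ⟨z, hz, n, hn, rfl⟩

theorem le_normalizer_conjClosure {G : Type*} [Group G] [Finite G] (Z N : Subgroup G) :
    N ≤ Subgroup.normalizer (conjClosure Z N : Set G) := by
  intro m hm
  refine mem_normalizer_of_forall fun a ha => ?_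
  induction ha using Subgroup.closure_induction with
  | mem x hx =>
    obtain ⟨z, hz, n, hn, rfl⟩ := hx
    rw [show m * (n * z * n⁻¹) * m⁻¹ = m * n * z * (m * n)⁻¹ by group]
    exact mem_conjClosure hz (N.mul_mem hm hn)
  | one => simp
  | mul a b _ _ ha hb =>
    rw [show m * (a * b) * m⁻¹ = m * a * m⁻¹ * (m * b * m⁻¹) by group]; exact mul_mem ha hb
  | inv a _ ha =>
    rw [show m * a⁻¹ * m⁻¹ = (m * a * m⁻¹)⁻¹ by group]; exact inv_mem ha

variable {W V : ∀ (Q : Type u) [Group Q], Subgroup Q}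

/-- Every `N(W T)`-conjugate of `Ω₁Z(T)` lies in the subgroup generated by its `N(V T)`-conjugates. -/
theorem conj_mem (hW : IsCharPFunctor.{u} p W) (hV : IsCharPFunctor.{u} p V) {G : Type u} [Group G]
    [Finite G]
    (hfac : ∀ (K R : Subgroup G) [(R.subgroupOf K).Normal],
      Section.Constrained p (↥K ⧸ R.subgroupOf K) → ∀ T : Sylow p (↥K ⧸ R.subgroupOf K),
      ∀ x : ↥K ⧸ R.subgroupOf K,
        ∃ a ∈ Subgroup.centralizer (zO p (T : Subgroup (↥K ⧸ R.subgroupOf K)) : Set (↥K ⧸ R.subgroupOf K)),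
        ∃ b ∈ Subgroup.normalizer ((inducedFunctor V (T : Subgroup (↥K ⧸ R.subgroupOf K)) :
          Subgroup (↥K ⧸ R.subgroupOf K)) : Set (↥K ⧸ R.subgroupOf K)), x = a * b)
    (X : Type u) [Group X] [Finite X] (hX : Section.IsSection X G) (S : Sylow p X)
    (hZW : zO p (S : Subgroup X) ≤ inducedFunctor W (S : Subgroup X))
    (hZV : zO p (S : Subgroup X) ≤ inducedFunctor V (S : Subgroup X)) :
    ∀ g ∈ Subgroup.normalizer ((inducedFunctor W (S : Subgroup X) : Subgroup X) : Set X),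
    ∀ z ∈ zO p (S : Subgroup X), g * z * g⁻¹ ∈ conjClosure (zO p (S : Subgroup X))
      (Subgroup.normalizer ((inducedFunctor V (S : Subgroup X) : Subgroup X) : Set X)) := by
  induction hn : Nat.card X using Nat.strong_induction_on generalizing X with
  | _ n ih =>
  subst hn
  intro g hg z hz
  have hWc := Section.isConjugacyFunctor_induced hW (X := X)
  have hVc := Section.isConjugacyFunctor_induced hV (X := X)
  set WS := inducedFunctor W (S : Subgroup X) with hWS
  set N₂ := Subgroup.normalizer ((inducedFunctor V (S : Subgroup X) : Subgroup X) : Set X) with hN₂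
  set Z := zO p (S : Subgroup X) with hZdef
  -- the statement inside a proper subgroup containing `S`
  have hprop : ∀ H : Subgroup X, H ≠ ⊤ → (S : Subgroup X) ≤ H → ∀ m ∈ H,
      m ∈ Subgroup.normalizer (WS : Set X) → m * z * m⁻¹ ∈ conjClosure Z N₂ := by
    intro H hH hSH m hmH hm
    have hT : IsSyl p (S : Subgroup X) H := (isSyl_top S).mono hSH le_top
    set T := hT.toSylowOf with hTdef
    have hTs : (T : Subgroup H).map H.subtype = S := by
      rw [hTdef, hT.coe_toSylowOf, Subgroup.map_subgroupOf_eq_of_le hT.le]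
    have hz' : zO p (S : Subgroup X) = (zO p (T : Subgroup H)).map H.subtype := by
      rw [← hTs]
      exact map_zO H.subtype _ (by rw [Subgroup.ker_subtype, inf_bot_eq])
    have hW' : inducedFunctor W (S : Subgroup X) = (inducedFunctor W (T : Subgroup H)).map H.subtype := by
      rw [← hTs]; exact Section.map_inducedFunctor_of_injective hW _ H.subtype_injective _ T.2
    have hV' : inducedFunctor V (S : Subgroup X) = (inducedFunctor V (T : Subgroup H)).map H.subtype := by
      rw [← hTs]; exact Section.map_inducedFunctor_of_injective hV _ H.subtype_injective _ T.2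
    rw [hZdef, hz'] at hz
    obtain ⟨z', hz'', rfl⟩ := hz
    have hnorm : ∀ {A : Subgroup H} {k : H}, (k : X) ∈ Subgroup.normalizer ((A.map H.subtype : Subgroup X) : Set X) ↔
        k ∈ Subgroup.normalizer (A : Set H) := by
      intro A k
      constructor
      · intro hk
        refine mem_normalizer_of_forall fun a ha => ?_
        obtain ⟨b, hb, he⟩ := (Subgroup.mem_normalizer_iff.1 hk _).1 ⟨a, ha, rfl⟩
        rwa [show k * a * k⁻¹ = b from Subtype.ext he.symm]
      · intro hk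
        exact Subgroup.le_normalizer_map (H := A) H.subtype ⟨k, hk, rfl⟩
    have h := ih (Nat.card H) (Reduce.card_subgroup_lt hH) H (hX.subgroup H) T
      ((Subgroup.map_le_map_iff_of_injective H.subtype_injective).1 (by rw [← hz', ← hW']; exact hZW))
      ((Subgroup.map_le_map_iff_of_injective H.subtype_injective).1 (by rw [← hz', ← hV']; exact hZV))
      rfl ⟨m, hmH⟩ (hnorm.1 (by rw [← hW']; exact hm)) z' hz''
    have h2 : (conjClosure (zO p (T : Subgroup H))
        (Subgroup.normalizer ((inducedFunctor V (T : Subgroup H) : Subgroup H) : Set H))).map H.subtype ≤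
        conjClosure Z N₂ := by
      rw [conjClosure, MonoidHom.map_closure, Subgroup.closure_le]
      rintro _ ⟨_, ⟨w, hw, k, hk, rfl⟩, rfl⟩
      refine Subgroup.subset_closure ⟨w, ?_, k, ?_, by simp⟩
      · rw [hZdef, hz']; exact ⟨w, hw, rfl⟩
      · rw [hN₂, hV']; exact hnorm.2 hk
    exact h2 ⟨_, h, by simp⟩
  by_cases htop : Subgroup.normalizer (WS : Set X) = ⊤
  swap
  · exact hprop _ htop (le_normalizer_w hWc S.2) g hg hg
  haveI hWn : WS.Normal := Subgroup.normalizer_eq_top_iff.1 htop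
  by_cases hcore : pPrimeCore p X = ⊥
  swap
  · -- pass to the quotient by `O_{p'}`
    set M := pPrimeCore p X with hM
    have hMp : ¬ p ∣ Nat.card M := Cores.not_dvd_card_pPrimeCore p
    have hSM : (S : Subgroup X) ⊓ M = ⊥ := by
      rw [inf_comm]; exact (Transfer.PResidual.disjoint_of_not_dvd hMp S.2).eq_bot
    set π := QuotientGroup.mk' M with hπ
    have hker : (S : Subgroup X) ⊓ π.ker = ⊥ := by rwa [hπ, QuotientGroup.ker_mk']
    set T := S.mapSurjective (QuotientGroup.mk'_surjective M) with hT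
    have hTc : (T : Subgroup (X ⧸ M)) = (S : Subgroup X).map π := Sylow.coe_mapSurjective _ _
    have h := ih (Nat.card (X ⧸ M)) (Reduce.card_quotient_lt hcore) (X ⧸ M)
      (hX.quotient π (QuotientGroup.mk'_surjective M)) T
      (by rw [hTc, map_zO π _ hker, Section.map_inducedFunctor hW π _ S.2 hker]
          exact Subgroup.map_mono hZW)
      (by rw [hTc, map_zO π _ hker, Section.map_inducedFunctor hV π _ S.2 hker]
          exact Subgroup.map_mono hZV)
      rfl (π g)
      (by rw [hTc, Section.map_inducedFunctor hW π _ S.2 hker]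
          exact Subgroup.le_normalizer_map π ⟨g, hg, rfl⟩)
      (π z) (by rw [hTc, map_zO π _ hker]; exact ⟨z, hz, rfl⟩)
    have h2 : conjClosure (zO p (T : Subgroup (X ⧸ M)))
        (Subgroup.normalizer ((inducedFunctor V (T : Subgroup (X ⧸ M)) : Subgroup (X ⧸ M)) : Set (X ⧸ M))) ≤
        (conjClosure Z N₂).map π := by
      rw [conjClosure, Subgroup.closure_le]
      rintro _ ⟨w, hw, k, hk, rfl⟩
      rw [hTc, map_zO π _ hker] at hw
      rw [hTc, Section.map_inducedFunctor hV π _ S.2 hker] at hk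
      obtain ⟨w', hw', rfl⟩ := hw
      obtain ⟨k', hk', rfl⟩ := Steps.exists_lift_normalizer M (S.2.to_le (w_le hVc S.2)) hMp hk
      exact ⟨k' * w' * k'⁻¹, mem_conjClosure hw' hk', by rw [map_mul, map_mul, map_inv]⟩
    obtain ⟨y, hy, hye⟩ := h2 h
    have hA2 : conjClosure Z N₂ ≤ (S : Subgroup X) := by
      rw [conjClosure, Subgroup.closure_le]
      rintro _ ⟨w, hw, k, hk, rfl⟩
      exact w_le hVc S.2 ((Subgroup.mem_normalizer_iff.1 hk w).1 (hZV hw))
    have hgz : g * z * g⁻¹ ∈ (S : Subgroup X) := w_le hWc S.2 (hWn.conj_mem z (hZW hz) g)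
    have h3 : y⁻¹ * (g * z * g⁻¹) ∈ (S : Subgroup X) ⊓ M := by
      refine Subgroup.mem_inf.2 ⟨mul_mem (inv_mem (hA2 hy)) hgz, ?_⟩
      rw [← QuotientGroup.eq_one_iff]
      change π (y⁻¹ * (g * z * g⁻¹)) = 1
      rw [map_mul, map_inv, hye]
      simp
    rw [hSM, Subgroup.mem_bot, inv_mul_eq_one] at h3
    exact h3 ▸ hy
  by_cases hc : Section.Constrained p X
  · obtain ⟨K, R, hR, ⟨e⟩⟩ := hX.exists_iso
    haveI := hR
    set T : Sylow p (↥K ⧸ R.subgroupOf K) :=
      S.mapSurjective (f := e.symm.toMonoidHom) e.symm.surjective with hT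
    have hTc : (T : Subgroup (↥K ⧸ R.subgroupOf K)) = (S : Subgroup X).map e.symm.toMonoidHom :=
      Sylow.coe_mapSurjective _ _
    have hker : (S : Subgroup X) ⊓ e.symm.toMonoidHom.ker = ⊥ := by
      rw [(MonoidHom.ker_eq_bot_iff _).2 e.symm.injective, inf_bot_eq]
    obtain ⟨a, ha, b, hb, hab⟩ := hfac K R (Section.constrained_congr e.symm hc) T (e.symm g⁻¹)
    have hz' : e.symm z ∈ zO p (T : Subgroup (↥K ⧸ R.subgroupOf K)) := by
      rw [hTc, map_zO _ _ hker]; exact ⟨z, hz, rfl⟩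
    have hb' : e b ∈ N₂ := by
      rw [hTc, Section.map_inducedFunctor hV _ _ S.2 hker,
        ← Subgroup.map_equiv_normalizer_eq _ e.symm] at hb
      obtain ⟨b', hb', rfl⟩ := hb
      simpa using hb'
    have h1 : e.symm (g * z * g⁻¹) = e.symm ((e b)⁻¹ * z * (e b)⁻¹⁻¹) := by
      have hg' : e.symm g = b⁻¹ * a⁻¹ := by
        rw [← mul_inv_rev, ← hab, map_inv, inv_inv]
      simp only [map_mul, map_inv, e.symm_apply_apply]
      rw [hg']
      have hc' := Subgroup.mem_centralizer_iff.1 (inv_mem ha) _ hz'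
      calc b⁻¹ * a⁻¹ * e.symm z * (b⁻¹ * a⁻¹)⁻¹
          = b⁻¹ * (a⁻¹ * e.symm z) * (b⁻¹ * a⁻¹)⁻¹ := by group
        _ = b⁻¹ * (e.symm z * a⁻¹) * (b⁻¹ * a⁻¹)⁻¹ := by rw [← hc']
        _ = b⁻¹ * e.symm z * b⁻¹⁻¹ := by group
    rw [e.symm.injective h1]
    exact mem_conjClosure hz (inv_mem hb')
  -- not constrained: `Z ≤ W S ≤ O_p(X)`, so `C(O_p(X))` fixes all conjugates of `z`
  set C := Subgroup.centralizer ((pCore p X : Subgroup X) : Set X) with hC
  haveI := Reduce.centralizer_normal (pCore p X)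
  have hWP : WS ≤ pCore p X := Cores.le_pCore (S.2.to_le (w_le hWc S.2))
  obtain ⟨c, hcC, m, hm, he⟩ := (isSyl_top S).frattini (N := C) le_top
    Subgroup.le_normalizer_of_normal (Subgroup.mem_top g)
  have hmz : m * z * m⁻¹ ∈ pCore p X := hWP (hWn.conj_mem z (hZW hz) m)
  rw [he, show c * m * z * (c * m)⁻¹ = c * (m * z * m⁻¹) * c⁻¹ by group,
    ← Subgroup.mem_centralizer_iff.1 hcC _ hmz, mul_inv_cancel_right]
  refine hprop _ (Reduce.normalizer_inf_ne_top hcore hc S) (Reduce.sylow_le_normalizer_inf S C) m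
    (Subgroup.mem_inf.1 hm).2 ?_
  rw [htop]; trivial

end Cfsg.Agent.Lib.ConjFunctor.TripleFactor
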